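import Cfsg.Agent.Lib.DegreeThreeP.Defs
import Cfsg.Agent.Lib.Blocks.DihedralOrder
import Cfsg.Agent.Lib.Blocks.KleinPrincipal
import Cfsg.Agent.Lib.CharApps.KleinFourOrder
import Cfsg.Agent.Lib.Small.Basic

/-!
# The order formulas as inequalities

Brauer's order formulas for a Sylow four group and for a dihedral Sylow subgroup of order eight,
with one class of involutions, give two-sided bounds on the group order; comparing the bound for
the group with the bound for a point stabilizer excludes the cases of rank three.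
-/

set_option autoImplicit false
set_option linter.style.haveILetI false
set_option linter.unusedSectionVars false

namespace CfsgLib.DegreeThreeP

open MulAction Cfsg CfsgLib.Chars CfsgLib.Blocks CfsgLib.Involutions

universe u v

/-! ### The four group -/

theorem klein_bound : KleinBoundStmt.{u} := by
  classical
  intro X _ _ P hP hone J hJ hJ2
  haveI := Fintype.ofFinite X
  haveI : Fact (Nat.Prime 2) := ⟨Nat.prime_two⟩
  obtain ⟨M, hM⟩ := CfsgLib.CharApps.exists_pModular 2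
  haveI := isPrime_of_isPModular hM
  obtain ⟨g₀, hg₀, hG⟩ : ∃ g₀, Odd g₀ ∧ Nat.card X = 4 * g₀ := by
    refine ⟨(P : Subgroup X).index, ?_, ?_⟩
    · exact Nat.odd_iff.2 (Nat.two_dvd_ne_zero.1 P.not_dvd_index)
    · rw [← hP.card_four, Subgroup.card_mul_index]
  have hnc : ¬ ∃ N : Subgroup X, N.Normal ∧ Nat.card N = g₀ := by
    rintro ⟨N, hNn, hNc⟩
    haveI := hNn
    haveI := hP
    have hidx : N.index = 2 ^ 2 := by
      have h1 := N.card_mul_index
      rw [hNc, hG, mul_comm 4] at h1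
      exact Nat.eq_of_mul_eq_mul_left hg₀.pos h1
    have hab := IsPGroup.commutative_of_card_eq_prime_sq (G := X ⧸ N) (p := 2)
      (by rw [← Subgroup.index_eq_card, hidx])
    obtain ⟨y, hy, hy1, hyJ⟩ : ∃ y ∈ (P : Subgroup X), y ≠ 1 ∧ y ≠ J := by
      by_contra! hall
      have hle : (P : Subgroup X) ≤ Subgroup.zpowers J := fun y hy => by
        by_cases h1 : y = 1
        · rw [h1]; exact one_mem _
        · rw [hall y hy h1]; exact Subgroup.mem_zpowers J
      have := Subgroup.card_le_of_le hle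
      rw [hP.card_four, Nat.card_zpowers, hJ2] at this
      omega
    have hord : ∀ w ∈ (P : Subgroup X), w ≠ 1 → orderOf w = 2 := by
      intro w hw h1
      refine orderOf_eq_prime ?_ h1
      rw [sq]
      exact congrArg Subtype.val (IsKleinFour.mul_self (⟨w, hw⟩ : (P : Subgroup X)))
    obtain ⟨w, hw⟩ := isConj_iff.1 (hone _ _ hJ2 (hord y hy hy1))
    have e : (QuotientGroup.mk' N) J = QuotientGroup.mk' N y := by
      rw [← hw, map_mul, map_mul, hab, ← mul_assoc, ← map_mul, inv_mul_cancel, map_one, one_mul]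
    have hmem : J⁻¹ * y ∈ N := (QuotientGroup.eq).1 e
    have := Subgroup.orderOf_dvd_natCard N hmem
    rw [hord _ (mul_mem (inv_mem hJ) hy) (fun h => hyJ (inv_mul_eq_one.1 h).symm), hNc] at this
    exact Nat.not_even_iff_odd.2 hg₀ (even_iff_two_dvd.2 this)
  obtain ⟨K⟩ := exists_kleinData hM P hP hone (J := J) hJ2
  let T : CfsgLib.CharApps.KleinBlock M P J :=
    { χ₁ := K.X, χ₂ := K.Y, χ₃ := K.Z, ε₁ := 1, ε₂ := K.ε, ε₃ := -1
      setup := CfsgLib.CharApps.kleinSetup_of_card hg₀ hG hnc P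
      mem := hJ, two := hJ2
      block := fun χ => by rw [K.block]; simp
      ne₁ := K.X_ne, ne₂ := K.Y_ne, ne₃ := K.Z_ne, ne₁₂ := K.XY, ne₁₃ := K.XZ, ne₂₃ := K.YZ
      pm₁ := Or.inl rfl, pm₂ := K.ε_cases, pm₃ := Or.inr rfl
      val₁ := by rw [K.valX]; simp
      val₂ := K.valY
      val₃ := by rw [K.valZ]; simp }
  obtain ⟨s, -, hs, hord⟩ := T.order_identity hM
  change (Nat.card X : ℤ) * (((charDegree (K.X : X → ℂ) : ℤ) + 1) *
    ((charDegree (K.Y : X → ℂ) : ℤ) + K.ε) * ((charDegree (K.Z : X → ℂ) : ℤ) + -1)) =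
    8 * (s : ℤ) ^ 2 * Nat.card (Subgroup.centralizer ({J} : Set X)) *
      ((charDegree (K.X : X → ℂ) : ℤ) * charDegree (K.Y : X → ℂ) *
        charDegree (K.Z : X → ℂ)) at hord
  have hx : (0 : ℤ) < charDegree (K.X : X → ℂ) := by exact_mod_cast CfsgLib.CharApps.deg_pos K.X
  have hy : (0 : ℤ) < charDegree (K.Y : X → ℂ) := by exact_mod_cast CfsgLib.CharApps.deg_pos K.Y
  have hz : (0 : ℤ) < charDegree (K.Z : X → ℂ) := by exact_mod_cast CfsgLib.CharApps.deg_pos K.Z
  have hmy := K.modY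
  have hmz := K.modZ
  have hdeg : ∀ η : IrrCharacter X, ∀ m : ℕ,
      (∀ η : IrrCharacter X, η ≠ principal X → m ≤ charDegree (η : X → ℂ)) → η ≠ principal X →
      (m : ℤ) ≤ charDegree (η : X → ℂ) := fun η m h hne => by exact_mod_cast h η hne
  have hX := hdeg K.X
  have hY := hdeg K.Y
  have hZ := hdeg K.Z
  generalize (charDegree (K.X : X → ℂ) : ℤ) = x at hx hord hX
  generalize (charDegree (K.Y : X → ℂ) : ℤ) = y at hy hmy hord hY
  generalize (charDegree (K.Z : X → ℂ) : ℤ) = z at hz hmz hord hZ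
  have hz3 : 3 ≤ z := by omega
  have hyp : 0 < y + K.ε ∧ y + K.ε ≤ 2 * y ∧ y - 1 ≤ y + K.ε := by
    rcases K.ε_cases with e | e <;> rw [e] at hmy ⊢ <;> omega
  unfold cC
  have hs' : (s : ℤ) * Nat.card (Subgroup.centralizer ((P : Subgroup X) : Set X)) =
      Nat.card (Subgroup.centralizer ({J} : Set X)) := by exact_mod_cast hs
  have key : (Nat.card X : ℤ) * (Nat.card (Subgroup.centralizer ((P : Subgroup X) : Set X)) : ℤ) ^ 2 *
      ((x + 1) * (y + K.ε) * (z + -1)) =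
      8 * (Nat.card (Subgroup.centralizer ({J} : Set X)) : ℤ) ^ 3 * (x * y * z) := by
    rw [← hs'] at hord ⊢
    linear_combination (Nat.card (Subgroup.centralizer ((P : Subgroup X) : Set X)) : ℤ) ^ 2 * hord
  have hB : (0 : ℤ) < (x + 1) * (y + K.ε) * (z + -1) :=
    mul_pos (mul_pos (by omega) hyp.1) (by omega)
  have hc : (0 : ℤ) ≤ (Nat.card (Subgroup.centralizer ({J} : Set X)) : ℤ) ^ 3 := by positivity
  constructor
  · have h4 : (x + 1) * (y + K.ε) * (z + -1) ≤ (2 * x) * (2 * y) * z :=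
      mul_le_mul (mul_le_mul (by omega) hyp.2.1 hyp.1.le (by omega)) (by omega) (by omega)
        (by positivity)
    have h5 := mul_le_mul_of_nonneg_left h4 (mul_nonneg (show (0 : ℤ) ≤ 2 by norm_num) hc)
    have h6 : 2 * (Nat.card (Subgroup.centralizer ({J} : Set X)) : ℤ) ^ 3 *
        ((x + 1) * (y + K.ε) * (z + -1)) ≤
        (Nat.card X : ℤ) * (Nat.card (Subgroup.centralizer ((P : Subgroup X) : Set X)) : ℤ) ^ 2 *
        ((x + 1) * (y + K.ε) * (z + -1)) := by linarith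
    exact_mod_cast le_of_mul_le_mul_right h6 hB
  · intro m hm hmdeg
    have h1 := hX m hmdeg K.X_ne
    have h2 := hY m hmdeg K.Y_ne
    have h3 := hZ m hmdeg K.Z_ne
    have hm1 : (1 : ℤ) ≤ m := by exact_mod_cast (show 1 ≤ m by omega)
    have e1 : ((m : ℤ) - 1) * x ≤ m * (x + 1) := by nlinarith
    have e2 : ((m : ℤ) - 1) * y ≤ m * (y + K.ε) := by
      have := mul_le_mul_of_nonneg_left hyp.2.2 (show (0 : ℤ) ≤ m by omega)
      linarith
    have e3 : ((m : ℤ) - 1) * z ≤ m * (z + -1) := by linarith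
    have hm0 : (0 : ℤ) ≤ (m : ℤ) - 1 := by omega
    have h4 : (((m : ℤ) - 1) * x) * (((m : ℤ) - 1) * y) * (((m : ℤ) - 1) * z) ≤
        (m * (x + 1)) * (m * (y + K.ε)) * (m * (z + -1)) :=
      mul_le_mul (mul_le_mul e1 e2 (by positivity) (mul_nonneg (by omega) (by omega))) e3
        (by positivity) (mul_nonneg (mul_nonneg (by omega) (by omega))
          (mul_nonneg (by omega) hyp.1.le))
    have h5 := mul_le_mul_of_nonneg_left h4 (mul_nonneg (show (0 : ℤ) ≤ 8 by norm_num) hc)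
    have key2 := congrArg (fun a : ℤ => a * ((m : ℤ) - 1) ^ 3) key
    have h6 : (Nat.card X : ℤ) *
        (Nat.card (Subgroup.centralizer ((P : Subgroup X) : Set X)) : ℤ) ^ 2 * ((m : ℤ) - 1) ^ 3 *
        ((x + 1) * (y + K.ε) * (z + -1)) ≤
        8 * (m : ℤ) ^ 3 * (Nat.card (Subgroup.centralizer ({J} : Set X)) : ℤ) ^ 3 *
        ((x + 1) * (y + K.ε) * (z + -1)) := by linarith
    have h7 := le_of_mul_le_mul_right h6 hB
    rw [show ((m : ℤ) - 1) = ((m - 1 : ℕ) : ℤ) by omega] at h7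
    exact_mod_cast h7

/-! ### The dihedral group of order eight -/

private theorem exists_dp_eight {X : Type u} [Group X] {P : Subgroup X} {σ τ : X} (hσ : σ ∈ P)
    (hτ : τ ∈ P) (hσo : orderOf σ = 4) (hτo : orderOf τ = 2) (hrel : τ * σ * τ⁻¹ = σ⁻¹)
    (hgen : Subgroup.closure ({σ, τ} : Set X) = P) :
    ∃ d : DP P, d.n = 2 ∧ d.x = σ ∧ d.z = σ ^ 2 ∧ d.r 0 = τ ∧ d.r 1 = σ * τ := by
  have hτ2 : τ * τ = 1 := invol_mul_self hτo
  have hnot : τ ∉ Subgroup.zpowers σ := by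
    rintro ⟨i, hi⟩
    have h1 : τ * σ * τ⁻¹ = σ := by
      rw [← hi]; exact mul_inv_eq_iff_eq_mul.2 ((Commute.refl σ).zpow_left i).eq
    rw [hrel] at h1
    have h2 : σ ^ 2 = 1 := by rw [sq]; nth_rewrite 1 [← h1]; exact inv_mul_cancel σ
    have h3 := Nat.le_of_dvd two_pos (hσo ▸ orderOf_dvd_of_pow_eq_one h2)
    omega
  have hcomm : ∀ i : ℤ, τ * σ ^ i = σ ^ (-i) * τ := fun i => by
    rw [← mul_inv_eq_iff_eq_mul, ← conj_zpow, hrel, inv_zpow, zpow_neg]
  have hcover : ∀ g ∈ P, (∃ i : ℤ, g = σ ^ i) ∨ ∃ i : ℤ, g = σ ^ i * τ := by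
    intro g hg
    rw [← hgen] at hg
    induction hg using Subgroup.closure_induction with
    | mem a ha =>
      rcases ha with rfl | rfl
      · exact Or.inl ⟨1, (zpow_one _).symm⟩
      · exact Or.inr ⟨0, by rw [zpow_zero, one_mul]⟩
    | one => exact Or.inl ⟨0, (zpow_zero _).symm⟩
    | mul a b _ _ iha ihb =>
      rcases iha with ⟨i, rfl⟩ | ⟨i, rfl⟩ <;> rcases ihb with ⟨j, rfl⟩ | ⟨j, rfl⟩
      · exact Or.inl ⟨i + j, (zpow_add _ _ _).symm⟩
      · exact Or.inr ⟨i + j, by rw [zpow_add, mul_assoc]⟩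
      · exact Or.inr ⟨i + -j, by rw [mul_assoc, hcomm, ← mul_assoc, zpow_add]⟩
      · exact Or.inl ⟨i + -j, by
          rw [mul_assoc, ← mul_assoc τ, hcomm, mul_assoc (σ ^ (-j)), hτ2, mul_one, zpow_add]⟩
    | inv a _ iha =>
      rcases iha with ⟨i, rfl⟩ | ⟨i, rfl⟩
      · exact Or.inl ⟨-i, (zpow_neg _ _).symm⟩
      · exact Or.inr ⟨i, by rw [mul_inv_rev, invol_inv hτo, ← zpow_neg, hcomm, neg_neg]⟩
  refine ⟨⟨2, σ, τ, by omega, hσ, hτ, by rw [hσo]; norm_num, hτo, hrel, hnot, hcover⟩,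
    rfl, rfl, ?_, ?_, ?_⟩
  · show σ ^ ((2 : ℤ) ^ (2 - 1)) = _
    rw [show ((2 : ℤ) ^ (2 - 1)) = ((2 : ℕ) : ℤ) by norm_num, zpow_natCast]
  · show σ ^ (0 : ℤ) * τ = τ
    rw [zpow_zero, one_mul]
  · show σ ^ (1 : ℤ) * τ = σ * τ
    rw [zpow_one]

theorem dihedral_bound : DihedralBoundStmt.{u} := by
  classical
  intro X _ _ P σ τ hσ hτ hσo hτo hrel hgen hone
  haveI := Fintype.ofFinite X
  haveI : Fact (Nat.Prime 2) := ⟨Nat.prime_two⟩
  obtain ⟨M, hM⟩ := CfsgLib.CharApps.exists_pModular 2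
  haveI := isPrime_of_isPModular hM
  obtain ⟨d, hdn, hdx, hdz, hr0, hr1⟩ := exists_dp_eight hσ hτ hσo hτo hrel hgen
  obtain ⟨ζ, hζ⟩ : ∃ ζ : ℂ, IsPrimitiveRoot ζ (2 ^ d.n) :=
    ⟨_, Complex.isPrimitiveRoot_exp _ (pow_ne_zero _ two_ne_zero)⟩
  obtain ⟨-, χ, Y, Z, E, δ, _δ₂, _δ₃, hδ, -, -, -, hχ, -, -, -, -, -, -, hblock, hvals, -⟩ :=
    dihedral_principalBlock d hM (by rw [hdn]) hζ
  have hχB : χ ∈ principalBlock M X := by
    rw [hblock]; exact Or.inr (Or.inl rfl)
  have h2 : orderOf (σ ^ 2) = 2 := by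
    rw [orderOf_pow' _ two_ne_zero, hσo]; norm_num
  obtain ⟨hne, hform⟩ := dihedral_order_formula d hM (by rw [hdn])
    (fun s hs => hdz ▸ hone _ _ h2 hs) χ hχB hχ δ hδ fun l h1 h2 => (hvals l h1 h2).1
  rw [hr0, hr1, hdz] at hform
  unfold cC cPair
  have hx : 0 < charDegree (χ : X → ℂ) := CfsgLib.CharApps.deg_pos χ
  obtain ⟨Q, hQ, hQ0⟩ : ∃ Q : ℚ, Q = (Nat.card (Subgroup.centralizer ({σ ^ 2} : Set X)) : ℚ) ^ 3 *
      (1 / (Nat.card (Subgroup.centralizer ({σ ^ 2, τ} : Set X)) : ℚ) +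
        1 / (Nat.card (Subgroup.centralizer ({σ ^ 2, σ * τ} : Set X)) : ℚ)) ^ 2 ∧ 0 ≤ Q :=
    ⟨_, rfl, by positivity⟩
  have hform' : (Nat.card X : ℚ) * ((charDegree (χ : X → ℂ) : ℚ) - δ) ^ 2 =
      2 * (charDegree (χ : X → ℂ) : ℚ) * ((charDegree (χ : X → ℂ) : ℚ) + δ) * Q := by
    rw [hform, hQ]; ring
  have hX0 : (0 : ℚ) < Nat.card X := Nat.cast_pos.2 Nat.card_pos
  have hd2 : (0 : ℚ) < ((charDegree (χ : X → ℂ) : ℚ) - δ) ^ 2 := by
    refine pow_two_pos_of_ne_zero (sub_ne_zero.2 ?_)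
    exact_mod_cast hne
  -- the degree is at least two
  have hx2 : 2 ≤ charDegree (χ : X → ℂ) := by
    by_contra hlt
    have e : charDegree (χ : X → ℂ) = 1 := by omega
    rcases hδ with rfl | rfl
    · exact hne (by rw [e]; norm_num)
    · rw [e] at hform'; norm_num at hform'
  have hx2' : (2 : ℚ) ≤ charDegree (χ : X → ℂ) := by exact_mod_cast hx2
  have hdeg : ∀ m : ℕ, (∀ η : IrrCharacter X, η ≠ principal X → m ≤ charDegree (η : X → ℂ)) →
      (m : ℚ) ≤ charDegree (χ : X → ℂ) := fun m h => by exact_mod_cast h χ hχ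
  generalize (charDegree (χ : X → ℂ) : ℚ) = x at hform' hd2 hx2' hdeg
  rw [show ∀ a b : ℚ, 4 * a * b = 4 * (a * b) from fun a b => mul_assoc _ _ _, ← hQ]
  constructor
  · have h1 : 4 * (x - δ) ^ 2 ≤ 9 * (2 * x * (x + δ)) := by
      rcases hδ with rfl | rfl <;> push_cast <;> nlinarith
    refine le_of_mul_le_mul_right ?_ hd2
    nlinarith [mul_le_mul_of_nonneg_left h1 hQ0]
  · intro m hm hmdeg
    have hxm := hdeg m hmdeg
    have hm5 : (5 : ℚ) ≤ m := by exact_mod_cast hm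
    constructor
    · have h1 : (x - δ) ^ 2 ≤ 2 * x * (x + δ) := by
        rcases hδ with rfl | rfl <;> push_cast <;> nlinarith
      refine le_of_mul_le_mul_right ?_ hd2
      nlinarith [mul_le_mul_of_nonneg_left h1 hQ0]
    · have h1 : 2 * x * (x + δ) * ((m : ℚ) - 1) ^ 2 ≤ 2 * m * (m + 1) * (x - δ) ^ 2 := by
        rcases hδ with rfl | rfl <;> push_cast
        · nlinarith [mul_nonneg (sub_nonneg.2 hxm)
            (show (0 : ℚ) ≤ 3 * x * m - x - m - 1 by nlinarith)]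
        · have k1 : x * (x - 1) * ((m : ℚ) - 1) ^ 2 ≤ (x + 1) ^ 2 * (m * (m + 1)) :=
            mul_le_mul (by nlinarith) (by nlinarith) (sq_nonneg _) (sq_nonneg _)
          linarith
      have h2 := mul_le_mul_of_nonneg_left h1 hQ0
      rw [show ∀ a b c : ℚ, 2 * c * (c + 1) * a * b = 2 * c * (c + 1) * (a * b) from
        fun a b c => mul_assoc _ _ _, ← hQ]
      refine le_of_mul_le_mul_right ?_ hd2
      rw [show (Nat.card X : ℚ) * ((m : ℚ) - 1) ^ 2 * (x - δ) ^ 2 =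
        ((Nat.card X : ℚ) * (x - δ) ^ 2) * ((m : ℚ) - 1) ^ 2 by ring, hform']
      linarith

/-! ### Point stabilizers -/

variable {G : Type u} [Group G] {Ω : Type v} [MulAction G Ω]

private theorem card_centralizer_subgroup (H : Subgroup G) (S : Set H) :
    Nat.card (Subgroup.centralizer S) =
      Nat.card (Subgroup.centralizer (Subtype.val '' S) ⊓ H : Subgroup G) := by
  refine Nat.card_congr ⟨fun x => ⟨((x : H) : G), Subgroup.mem_centralizer_iff.2 ?_, (x : H).2⟩,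
    fun x => ⟨⟨(x : G), x.2.2⟩, Subgroup.mem_centralizer_iff.2 fun s hs => Subtype.ext ?_⟩,
    fun _ => rfl, fun _ => rfl⟩
  · rintro _ ⟨s, hs, rfl⟩
    exact congrArg Subtype.val (Subgroup.mem_centralizer_iff.1 x.2 s hs)
  · exact Subgroup.mem_centralizer_iff.1 x.2.1 _ ⟨s, hs, rfl⟩

private theorem smul_mem_fixedBy_of_mem_centralizer {t g : G} {x : Ω}
    (hg : g ∈ Subgroup.centralizer ({t} : Set G)) (hx : t • x = x) : t • g • x = g • x := by
  rw [smul_smul, ← Subgroup.mem_centralizer_singleton_iff.1 hg, ← smul_smul, hx]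

private theorem cC_eq_of_isConj {s t : G} (h : IsConj s t) : cC s = cC t := by
  obtain ⟨c, hc⟩ := isConj_iff.1 h
  refine Nat.card_congr ⟨fun x => ⟨c * x * c⁻¹, ?_⟩, fun x => ⟨c⁻¹ * x * c, ?_⟩,
    fun x => Subtype.ext (by group), fun x => Subtype.ext (by group)⟩
  · have e := Subgroup.mem_centralizer_singleton_iff.1 x.2
    rw [Subgroup.mem_centralizer_singleton_iff, ← hc,
      show c * x * c⁻¹ * (c * s * c⁻¹) = c * ((x : G) * s) * c⁻¹ by group, e]
    group
  · have e : (x : G) * (c * s * c⁻¹) = c * s * c⁻¹ * x :=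
      hc.symm ▸ Subgroup.mem_centralizer_singleton_iff.1 x.2
    rw [Subgroup.mem_centralizer_singleton_iff,
      show c⁻¹ * x * c * s = c⁻¹ * ((x : G) * (c * s * c⁻¹)) * c by group, e]
    group

/-- Rank three with `p ≡ 3` modulo four does not occur. -/
theorem three_three : ThreeThreeStmt.{u, v} := by
  intro G _ _ Ω _ _ p h hp4
  haveI := h.simple
  haveI := h.prim
  haveI : Fact (Nat.Prime 2) := ⟨Nat.prime_two⟩
  have hp3 := h.three_lt
  obtain ⟨P⟩ := (inferInstance : Nonempty (Sylow 2 G))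
  -- an involution central in a Sylow subgroup
  obtain ⟨s, hs⟩ : ∃ s : G, orderOf s = 2 := by
    obtain ⟨u, hu⟩ : ∃ u : G, orderOf u = p := by
      haveI := Fact.mk h.prime
      refine exists_prime_orderOf_dvd_card' p ?_
      obtain ⟨P', hP'⟩ := h.norm
      exact (dvd_mul_left p 2).trans (hP' ▸ Subgroup.card_subgroup_dvd_card _)
    obtain ⟨t, ht, -⟩ := h.invert u hu
    exact ⟨t, ht⟩
  haveI : Nontrivial (P : Subgroup G) := by
    rw [Subgroup.nontrivial_iff_ne_bot]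
    exact P.ne_bot_of_dvd_card (hs ▸ orderOf_dvd_natCard s)
  haveI := P.2.center_nontrivial
  obtain ⟨⟨z, hz⟩, hzord⟩ := exists_prime_orderOf_dvd_card'
    (G := Subgroup.center (P : Subgroup G)) 2 (by
      obtain ⟨n, hn⟩ := IsPGroup.iff_card.1 (P.2.to_subgroup (Subgroup.center (P : Subgroup G)))
      have h1 := Finite.one_lt_card (α := Subgroup.center (P : Subgroup G))
      rw [hn] at h1 ⊢
      exact dvd_pow_self 2 fun e => by rw [e, pow_zero] at h1; omega)
  obtain ⟨t, htdef⟩ : ∃ t, t = (z : G) := ⟨_, rfl⟩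
  have ht : orderOf t = 2 := by
    rw [Subgroup.orderOf_mk, ← Subgroup.orderOf_coe] at hzord
    rw [htdef]; exact hzord
  have hPC : (P : Subgroup G) ≤ Subgroup.centralizer ({t} : Set G) := fun y hy =>
    Subgroup.mem_centralizer_singleton_iff.2
      (htdef ▸ congrArg Subtype.val ((Subgroup.mem_center_iff.1 hz) ⟨y, hy⟩))
  -- the Sylow subgroup has order four
  obtain ⟨k, hk⟩ := IsPGroup.iff_card.1 P.2
  have hP4 : Nat.card (P : Subgroup G) = 4 := by
    obtain ⟨c0, hc0⟩ : Nat.card (P : Subgroup G) ∣ cC t := Subgroup.card_dvd_of_le hPC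
    have hG := (P : Subgroup G).card_mul_index
    have hf := h.formula t ht
    obtain ⟨w, hw⟩ : ∃ w, p - 1 = 2 * w ∧ Odd w := ⟨(p - 1) / 2, by omega, Nat.odd_iff.2 (by omega)⟩
    have hodd : Odd (P : Subgroup G).index :=
      Nat.odd_iff.2 (Nat.two_dvd_ne_zero.1 P.not_dvd_index)
    have hc0odd : Odd c0 := by
      refine Nat.odd_iff.2 (Nat.two_dvd_ne_zero.1 fun hd => P.not_dvd_index ?_)
      have h1 : cC t ∣ Nat.card G := Subgroup.card_subgroup_dvd_card _
      rw [hc0, ← hG] at h1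
      exact hd.trans (Nat.dvd_of_mul_dvd_mul_left Nat.card_pos h1)
    rw [← hG, hc0, hw.1] at hf
    have hpodd : Odd (p * (2 * p - 1)) :=
      (Nat.odd_iff.2 (by omega)).mul (Nat.odd_iff.2 (by omega))
    have e : 4 * ((P : Subgroup G).index * w) =
        (p * (2 * p - 1) * c0 ^ 2) * Nat.card (P : Subgroup G) :=
      Nat.eq_of_mul_eq_mul_left (Nat.card_pos (α := (P : Subgroup G))) (by linarith)
    refine Nat.dvd_antisymm ?_ ?_
    · have h1 : Nat.card (P : Subgroup G) ∣ 4 * ((P : Subgroup G).index * w) :=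
        ⟨p * (2 * p - 1) * c0 ^ 2, by rw [e]; ring⟩
      refine Nat.Coprime.dvd_of_dvd_mul_right ?_ h1
      rw [hk]
      exact Nat.Coprime.pow_left k (Nat.coprime_two_left.2 (hodd.mul hw.2))
    · refine (Nat.Coprime.pow_left 2 (Nat.coprime_two_left.2 (hpodd.mul (hc0odd.pow (n := 2))))
        : (2 ^ 2).Coprime _).dvd_of_dvd_mul_left ?_
      exact ⟨(P : Subgroup G).index * w, by rw [← e]⟩
  have hncyc : ¬ IsCyclic (P : Subgroup G) := CfsgLib.Small.minFac_sylow_not_isCyclic h.nonab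
    ((Nat.minFac_eq_two_iff _).2 (hs ▸ orderOf_dvd_natCard s)) P
  have hK : IsKleinFour (P : Subgroup G) :=
    { card_four := hP4
      exponent_two := by
        exact (not_isCyclic_iff_exponent_eq_prime Nat.prime_two (by rw [hP4]; norm_num)).1 hncyc }
  haveI : IsMulCommutative (P : Subgroup G) :=
    IsPGroup.isMulCommutative_of_card_eq_prime_sq (p := 2) (by rw [hP4]; norm_num)
  -- the stabilizer of the fixed point
  obtain ⟨a, ha⟩ : ∃ a, fixedBy Ω t = {a} := by
    have h1 := h.fix t ht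
    rw [fx, f0, if_neg (by omega), Nat.card_coe_set_eq] at h1
    exact Set.ncard_eq_one.1 h1
  have hta : t ∈ stabilizer G a := (ha ▸ Set.mem_singleton a : a ∈ fixedBy Ω t)
  have hCH : Subgroup.centralizer ({t} : Set G) ≤ stabilizer G a := fun g hg => by
    have : g • a ∈ fixedBy Ω t := smul_mem_fixedBy_of_mem_centralizer hg hta
    rwa [ha] at this
  have hconjH : ∀ x y : stabilizer G a, orderOf x = 2 → orderOf y = 2 → IsConj x y := by
    have huniq : ∀ y : stabilizer G a, orderOf y = 2 → ∀ b : Ω, (y : G) • b = b → b = a := by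
      intro y hy b hb
      have h1 := h.fix (y : G) (by rw [Subgroup.orderOf_coe]; exact hy)
      rw [fx, f0, if_neg (by omega), Nat.card_coe_set_eq] at h1
      obtain ⟨q, hq⟩ := Set.ncard_eq_one.1 h1
      have h2 : a ∈ fixedBy Ω (y : G) := y.2
      have h3 : b ∈ fixedBy Ω (y : G) := hb
      rw [hq, Set.mem_singleton_iff] at h2 h3
      rw [h2, h3]
    intro x y hx hy
    obtain ⟨c, hc⟩ := isConj_iff.1 (h.conj (x : G) (y : G) (by rw [Subgroup.orderOf_coe]; exact hx)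
      (by rw [Subgroup.orderOf_coe]; exact hy))
    have hca : c ∈ stabilizer G a := huniq y hy _ (by
      rw [← hc, smul_smul, show c * (x : G) * c⁻¹ * c = c * x by group, ← smul_smul,
        show (x : G) • a = a from x.2])
    exact isConj_iff.2 ⟨⟨c, hca⟩, Subtype.ext hc⟩
  have hPH : (P : Subgroup G) ≤ stabilizer G a := hPC.trans hCH
  have htP : t ∈ (P : Subgroup G) := htdef ▸ z.2
  -- the two bounds
  have hG2 := (klein_bound G P hK h.conj t htP ht).2 (p - 1) (by omega)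
    fun η hη => h.degree_ge η hη
  have hKH : IsKleinFour ((P.subtype hPH : Sylow 2 (stabilizer G a)) : Subgroup (stabilizer G a)) := by
    rw [Sylow.coe_subtype]
    exact { card_four := by rw [Nat.card_congr (Subgroup.subgroupOfEquivOfLe hPH).toEquiv, hP4]
            exponent_two := by
              rw [Monoid.exponent_eq_of_mulEquiv (Subgroup.subgroupOfEquivOfLe hPH),
                hK.exponent_two] }
  have hH2 := (klein_bound (stabilizer G a) (P.subtype hPH) hKH hconjH ⟨t, hta⟩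
    (by rw [Sylow.coe_subtype]; exact Subgroup.mem_subgroupOf.2 htP)
    (by rw [Subgroup.orderOf_mk, ht])).1
  have hcH : cC (⟨t, hta⟩ : stabilizer G a) = cC t := by
    rw [cC, card_centralizer_subgroup, Set.image_singleton, inf_eq_left.2 hCH, cC]
  have himg : (Subtype.val '' (((P.subtype hPH : Sylow 2 (stabilizer G a)) :
      Subgroup (stabilizer G a)) : Set (stabilizer G a))) = ((P : Subgroup G) : Set G) := by
    rw [Sylow.coe_subtype]
    exact Set.Subset.antisymm (fun y ⟨w, hw, e⟩ => e ▸ hw)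
      fun y hy => ⟨⟨y, hPH hy⟩, hy, rfl⟩
  rw [hcH, card_centralizer_subgroup, himg,
    inf_eq_left.2 ((Subgroup.centralizer_le (Set.singleton_subset_iff.2 htP)).trans hCH)] at hH2
  have hidx := (stabilizer G a).index_mul_card
  rw [index_stabilizer_of_transitive, h.card] at hidx
  rw [← hidx] at hG2
  rw [show p - 1 - 1 = p - 2 by omega] at hG2
  -- the inequality fails
  have hc : 0 < cC t ^ 3 := pow_pos Nat.card_pos 3
  obtain ⟨q, rfl⟩ : ∃ q, p = q + 7 := ⟨p - 7, by omega⟩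
  rw [show q + 7 - 2 = q + 5 by omega, show q + 7 - 1 = q + 6 by omega] at hG2
  have h1 := Nat.mul_le_mul_left (3 * (q + 7)) (Nat.mul_le_mul_right ((q + 5) ^ 3) hH2)
  have h2 : cC t ^ 3 * (6 * (q + 7) * (q + 5) ^ 3) ≤ cC t ^ 3 * (8 * (q + 6) ^ 3) := by linarith
  have h3 := Nat.le_of_mul_le_mul_left h2 hc
  nlinarith [h3, pow_two_nonneg (q : ℤ)]

/-- The stabilizer has one class of involutions: impossible. -/
theorem one_class : OneClassStmt.{u, v} := by
  intro G _ _ Ω _ _ p h hp4 P t u r a D hmove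
  classical
  haveI := h.prim
  haveI : Fact (Nat.Prime 2) := ⟨Nat.prime_two⟩
  have hp := D.big
  have hta : t ∈ stabilizer G a := D.fix_t
  have hra : r ∈ stabilizer G a := D.fix_r
  have hua : u ∈ stabilizer G a := D.fix_u
  have hPH : (P : Subgroup G) ≤ stabilizer G a := by
    rw [← D.gen, Subgroup.closure_le]
    rintro y (rfl | rfl)
    exacts [hua, hra]
  have hrt : r * t = t * r := by
    have hcomm : r * t * r⁻¹ = t := by
      rw [← D.sq, sq, ← conj_mul, D.rel, ← mul_inv_rev, ← sq, D.sq]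
      exact inv_eq_of_mul_eq_one_right (by rw [← sq, ← D.ord_t, pow_orderOf_eq_one])
    exact mul_inv_eq_iff_eq_mul.1 hcomm
  -- the centralizer of `t` is transitive on the fixed points
  have horb : orbit (Subgroup.centralizer ({t} : Set G)) a = fixedBy Ω t := by
    refine Set.eq_of_subset_of_ncard_le ?_ ?_ (Set.toFinite _)
    · rintro _ ⟨g, rfl⟩
      exact smul_mem_fixedBy_of_mem_centralizer g.2 D.fix_t
    · have h3 := h.fix t D.ord_t
      rw [fx, f0, if_pos hp4, Nat.card_coe_set_eq] at h3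
      obtain ⟨g, hg, hga⟩ := hmove
      have hrC : r ∈ Subgroup.centralizer ({t} : Set G) :=
        Subgroup.mem_centralizer_singleton_iff.2 hrt
      rw [h3, ← Set.ncard_eq_three.2 ⟨a, g • a, r • g • a, hga.symm, fun e => hga ?_, fun e => hga
        (D.only _ (smul_mem_fixedBy_of_mem_centralizer hg D.fix_t) e.symm), rfl⟩]
      · refine Set.ncard_le_ncard ?_ (Set.toFinite _)
        rintro x (rfl | rfl | rfl)
        · exact mem_orbit_self _
        · exact ⟨⟨g, hg⟩, rfl⟩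
        · exact ⟨⟨r * g, mul_mem hrC hg⟩, mul_smul r g a⟩
      · have h1 : r • a = r • r • g • a := congrArg (r • ·) e
        rw [D.fix_r, smul_smul, ← sq, ← D.ord_r, pow_orderOf_eq_one, one_smul] at h1
        exact h1.symm
  have hCH : 3 * Nat.card (Subgroup.centralizer ({t} : Set G) ⊓ stabilizer G a : Subgroup G) =
      cC t := by
    have h1 := (stabilizer (Subgroup.centralizer ({t} : Set G)) a).index_mul_card
    rw [index_stabilizer, horb] at h1
    have h3 := h.fix t D.ord_t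
    rw [fx, f0, if_pos hp4, Nat.card_coe_set_eq] at h3
    rw [h3] at h1
    rw [cC, ← h1]
    congr 1
    exact Nat.card_congr ⟨fun x => ⟨⟨(x : G), x.2.1⟩, x.2.2⟩,
      fun x => ⟨((x : Subgroup.centralizer ({t} : Set G)) : G), ⟨x.1.2, x.2⟩⟩,
      fun _ => rfl, fun _ => rfl⟩
  have hconjH : ∀ x y : stabilizer G a, orderOf x = 2 → orderOf y = 2 → IsConj x y := by
    intro x y hx hy
    have hx' : orderOf (x : G) = 2 := by rw [Subgroup.orderOf_coe]; exact hx
    have hy' : orderOf (y : G) = 2 := by rw [Subgroup.orderOf_coe]; exact hy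
    obtain ⟨c, hc⟩ := isConj_iff.1 (h.conj (x : G) (y : G) hx' hy')
    obtain ⟨w, hw⟩ := isConj_iff.1 (h.conj t (y : G) D.ord_t hy')
    -- `w` carries the fixed points of `t` to those of `y`
    have hfix : ∀ b : Ω, (y : G) • b = b → ∃ g ∈ Subgroup.centralizer ({t} : Set G),
        (w * g) • a = b := by
      intro b hb
      have h1 : w⁻¹ • b ∈ fixedBy Ω t := by
        show t • w⁻¹ • b = w⁻¹ • b
        rw [smul_smul, show t * w⁻¹ = w⁻¹ * (w * t * w⁻¹) by group, ← smul_smul, hw, hb]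
      rw [← horb] at h1
      obtain ⟨g, hg⟩ := h1
      refine ⟨g, g.2, ?_⟩
      rw [mul_smul, show (g : G) • a = w⁻¹ • b from hg, smul_inv_smul]
    obtain ⟨g1, hg1, e1⟩ := hfix a y.2
    obtain ⟨g2, hg2, e2⟩ := hfix (c • a) (by
      rw [← hc, smul_smul, show c * (x : G) * c⁻¹ * c = c * x by group, ← smul_smul,
        show (x : G) • a = a from x.2])
    obtain ⟨d, hd⟩ : ∃ d, d = w * g1 * (w * g2)⁻¹ := ⟨_, rfl⟩
    have hdy : d * (y : G) * d⁻¹ = y := by
      have hgc : Commute (g1 * g2⁻¹) t :=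
        Subgroup.mem_centralizer_singleton_iff.1 (mul_mem hg1 (inv_mem hg2))
      rw [hd, ← hw]
      calc w * g1 * (w * g2)⁻¹ * (w * t * w⁻¹) * (w * g1 * (w * g2)⁻¹)⁻¹
          = w * ((g1 * g2⁻¹) * t * (g1 * g2⁻¹)⁻¹) * w⁻¹ := by group
        _ = w * t * w⁻¹ := by rw [hgc.eq, mul_inv_cancel_right]
    have hdc : d * c ∈ stabilizer G a := by
      show (d * c) • a = a
      rw [mul_smul, ← e2, hd, smul_smul, inv_mul_cancel_right]
      exact e1
    refine isConj_iff.2 ⟨⟨d * c, hdc⟩, Subtype.ext ?_⟩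
    show d * c * (x : G) * (d * c)⁻¹ = y
    rw [show d * c * (x : G) * (d * c)⁻¹ = d * (c * x * c⁻¹) * d⁻¹ by group, hc, hdy]
  have hgen : Subgroup.closure ({⟨u, hua⟩, ⟨r, hra⟩} : Set (stabilizer G a)) =
      ((P.subtype hPH : Sylow 2 (stabilizer G a)) : Subgroup (stabilizer G a)) := by
    refine Subgroup.map_injective (stabilizer G a).subtype_injective ?_
    rw [MonoidHom.map_closure, Sylow.coe_subtype, Subgroup.subgroupOf_map_subtype,
      inf_eq_left.2 hPH, Set.image_pair]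
    exact D.gen
  have hlow := (dihedral_bound (stabilizer G a) (P.subtype hPH) ⟨u, hua⟩ ⟨r, hra⟩
    (by rw [← hgen]; exact Subgroup.subset_closure (Set.mem_insert _ _))
    (by rw [← hgen]; exact Subgroup.subset_closure (Set.mem_insert_of_mem _ (Set.mem_singleton _)))
    (by rw [Subgroup.orderOf_mk, D.ord_u]) (by rw [Subgroup.orderOf_mk, D.ord_r])
    (Subtype.ext D.rel) hgen hconjH).1
  have hsq : ((⟨u, hua⟩ : stabilizer G a) ^ 2) = ⟨t, hta⟩ := Subtype.ext D.sq
  rw [hsq] at hlow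
  have hup := ((dihedral_bound G P u r D.mem_u D.mem_r D.ord_u D.ord_r D.rel D.gen h.conj).2
    (p - 1) (by omega) fun η hη => h.degree_ge η hη).2
  rw [D.sq] at hup
  have hidx := (stabilizer G a).index_mul_card
  rw [index_stabilizer_of_transitive, h.card] at hidx
  have hcH : cC (⟨t, hta⟩ : stabilizer G a) =
      Nat.card (Subgroup.centralizer ({t} : Set G) ⊓ stabilizer G a : Subgroup G) := by
    rw [cC, card_centralizer_subgroup, Set.image_singleton]
  have hpair : ∀ y : stabilizer G a, (cPair (⟨t, hta⟩ : stabilizer G a) y : ℚ) ≤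
      cPair t (y : G) := fun y => by
    rw [cPair, card_centralizer_subgroup, Set.image_pair, cPair]
    exact_mod_cast Subgroup.card_le_of_le inf_le_left
  have hpos : ∀ y : stabilizer G a, (0 : ℚ) < cPair (⟨t, hta⟩ : stabilizer G a) y := fun y =>
    Nat.cast_pos.2 Nat.card_pos
  obtain ⟨S, hS, hS0⟩ : ∃ S : ℚ, S = 1 / (cPair t r : ℚ) + 1 / (cPair t (u * r) : ℚ) ∧ 0 < S := by
    refine ⟨_, rfl, ?_⟩
    have h1 : (0 : ℚ) < cPair t r := Nat.cast_pos.2 Nat.card_pos
    have h2 : (0 : ℚ) ≤ 1 / (cPair t (u * r) : ℚ) := by positivity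
    have h3 := one_div_pos.2 h1
    linarith
  obtain ⟨S', hS'⟩ : ∃ S' : ℚ, S' = 1 / (cPair (⟨t, hta⟩ : stabilizer G a) ⟨r, hra⟩ : ℚ) +
      1 / (cPair (⟨t, hta⟩ : stabilizer G a) (⟨u, hua⟩ * ⟨r, hra⟩) : ℚ) := ⟨_, rfl⟩
  have hSS : S ≤ S' := by
    rw [hS, hS']
    exact add_le_add (one_div_le_one_div_of_le (hpos _) (hpair _))
      (one_div_le_one_div_of_le (hpos _) (hpair _))
  rw [← hS'] at hlow
  rw [← hS] at hup
  obtain ⟨c, hc, hc0⟩ : ∃ c : ℚ, c = (cC (⟨t, hta⟩ : stabilizer G a) : ℚ) ∧ 0 < c :=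
    ⟨_, rfl, Nat.cast_pos.2 Nat.card_pos⟩
  rw [← hc] at hlow
  have hC : (cC t : ℚ) = 3 * c := by rw [hc, hcH, ← hCH, Nat.cast_mul]; norm_num
  have hG : (Nat.card G : ℚ) = 3 * p * (Nat.card (stabilizer G a) : ℚ) := by
    rw [← hidx]; push_cast; ring
  have hp1 : ((p - 1 : ℕ) : ℚ) = (p : ℚ) - 1 := by
    rw [Nat.cast_sub (by omega : 1 ≤ p), Nat.cast_one]
  rw [hC, hG, hp1] at hup
  have hp61 : (61 : ℚ) ≤ p := by exact_mod_cast hp
  have hlow' : 4 * c ^ 3 * S ^ 2 ≤ 9 * (Nat.card (stabilizer G a) : ℚ) :=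
    le_trans (mul_le_mul_of_nonneg_left (pow_le_pow_left₀ hS0.le hSS 2) (by positivity)) hlow
  have h1 := mul_le_mul_of_nonneg_left hlow'
    (show (0 : ℚ) ≤ 3 * p * ((p : ℚ) - 1 - 1) ^ 2 by positivity)
  have h2 : (c ^ 3 * S ^ 2 * p) * (12 * ((p : ℚ) - 2) ^ 2) ≤
      (c ^ 3 * S ^ 2 * p) * (486 * ((p : ℚ) - 1)) := by linarith
  have h3 := le_of_mul_le_mul_left h2 (by positivity)
  nlinarith

/-- The end of the case of two classes. -/
theorem two_class_end : TwoClassEndStmt.{u, v} := by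
  intro G _ _ Ω _ _ p h hp4 P t u r a D hpairs htwo
  have hp := D.big
  have hform := h.formula t D.ord_t
  have hlow := ((dihedral_bound G P u r D.mem_u D.mem_r D.ord_u D.ord_r D.rel D.gen h.conj).2
    (p - 1) (by omega) fun η hη => h.degree_ge η hη).1
  rw [D.sq] at hlow
  obtain ⟨q, rfl⟩ : ∃ q, p = q + 61 := ⟨p - 61, by omega⟩
  rw [show q + 61 - 1 = q + 60 by omega] at hform hpairs htwo
  rw [show 2 * (q + 61) - 1 = 2 * q + 121 by omega] at hform htwo
  have hk : (0 : ℚ) < cPair t r := Nat.cast_pos.2 Nat.card_pos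
  have hl : (0 : ℚ) < cPair t (u * r) := Nat.cast_pos.2 Nat.card_pos
  have hC : (0 : ℚ) < cC t := Nat.cast_pos.2 Nat.card_pos
  have e1 : (Nat.card G : ℚ) * (2 * ((q : ℚ) + 60)) =
      ((q : ℚ) + 61) * (2 * q + 121) * (cC t : ℚ) ^ 2 := by exact_mod_cast hform
  have e2 : 8 * (cC t : ℚ) = ((q : ℚ) + 60) * cPair t r * cPair t (u * r) := by
    exact_mod_cast hpairs
  have e3 : 3 * ((q : ℚ) + 60) * (cC t : ℚ) ≤ (2 * q + 121) * (cPair t r : ℚ) ^ 2 := by
    exact_mod_cast htwo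
  generalize (cPair t r : ℚ) = k at hk hlow e2 e3
  generalize (cPair t (u * r) : ℚ) = l at hl hlow e2
  generalize (cC t : ℚ) = C at hC hlow e1 e2 e3
  have hq : (0 : ℚ) ≤ q := Nat.cast_nonneg q
  -- first `C / l ^ 2` is small
  have hA : C ^ 3 / l ^ 2 ≤ (Nat.card G : ℚ) := by
    refine le_trans ?_ hlow
    rw [show C ^ 3 / l ^ 2 = C ^ 3 * (1 / l) ^ 2 by ring]
    exact mul_le_mul_of_nonneg_left
      (pow_le_pow_left₀ (by positivity) (le_add_of_nonneg_left (by positivity)) 2) (by positivity)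
  rw [div_le_iff₀ (by positivity)] at hA
  have hA1 : C ^ 2 * (C * (2 * ((q : ℚ) + 60))) ≤
      C ^ 2 * (((q : ℚ) + 61) * (2 * q + 121) * l ^ 2) := by
    have := mul_le_mul_of_nonneg_right hA (show (0 : ℚ) ≤ 2 * ((q : ℚ) + 60) by positivity)
    calc C ^ 2 * (C * (2 * ((q : ℚ) + 60))) = C ^ 3 * (2 * ((q : ℚ) + 60)) := by ring
      _ ≤ Nat.card G * l ^ 2 * (2 * ((q : ℚ) + 60)) := this
      _ = (Nat.card G : ℚ) * (2 * ((q : ℚ) + 60)) * l ^ 2 := by ring
      _ = _ := by rw [e1]; ring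
  have hA2 := le_of_mul_le_mul_left hA1 (by positivity)
  have hm := mul_le_mul hA2 e3 (by positivity) (by positivity)
  have e4 : ((q : ℚ) + 60) ^ 2 * (k ^ 2 * l ^ 2) = 64 * C ^ 2 := by
    calc _ = (((q : ℚ) + 60) * k * l) ^ 2 := by ring
      _ = _ := by rw [← e2]; ring
  have h2 : C ^ 2 * (6 * ((q : ℚ) + 60) ^ 4) ≤
      C ^ 2 * (64 * ((q : ℚ) + 61) * (2 * q + 121) ^ 2) := by
    calc C ^ 2 * (6 * ((q : ℚ) + 60) ^ 4)
        = C * (2 * ((q : ℚ) + 60)) * (3 * ((q : ℚ) + 60) * C) * ((q : ℚ) + 60) ^ 2 := by ring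
      _ ≤ ((q : ℚ) + 61) * (2 * q + 121) * l ^ 2 * ((2 * q + 121) * k ^ 2) *
            ((q : ℚ) + 60) ^ 2 := mul_le_mul_of_nonneg_right hm (by positivity)
      _ = ((q : ℚ) + 61) * (2 * q + 121) ^ 2 * (((q : ℚ) + 60) ^ 2 * (k ^ 2 * l ^ 2)) := by ring
      _ = _ := by rw [e4]; ring
  have h3 := le_of_mul_le_mul_left h2 (by positivity)
  nlinarith [h3, mul_nonneg hq hq, mul_nonneg (mul_nonneg hq hq) hq,
    mul_nonneg (mul_nonneg hq hq) (mul_nonneg hq hq)]

end CfsgLib.DegreeThreeP
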