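import Cfsg.Agent.Lib.DegreeThreeP.Defs
import Cfsg.Agent.Lib.Small.InvertedColumn
import Cfsg.Agent.Lib.Chars.DefectZero
import Cfsg.Agent.Lib.CharApps.CentralTICases

/-!
# Simple groups of degree `3p`: the five cases

The decomposition of the permutation character, the order formula and the defect zero characters
give the five cases of the proof.
-/

set_option autoImplicit false
set_option linter.style.haveILetI false
set_option linter.unusedSectionVars false

namespace CfsgLib.DegreeThreeP

open MulAction Cfsg CfsgLib.Chars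

universe u v

variable {G : Type u} [Group G] [Finite G]

/-- An involution whose centralizer contains a Sylow `2`-subgroup. -/
theorem exists_central_invol (h : 2 ∣ Nat.card G) : ∃ t : G, orderOf t = 2 ∧
    (cC t).factorization 2 = (Nat.card G).factorization 2 := by
  haveI : Fact (Nat.Prime 2) := ⟨Nat.prime_two⟩
  obtain ⟨P⟩ : Nonempty (Sylow 2 G) := inferInstance
  have h1 := (Nat.prime_two.dvd_iff_one_le_factorization Nat.card_pos.ne').1 h
  have hP2 : 2 ∣ Nat.card (P : Subgroup G) := by
    rw [P.card_eq_multiplicity]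
    exact dvd_pow_self 2 (by omega)
  haveI : Nontrivial (P : Subgroup G) :=
    Finite.one_lt_card_iff_nontrivial.1 (Nat.le_of_dvd Nat.card_pos hP2)
  haveI := P.2.center_nontrivial
  obtain ⟨z, hz⟩ := exists_prime_orderOf_dvd_card' (G := Subgroup.center (P : Subgroup G)) 2 (by
    obtain ⟨n, hn⟩ := IsPGroup.iff_card.1 (P.2.to_subgroup (Subgroup.center (P : Subgroup G)))
    rw [hn]
    refine dvd_pow_self 2 fun h0 => ?_
    have := Finite.one_lt_card (α := Subgroup.center (P : Subgroup G))
    rw [hn, h0, pow_zero] at this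
    omega)
  refine ⟨((z : (P : Subgroup G)) : G), by rw [Subgroup.orderOf_coe, Subgroup.orderOf_coe, hz],
    le_antisymm ?_ ?_⟩
  · exact (Nat.factorization_le_iff_dvd Nat.card_pos.ne' Nat.card_pos.ne').2
      (Subgroup.card_subgroup_dvd_card _) 2
  · refine (Nat.prime_two.pow_dvd_iff_le_factorization Nat.card_pos.ne').1 ?_
    rw [← P.card_eq_multiplicity]
    exact Subgroup.card_dvd_of_le fun y hy => Subgroup.mem_centralizer_singleton_iff.2
      (congrArg Subtype.val (Subgroup.mem_center_iff.1 z.2 ⟨y, hy⟩))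

/-- A nontrivial irreducible character of a simple group is faithful. -/
theorem faithful_of_ne_principal [IsSimpleGroup G] {η : IrrCharacter G} (hη : η ≠ principal G)
    (g : G) (hg : (η : G → ℂ) g = (η : G → ℂ) 1) : g = 1 := by
  haveI := Fintype.ofFinite G
  rcases IsSimpleGroup.eq_bot_or_eq_top_of_normal _ (CharApps.charKer_normal η) with h | h
  · exact Subgroup.mem_bot.1 (h ▸ (CharApps.mem_charKer.2 hg : g ∈ CharApps.charKer η))
  · exact absurd (CharApps.eq_principal_of_charKer_eq_top h) hη

variable {Ω : Type v} [MulAction G Ω] [Finite Ω] {p : ℕ}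

theorem Core.two_dvd (h : Core G Ω p) : 2 ∣ Nat.card G := by
  obtain ⟨N, hN, -⟩ := h.index
  exact ⟨p * N, by rw [hN, mul_assoc]⟩

theorem Core.not_dvd_of_even (h : Core G Ω p) {g : G} (hg : 2 ∣ orderOf g) :
    ¬ p ∣ orderOf g := fun hd => by
  rw [h.order_p g hd] at hg
  have := (Nat.prime_dvd_prime_iff_eq Nat.prime_two h.prime).1 hg
  have := h.three_lt
  omega

theorem Core.not_dvd_cC (h : Core G Ω p) {t : G} (ht : orderOf t = 2) : ¬ p ∣ cC t := fun hd => by
  haveI := Fact.mk h.prime
  obtain ⟨u, hu⟩ := exists_prime_orderOf_dvd_card'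
    (G := Subgroup.centralizer ({t} : Set G)) p hd
  have hc : Commute (u : G) t := Subgroup.mem_centralizer_singleton_iff.1 u.2
  have hu' : orderOf (u : G) = p := by rw [Subgroup.orderOf_coe, hu]
  have h3 := h.three_lt
  have ho : orderOf ((u : G) * t) = p * 2 := by
    rw [hc.orderOf_mul_eq_mul_orderOf_of_coprime, hu', ht]
    rw [hu', ht]
    exact (Nat.coprime_primes h.prime Nat.prime_two).2 (by omega)
  have := h.order_p _ (ho ▸ dvd_mul_right p 2)
  omega

theorem cases_of : ShapeStmt.{u, v} → InvolStmt.{u, v} → CasesStmt.{u, v} := by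
  intro hS hI G _ _ Ω _ _ p h
  classical
  haveI := h.simple
  haveI := h.prim
  haveI := h.faithful
  haveI : IsPretransitive G Ω := inferInstance
  haveI := Fintype.ofFinite G
  haveI := Fintype.ofFinite Ω
  haveI := Fact.mk h.prime
  have hp := h.prime
  have h3 := h.three_lt
  have hp5 : 5 ≤ p := by
    rcases Nat.lt_or_ge p 5 with h' | h'
    · exact absurd (show p = 4 by omega ▸ hp) (by norm_num)
    · exact h'
  obtain ⟨χ, Y, δ, ε, hD, hshape⟩ := hS G Ω p h
  obtain ⟨hInv, hF⟩ := hI G Ω p χ Y δ ε hD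
  obtain ⟨θ, hθ⟩ : ∃ θ, θ ∈ Y := Finset.card_pos.1 (by have := hD.card_Y; omega)
  have hθ1 : θ ≠ principal G := fun e => hD.one_notMem (e ▸ hθ)
  have hreg1 : ¬ p ∣ orderOf (1 : G) := by rw [orderOf_one]; exact hp.not_dvd_one
  -- the degrees in the exceptional set
  have hYdeg : ∀ η ∈ Y, (ε : ℂ) * (charDegree (η : G → ℂ) : ℂ) =
      1 + (δ : ℂ) * (charDegree (χ : G → ℂ) : ℂ) := fun η hη => by
    rw [← CharApps.deg_eq, ← CharApps.deg_eq]
    exact hD.rel η hη 1 hreg1
  have hother : ∀ η : IrrCharacter G, η ≠ principal G → η ≠ χ → η ∉ Y →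
      p ≤ charDegree (η : G → ℂ) := fun η a b c =>
    Nat.le_of_dvd (CharApps.deg_pos η) (hD.other_dvd η a b c)
  rcases hshape with ⟨rfl, rfl, hd⟩ | ⟨rfl, rfl, hd, -, ψ, hψ, hπ⟩ | ⟨rfl, rfl, hd, hπ⟩ |
    ⟨rfl, rfl, rfl, hd, hπ⟩
  · -- the characters of degree `p - 1` and `p - 2`
    have hT : ∀ η ∈ Y, charDegree (η : G → ℂ) = p - 2 := fun η hη => by
      have h1 := hYdeg η hη
      have h2 : (charDegree (η : G → ℂ) : ℂ) + 1 = ((p - 1 : ℕ) : ℂ) := by
        rw [← hd]
        push_cast at h1
        linear_combination -h1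
      have h3 : charDegree (η : G → ℂ) + 1 = p - 1 := by exact_mod_cast h2
      omega
    rcases Nat.lt_or_ge p 7 with h7 | h7
    · have hp' : p = 5 := by
        rcases (show p = 5 ∨ p = 6 by omega) with e | e
        · exact e
        · exact absurd (e ▸ hp) (by norm_num)
      subst hp'
      refine Or.inr (Or.inl ⟨rfl, θ, χ, hT θ hθ, faithful_of_ne_principal hθ1, hd,
        fun η hη => ?_, fun g hg => ?_, fun u hu => ?_⟩)
      · by_contra hne
        by_cases hY : η ∈ Y
        · have := hT η hY
          omega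
        · refine absurd (hother η ?_ hne hY) (by omega)
          rintro rfl
          have e : charDegree (principal G : G → ℂ) = 1 :=
            (CharApps.deg_eq_one_iff (principal G)).mp (principal_apply _)
          omega
      · have h1 := hD.rel θ hθ g hg
        push_cast at h1
        linear_combination -h1
      · rw [hD.χ_val u hu]; push_cast; rfl
    · exact Or.inl ⟨h7, θ, faithful_of_ne_principal hθ1, hT θ hθ⟩
  · -- the characters of degree `2p - 1` and `2p - 2`
    refine Or.inr (Or.inr (Or.inr (Or.inl ?_)))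
    obtain ⟨u, hu⟩ := exists_prime_orderOf_dvd_card' (G := G) p
      (by obtain ⟨N, hN, -⟩ := h.index; exact ⟨2 * N, by rw [hN]; ring⟩)
    obtain ⟨z, hz, hinv⟩ := h.invert u hu
    have hup : u ^ p = 1 := hu ▸ pow_orderOf_eq_one u
    have hz2 : z * z = 1 := by rw [← sq, ← hz, pow_orderOf_eq_one]
    obtain ⟨a, b, hs1, hs2⟩ := Small.exists_dihedral_sums χ hup hz2 hinv
    have hX : (χ : G → ℂ) 1 = 2 * (p : ℂ) - 1 := by
      rw [CharApps.deg_eq, hd, Nat.cast_sub (by omega)]
      push_cast
      ring
    have hab : a + b = 1 := by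
      rw [← Finset.add_sum_erase _ _ (Finset.mem_range.2 hp.pos), pow_zero, hX,
        Finset.sum_congr rfl (g := fun _ => (-1 : ℂ)) fun i hi => by
          obtain ⟨hi0, hip⟩ := Finset.mem_erase.1 hi
          rw [hD.χ_val _ (by
            rw [orderOf_pow' u hi0, hu, Nat.Coprime.gcd_eq_one, Nat.div_one]
            exact (hp.coprime_iff_not_dvd).2 fun hd' =>
              absurd (Nat.le_of_dvd (Nat.pos_of_ne_zero hi0) hd')
                (not_le.2 (Finset.mem_range.1 hip)))]
          push_cast
          rfl,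
        Finset.sum_const, Finset.card_erase_of_mem (Finset.mem_range.2 hp.pos), Finset.card_range,
        nsmul_eq_mul, Nat.cast_sub (by omega : 1 ≤ p)] at hs1
      have h1 : (p : ℂ) * ((a + b : ℕ) : ℂ) = (p : ℂ) * ((1 : ℕ) : ℂ) := by
        push_cast at hs1 ⊢
        linear_combination -hs1
      exact_mod_cast mul_left_cancel₀ (Nat.cast_ne_zero.2 hp.ne_zero) h1
    have hclass : ∀ s : G, orderOf s = 2 → (χ : G → ℂ) s = (a : ℂ) - b := by
      intro s hs
      refine mul_left_cancel₀ (Nat.cast_ne_zero.2 hp.ne_zero) ?_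
      rw [← hs2, Finset.sum_congr rfl (g := fun _ => (χ : G → ℂ) s) fun i _ => ?_,
        Finset.sum_const, Finset.card_range, nsmul_eq_mul]
      have hord : orderOf (u ^ i * z) = 2 := by
        refine orderOf_eq_prime ?_ fun e => ?_
        · rw [sq, show u ^ i * z * (u ^ i * z) = u ^ i * (z * u ^ i * z⁻¹) * (z * z) by group,
            ← conj_pow, hinv, hz2, mul_one, inv_pow, mul_inv_cancel]
        · rw [mul_eq_one_iff_inv_eq] at e
          have h1 : orderOf z ∣ orderOf u :=
            e ▸ (by rw [orderOf_inv]; exact orderOf_pow_dvd i)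
          rw [hz, hu] at h1
          have := (Nat.prime_dvd_prime_iff_eq Nat.prime_two hp).1 h1
          omega
      obtain ⟨c, hc⟩ := isConj_iff.1 (hInv.conj s _ hs hord)
      rw [← hc, isClassFunction_irr χ s c]
    -- the value at an involution is one
    have hone : ∀ s : G, orderOf s = 2 → (χ : G → ℂ) s = 1 := by
      intro s hs
      rcases (show (a = 1 ∧ b = 0) ∨ (a = 0 ∧ b = 1) by omega) with ⟨rfl, rfl⟩ | ⟨rfl, rfl⟩
      · simpa using hclass s hs
      · exfalso
        have h1 := hF s hs
        rw [hclass s hs, hX] at h1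
        push_cast at h1
        have h2 : ((Nat.card G * (4 * p) : ℕ) : ℂ) =
            ((cC s ^ 2 * ((2 * p - 1) * (2 * (p - 1))) : ℕ) : ℂ) := by
          refine mul_left_cancel₀ (Nat.cast_ne_zero.2 hp.ne_zero) ?_
          push_cast [Nat.cast_sub (by omega : 1 ≤ p), Nat.cast_sub (by omega : 1 ≤ 2 * p)]
          linear_combination -h1
        have h3' : p ∣ cC s ^ 2 * ((2 * p - 1) * (2 * (p - 1))) :=
          ⟨Nat.card G * 4, by rw [← Nat.cast_injective h2]; ring⟩
        rcases hp.dvd_mul.1 h3' with h4 | h4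
        · exact h.not_dvd_cC hs (hp.dvd_of_dvd_pow h4)
        rcases hp.dvd_mul.1 h4 with h5 | h5
        · obtain ⟨k, hk⟩ := h5
          have : p ∣ 1 := (Nat.dvd_add_right ⟨k, hk⟩).1
            (show p ∣ (2 * p - 1) + 1 from ⟨2, by omega⟩)
          exact hp.not_dvd_one this
        · rcases hp.dvd_mul.1 h5 with h6 | h6
          · have := Nat.le_of_dvd two_pos h6
            omega
          · have := Nat.le_of_dvd (by omega) h6
            omega
    have hform : ∀ s : G, orderOf s = 2 →
        Nat.card G * (2 * (p - 1)) = p * (2 * p - 1) * cC s ^ 2 := by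
      intro s hs
      have h1 := hF s hs
      rw [hone s hs, hX] at h1
      push_cast at h1
      refine Nat.cast_injective (R := ℂ) ?_
      have hne : ((2 * (p - 1) : ℕ) : ℂ) ≠ 0 := Nat.cast_ne_zero.2 (by omega)
      refine mul_left_cancel₀ hne ?_
      push_cast [Nat.cast_sub (by omega : 1 ≤ p), Nat.cast_sub (by omega : 1 ≤ 2 * p)]
      linear_combination -h1
    -- the exceptional characters have defect zero at two
    have hT : ∀ η ∈ Y, charDegree (η : G → ℂ) = 2 * (p - 1) := fun η hη => by
      have h1 := hYdeg η hη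
      rw [← CharApps.deg_eq χ, hX] at h1
      have h2 : ((charDegree (η : G → ℂ) : ℕ) : ℂ) = ((2 * (p - 1) : ℕ) : ℂ) := by
        push_cast [Nat.cast_sub (by omega : 1 ≤ p)] at h1 ⊢
        linear_combination -h1
      exact_mod_cast h2
    obtain ⟨t, ht, hvt⟩ := exists_central_invol h.two_dvd
    set e := (Nat.card G).factorization 2 with he
    have hv : (2 * (p - 1)).factorization 2 = e := by
      have hC0 : cC t ≠ 0 := Nat.card_pos.ne'
      have h1 := congrArg (fun n : ℕ => n.factorization 2) (hform t ht)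
      simp only [Nat.factorization_mul Nat.card_pos.ne' (show 2 * (p - 1) ≠ 0 by omega),
        Nat.factorization_mul (show p * (2 * p - 1) ≠ 0 from
          Nat.mul_ne_zero hp.ne_zero (by omega)) (pow_ne_zero 2 hC0),
        Nat.factorization_pow, Finsupp.coe_add, Pi.add_apply, Finsupp.coe_smul, Pi.smul_apply,
        smul_eq_mul] at h1
      have hodd : ¬ 2 ∣ p * (2 * p - 1) := fun hd' => by
        rcases Nat.prime_two.dvd_mul.1 hd' with h4 | h4
        · have := (Nat.prime_dvd_prime_iff_eq Nat.prime_two hp).1 h4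
          omega
        · omega
      rw [Nat.factorization_eq_zero_of_not_dvd hodd, hvt] at h1
      omega
    have heven : ∀ g : G, 2 ∣ orderOf g → (χ : G → ℂ) g = 1 := by
      intro g hg
      have h1 := hD.rel θ hθ g (h.not_dvd_of_even hg)
      have h0 : (θ : G → ℂ) g = 0 := eq_zero_of_dvd_orderOf θ.2 (n := e) Nat.prime_two
        (CharApps.deg_eq θ)
        (fun hd' => by
          have := (Nat.prime_two.pow_dvd_iff_le_factorization Nat.card_pos.ne').1 hd'
          omega)
        (by rw [hT θ hθ, ← hv]; exact Nat.ordProj_dvd _ _) hg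
      rw [h0] at h1
      push_cast at h1
      linear_combination h1
    refine ⟨hInv, ⟨χ, ψ, hd, hψ, hπ, heven⟩, fun η hη => ?_, hform⟩
    by_cases e1 : η = χ
    · rw [e1, hd]
      omega
    by_cases e2 : η ∈ Y
    · rw [hT η e2]
      omega
    have := hother η hη e1 e2
    omega
  · -- the doubly transitive case
    refine Or.inr (Or.inr (Or.inr (Or.inr ?_)))
    refine ⟨hInv, (isIrr_fixedBy_sub_one_iff (by rw [h.card]; omega)).1 ?_, fun s hs => ?_⟩
    · have e : (fun g : G => (Nat.card (fixedBy Ω g) : ℂ) - 1) = (χ : G → ℂ) := funext fun g => by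
        show (fx Ω g : ℂ) - 1 = _
        rw [hπ g]
        ring
      rw [e]
      exact χ.2
    · have h1 := hF s hs
      have h2 := hπ s
      rw [hInv.fix s hs] at h2
      rw [CharApps.deg_eq χ, hd, show (χ : G → ℂ) s = (f0 p : ℂ) - 1 by rw [h2]; ring] at h1
      have hf : f0 p ≤ 3 * p := by unfold f0; split_ifs <;> omega
      refine Nat.cast_injective (R := ℂ) ?_
      push_cast [Nat.cast_sub hf, Nat.cast_sub (by omega : 1 ≤ 3 * p),
        Nat.cast_sub (by omega : 2 ≤ 3 * p)] at h1 ⊢
      linear_combination -h1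
  · -- degree fifteen
    refine Or.inr (Or.inr (Or.inl ⟨hInv, rfl, fun s hs => ?_⟩))
    have hY2 : Y.card = 2 := by have := hD.card_Y; omega
    have h2 := hπ s
    rw [hInv.fix s hs, Finset.sum_congr rfl (g := fun _ => 1 + (χ : G → ℂ) s) fun η hη => by
      have := hD.rel η hη s (h.not_dvd_of_even (by rw [hs]))
      push_cast at this
      linear_combination this, Finset.sum_const, hY2] at h2
    have hχs : (χ : G → ℂ) s = 0 := by
      norm_num [f0] at h2
      linear_combination -(1 / 2 : ℂ) * h2
    have h1 := hF s hs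
    rw [CharApps.deg_eq χ, hd, hχs] at h1
    have h4 : ((6 * Nat.card G : ℕ) : ℂ) = ((35 * cC s ^ 2 : ℕ) : ℂ) := by
      push_cast at h1 ⊢
      linear_combination (1 / 6 : ℂ) * h1
    exact_mod_cast h4

end CfsgLib.DegreeThreeP
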