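import Cfsg.Agent.Lib.DegreeThreeP.Defs
import Cfsg.Agent.Lib.Blocks.DefectOnePrincipal

/-!
# Simple groups of degree `3p`: the elementary consequences
-/

set_option autoImplicit false
set_option linter.style.haveILetI false
set_option linter.unusedSectionVars false

namespace CfsgLib.DegreeThreeP

open MulAction Cfsg CfsgLib.Chars

universe u v

variable {G : Type u} [Group G] [Finite G] {Ω : Type v} [MulAction G Ω] [Finite Ω] {p : ℕ}

/-- A simple group that is not commutative has only even permutations. -/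
theorem sign_eq_one [IsSimpleGroup G] (hna : ¬ IsMulCommutative G) {α : Type*} [Fintype α]
    [DecidableEq α] (φ : G →* Equiv.Perm α) (g : G) : Equiv.Perm.sign (φ g) = 1 := by
  set ψ : G →* ℤˣ := Equiv.Perm.sign.comp φ
  rcases (MonoidHom.normal_ker ψ).eq_bot_or_eq_top with h | h
  · exact absurd ⟨⟨fun a b => (MonoidHom.ker_eq_bot_iff ψ).1 h
      (by rw [map_mul, map_mul, mul_comm])⟩⟩ hna
  · exact MonoidHom.mem_ker.1 (h ▸ Subgroup.mem_top g : g ∈ ψ.ker)

theorem core : CoreStmt.{u, v} := by
  intro G _ _ Ω _ _ p h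
  classical
  haveI := Fact.mk h.prime
  haveI := h.simple
  haveI := h.faithful
  haveI := h.prim
  haveI : IsPretransitive G Ω := inferInstance
  haveI := Fintype.ofFinite Ω
  haveI := Fintype.ofFinite G
  haveI := Fintype.ofFinite (Sylow p G)
  have hp := h.prime
  have h3 := h.three_lt
  obtain ⟨a₀⟩ : Nonempty Ω := Nat.card_pos_iff.1 (by rw [h.card]; omega) |>.1
  have hidx : (stabilizer G a₀).index = 3 * p := by rw [index_stabilizer_of_transitive, h.card]
  have hdG : 3 * p ∣ Nat.card G := hidx ▸ Subgroup.index_dvd_card _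
  obtain ⟨P₀, hN⟩ := h.norm
  have hcard₀ : Nat.card (P₀ : Subgroup G) = p := by
    have h1 : Nat.card (P₀ : Subgroup G) ∣ 2 * p :=
      hN ▸ Subgroup.card_dvd_of_le Subgroup.le_normalizer
    have h3' : 1 ≤ (Nat.card G).factorization p :=
      (hp.dvd_iff_one_le_factorization Nat.card_pos.ne').1 ((dvd_mul_left p 3).trans hdG)
    rw [P₀.card_eq_multiplicity] at h1 ⊢
    have h4 : p ^ (Nat.card G).factorization p ∣ p :=
      (Nat.Coprime.pow_left _ ((Nat.coprime_primes hp Nat.prime_two).2
        (by omega))).dvd_of_dvd_mul_left h1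
    exact Nat.dvd_antisymm h4 (dvd_pow_self p (by omega))
  have hcard : ∀ P : Sylow p G, Nat.card (P : Subgroup G) = p := fun P => by
    rw [P.card_eq_multiplicity, ← P₀.card_eq_multiplicity, hcard₀]
  have hidxN : ∀ P : Sylow p G,
      (Subgroup.normalizer ((P : Subgroup G) : Set G)).index = Nat.card (Sylow p G) :=
    fun P => (Sylow.card_eq_index_normalizer P).symm
  have hNall : ∀ P : Sylow p G,
      Nat.card (Subgroup.normalizer ((P : Subgroup G) : Set G)) = 2 * p := fun P => by
    have h1 := Subgroup.card_mul_index (Subgroup.normalizer ((P : Subgroup G) : Set G))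
    have h2 := Subgroup.card_mul_index (Subgroup.normalizer ((P₀ : Subgroup G) : Set G))
    rw [hidxN] at h1 h2
    rw [hN, ← h1] at h2
    exact (Nat.eq_of_mul_eq_mul_right Nat.card_pos h2).symm
  have hne : Nat.card G ≠ p := fun e => by
    rw [e] at hdG
    have := Nat.le_of_dvd hp.pos hdG
    omega
  have hself : ∀ P : Sylow p G,
      Subgroup.centralizer ((P : Subgroup G) : Set G) = (P : Subgroup G) := by
    intro P
    set C := Subgroup.centralizer ((P : Subgroup G) : Set G) with hC
    have hPC : (P : Subgroup G) ≤ C := fun y hy z hz =>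
      Blocks.comm_of_prime_card (hcard P) z hz y hy
    have hCN : C ≤ Subgroup.normalizer ((P : Subgroup G) : Set G) :=
      Subgroup.centralizer_le_normalizer _
    obtain ⟨k, hk⟩ := Subgroup.card_dvd_of_le hPC
    have h1 := Subgroup.card_dvd_of_le hCN
    rw [hNall P, hk, hcard P, mul_comm 2 p] at h1
    rcases (Nat.dvd_prime Nat.prime_two).1 (Nat.dvd_of_mul_dvd_mul_left hp.pos h1) with h2 | h2
    · rw [h2, mul_one] at hk
      exact (Subgroup.eq_of_le_of_card_ge hPC hk.le).symm
    · exfalso
      have hNC : Subgroup.normalizer ((P : Subgroup G) : Set G) ≤ C := by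
        refine (Subgroup.eq_of_le_of_card_ge hCN ?_).ge
        rw [hNall P, hk, hcard P, h2, mul_comm]
      have hcompl := MonoidHom.ker_transferSylow_isComplement' P hNC
      have hndvd := MonoidHom.not_dvd_card_ker_transferSylow P hNC
      rcases (MonoidHom.normal_ker (MonoidHom.transferSylow P hNC)).eq_bot_or_eq_top with hK | hK
      · have h4 := hcompl.card_mul_card
        rw [hK, Subgroup.card_bot, one_mul, hcard P] at h4
        exact hne h4.symm
      · rw [hK, Subgroup.card_top] at hndvd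
        exact hndvd ((dvd_mul_left p 3).trans hdG)
  have hSyl : ∀ u : G, orderOf u = p → ∃ P : Sylow p G, (P : Subgroup G) = Subgroup.zpowers u := by
    intro u hu
    obtain ⟨Q, hQ⟩ := (IsPGroup.of_card (n := 1) (show Nat.card (Subgroup.zpowers u) = p ^ 1 by
      rw [Nat.card_zpowers, hu, pow_one])).exists_le_sylow
    exact ⟨Q, (Subgroup.eq_of_le_of_card_ge hQ (by rw [hcard Q, Nat.card_zpowers, hu])).symm⟩
  have hcent : ∀ u : G, orderOf u = p → cC u = p := by
    intro u hu
    obtain ⟨P, hP⟩ := hSyl u hu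
    rw [cC, ← Subgroup.centralizer_closure, ← Subgroup.zpowers_eq_closure, ← hP, hself P, hcard P]
  have horder : ∀ g : G, p ∣ orderOf g → orderOf g = p := by
    intro g hg
    obtain ⟨m, hm⟩ := hg
    have hm0 : m ≠ 0 := fun h0 => (orderOf_pos g).ne' (by rw [hm, h0, mul_zero])
    have ho1 : orderOf (g ^ m) = p := by
      rw [orderOf_pow_of_dvd hm0 ⟨p, by rw [hm, mul_comm]⟩, hm,
        Nat.mul_div_cancel _ (Nat.pos_of_ne_zero hm0)]
    have h1 : orderOf g ∣ p := by
      rw [← hcent _ ho1]
      exact Subgroup.orderOf_dvd_natCard _ (Subgroup.mem_centralizer_singleton_iff.2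
        ((Commute.refl g).pow_right m).eq)
    exact ((Nat.dvd_prime hp).1 h1).resolve_left fun h2 => by
      rw [hm] at h2
      exact hp.ne_one (Nat.eq_one_of_mul_eq_one_right h2)
  have hfree : ∀ u : G, orderOf u = p → fx Ω u = 0 := by
    intro u hu
    rw [fx, Nat.card_eq_zero]
    refine Or.inl ⟨fun x => ?_⟩
    have h1 : p ∣ Nat.card (stabilizer G (x : Ω)) := by
      have h2 := Subgroup.orderOf_dvd_natCard _ (mem_stabilizer_iff.2 x.2 : u ∈ stabilizer G (x : Ω))
      rwa [hu] at h2
    have h2 := Subgroup.card_mul_index (stabilizer G (x : Ω))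
    rw [index_stabilizer_of_transitive, h.card] at h2
    have h4 : p ^ 2 ∣ Nat.card (P₀ : Subgroup G) := by
      rw [P₀.card_eq_multiplicity]
      refine pow_dvd_pow p ((hp.pow_dvd_iff_le_factorization Nat.card_pos.ne').1 ?_)
      rw [← h2, sq]
      exact Nat.mul_dvd_mul h1 (dvd_mul_left p 3)
    rw [hcard₀] at h4
    have := Nat.le_of_dvd hp.pos h4
    nlinarith
  have hindex : ∃ N : ℕ, Nat.card G = 2 * p * N ∧ N ≡ 1 [MOD p] := by
    refine ⟨Nat.card (Sylow p G), ?_, card_sylow_modEq_one p G⟩
    have h1 := Subgroup.card_mul_index (Subgroup.normalizer ((P₀ : Subgroup G) : Set G))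
    rw [hN, hidxN] at h1
    exact h1.symm
  have hcount : 2 * p * Nat.card {g : G // orderOf g = p} = Nat.card G * (p - 1) := by
    have e : Nat.card {g : G // orderOf g = p} = Nat.card (Sylow p G) * (p - 1) := by
      have h1 : ∀ P : Sylow p G, Nat.card {x : (P : Subgroup G) // x ≠ 1} = p - 1 := fun P => by
        rw [Nat.card_eq_fintype_card, Fintype.card_subtype_compl, Fintype.card_subtype_eq,
          ← Nat.card_eq_fintype_card, hcard P]
      rw [← Nat.card_congr (Equiv.ofBijective
        (fun z : Σ P : Sylow p G, {x : (P : Subgroup G) // x ≠ 1} =>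
          (⟨(z.2.1 : G), by
            have h2 := Subgroup.orderOf_dvd_natCard _ z.2.1.2
            rw [hcard z.1] at h2
            exact ((Nat.dvd_prime hp).1 h2).resolve_left fun h3 =>
              z.2.2 (Subtype.ext (orderOf_eq_one_iff.1 h3))⟩ : {g : G // orderOf g = p}))
        ⟨fun z w hzw => ?_, fun g => ?_⟩)]
      · rw [Nat.card_sigma]
        simp only [h1, Finset.sum_const, Finset.card_univ, smul_eq_mul, Nat.card_eq_fintype_card]
      · have hval : (z.2.1 : G) = (w.2.1 : G) := congrArg Subtype.val hzw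
        obtain ⟨P, ⟨x, hx⟩⟩ := z
        obtain ⟨Q, ⟨y, hy⟩⟩ := w
        have hx1 : (x : G) ≠ 1 := fun e => hx (Subtype.ext e)
        have hPQ : P = Q := by
          refine Sylow.ext ?_
          rw [← Blocks.zpowers_eq_of_prime_card (hcard P) x.2 hx1,
            ← Blocks.zpowers_eq_of_prime_card (hcard Q) (hval ▸ y.2 : (x : G) ∈ (Q : Subgroup G)) hx1]
        subst hPQ
        have : x = y := Subtype.ext hval
        subst this
        rfl
      · obtain ⟨P, hP⟩ := hSyl g.1 g.2
        have hg1 : (g : G) ≠ 1 := fun e => hp.ne_one (by rw [← g.2, e, orderOf_one])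
        exact ⟨⟨P, ⟨⟨g.1, hP ▸ Subgroup.mem_zpowers _⟩, fun e => hg1 (congrArg Subtype.val e)⟩⟩,
          Subtype.ext rfl⟩
    have h1 := Subgroup.card_mul_index (Subgroup.normalizer ((P₀ : Subgroup G) : Set G))
    rw [hN, hidxN] at h1
    rw [e, ← h1]
    ring
  have hinvert : ∀ u : G, orderOf u = p → ∃ t : G, orderOf t = 2 ∧ t * u * t⁻¹ = u⁻¹ := by
    intro u hu
    obtain ⟨P, hP⟩ := hSyl u hu
    obtain ⟨t, ht⟩ := exists_prime_orderOf_dvd_card'
      (G := Subgroup.normalizer ((P : Subgroup G) : Set G)) 2 (by rw [hNall P]; exact dvd_mul_right _ _)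
    refine ⟨t, by rw [Subgroup.orderOf_coe, ht], ?_⟩
    have ht2 : (t : G) * t = 1 := by
      rw [← pow_two]
      exact congrArg Subtype.val (orderOf_dvd_iff_pow_eq_one.1 ht.dvd)
    have hmem : (t : G) * u * (t : G)⁻¹ ∈ Subgroup.zpowers u := by
      rw [← hP]
      exact (Subgroup.mem_normalizer_iff.1 t.2 u).1 (hP ▸ Subgroup.mem_zpowers u)
    obtain ⟨i, hi⟩ := Subgroup.mem_zpowers_iff.1 hmem
    have h2 : u ^ (i * i) = u := by
      rw [zpow_mul, hi, conj_zpow, hi, show (t : G) * ((t : G) * u * (t : G)⁻¹) * (t : G)⁻¹ =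
        ((t : G) * t) * u * ((t : G) * t)⁻¹ by group, ht2]
      simp
    have h4 : (p : ℤ) ∣ (i - 1) * (i + 1) := by
      rw [← hu, orderOf_dvd_iff_zpow_eq_one, show (i - 1) * (i + 1) = i * i + -1 by ring,
        zpow_add, h2, zpow_neg_one, mul_inv_cancel]
    rcases Int.Prime.dvd_mul' hp h4 with h5 | h5
    · exfalso
      rw [← hu, orderOf_dvd_iff_zpow_eq_one, zpow_sub, zpow_one, mul_inv_eq_one, hi] at h5
      have hPC : (P : Subgroup G) = Subgroup.centralizer ({u} : Set G) := by
        rw [← Subgroup.centralizer_closure, ← Subgroup.zpowers_eq_closure, ← hP, hself P]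
      have hc : (t : G) ∈ (P : Subgroup G) := by
        refine hPC.ge (Subgroup.mem_centralizer_singleton_iff.2 ?_)
        exact mul_inv_eq_iff_eq_mul.1 h5
      have h6 := Subgroup.orderOf_dvd_natCard _ hc
      rw [hcard P, Subgroup.orderOf_coe, ht] at h6
      have := (Nat.prime_dvd_prime_iff_eq Nat.prime_two hp).1 h6
      omega
    · rw [← hu, orderOf_dvd_iff_zpow_eq_one, zpow_add, zpow_one, mul_eq_one_iff_eq_inv, hi] at h5
      exact h5
  refine ⟨h, hcard, hself, hcent, horder, hcount, hfree, hindex, hinvert, ?_⟩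
  intro t u hu ht hinv
  -- at most one fixed point in each orbit of `u`
  set U := Subgroup.zpowers u with hU
  have hUcard : Nat.card U = p := by rw [hU, Nat.card_zpowers, hu]
  have hstab : ∀ x : Ω, stabilizer U x = ⊥ := by
    intro x
    rw [Subgroup.eq_bot_iff_forall]
    intro w hw
    by_contra hw1
    have how : orderOf (w : G) = p := by
      rw [Subgroup.orderOf_coe]
      exact ((Nat.dvd_prime hp).1 (hUcard ▸ orderOf_dvd_natCard w)).resolve_left
        fun e => hw1 (orderOf_eq_one_iff.1 e)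
    have h1 := hfree _ how
    rw [fx, Nat.card_eq_zero] at h1
    exact (h1.resolve_right (not_infinite_iff_finite.2 inferInstance)).false ⟨x, hw⟩
  have horbit : ∀ x : Ω, Nat.card (orbit U x) = p := by
    intro x
    rw [Nat.card_congr (orbitEquivQuotientStabilizer U x), ← Subgroup.index_eq_card, hstab x,
      Subgroup.index_bot, hUcard]
  have hquot : Nat.card (orbitRel.Quotient U Ω) = 3 := by
    haveI := Fintype.ofFinite (orbitRel.Quotient U Ω)
    have h1 := Nat.card_congr (selfEquivSigmaOrbits U Ω)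
    rw [h.card, Nat.card_sigma] at h1
    simp only [horbit, Finset.sum_const, Finset.card_univ, smul_eq_mul,
      ← Nat.card_eq_fintype_card] at h1
    exact (Nat.eq_of_mul_eq_mul_right hp.pos h1).symm
  have hle : fx Ω t ≤ 3 := by
    rw [fx, ← hquot]
    refine Nat.card_le_card_of_injective
      (fun x : fixedBy Ω t => (Quotient.mk'' (x : Ω) : orbitRel.Quotient U Ω)) fun x y hxy => ?_
    obtain ⟨⟨w, hwU⟩, hw⟩ := (orbitRel_apply).1 (Quotient.exact' hxy)
    obtain ⟨i, rfl⟩ := Subgroup.mem_zpowers_iff.1 hwU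
    change u ^ i • (y : Ω) = x at hw
    have h1 : (t * u ^ i * t⁻¹) • (y : Ω) = x := by
      rw [mul_smul, mul_smul, show t⁻¹ • (y : Ω) = y from inv_smul_eq_iff.2 y.2.symm, hw]
      exact x.2
    rw [← conj_zpow, hinv, inv_zpow] at h1
    have h2 : u ^ (2 * i) • (y : Ω) = y := by
      rw [two_mul, zpow_add, mul_smul, hw, ← h1, smul_inv_smul]
    have h3 : u ^ (2 * i) = 1 := by
      have := (Subgroup.eq_bot_iff_forall _).1 (hstab (y : Ω)) ⟨u ^ (2 * i), ⟨2 * i, rfl⟩⟩ h2
      exact congrArg Subtype.val this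
    rw [← orderOf_dvd_iff_zpow_eq_one, hu] at h3
    have h4 : (p : ℤ) ∣ i := (Int.Prime.dvd_mul' hp h3).resolve_left fun h5 => by
      have := Int.le_of_dvd (by norm_num) h5
      omega
    rw [← hu, orderOf_dvd_iff_zpow_eq_one] at h4
    rw [h4, one_smul] at hw
    exact Subtype.ext hw.symm
  -- the parity
  have hσ2 : (MulAction.toPermHom G Ω t) ^ 2 = 1 := by
    rw [← map_pow, orderOf_dvd_iff_pow_eq_one.1 ht.dvd, map_one]
  set σ := MulAction.toPermHom G Ω t with hσ
  have hsign : Equiv.Perm.sign σ = (-1) ^ (σ.support.card / 2) := by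
    rw [Equiv.Perm.sign_of_cycleType,
      show σ.cycleType = Multiset.replicate (Multiset.card σ.cycleType) 2 from
        Multiset.eq_replicate_card.2 fun n hn => by
          have h1 := (Equiv.Perm.dvd_of_mem_cycleType hn).trans (orderOf_dvd_of_pow_eq_one hσ2)
          rcases (Nat.dvd_prime Nat.prime_two).1 h1 with rfl | rfl
          · exact absurd (Equiv.Perm.one_lt_of_mem_cycleType hn) (lt_irrefl 1)
          · rfl]
    rw [← Equiv.Perm.sum_cycleType, show σ.cycleType = Multiset.replicate (Multiset.card σ.cycleType) 2 from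
        Multiset.eq_replicate_card.2 fun n hn => by
          have h1 := (Equiv.Perm.dvd_of_mem_cycleType hn).trans (orderOf_dvd_of_pow_eq_one hσ2)
          rcases (Nat.dvd_prime Nat.prime_two).1 h1 with rfl | rfl
          · exact absurd (Equiv.Perm.one_lt_of_mem_cycleType hn) (lt_irrefl 1)
          · rfl]
    simp [pow_add, pow_mul]
  rw [hσ, sign_eq_one h.nonab (MulAction.toPermHom G Ω) t, ← hσ] at hsign
  have hdvd2 : 2 ∣ σ.support.card := by
    rw [← Equiv.Perm.sum_cycleType]
    refine Multiset.dvd_sum fun n hn => ?_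
    have h1 := (Equiv.Perm.dvd_of_mem_cycleType hn).trans (orderOf_dvd_of_pow_eq_one hσ2)
    rcases (Nat.dvd_prime Nat.prime_two).1 h1 with rfl | rfl
    · exact absurd (Equiv.Perm.one_lt_of_mem_cycleType hn) (lt_irrefl 1)
    · exact dvd_rfl
  have hsupp : σ.support.card + fx Ω t = 3 * p := by
    have h1 : fx Ω t = σ.supportᶜ.card := by
      rw [fx, Nat.card_coe_set_eq, ← Set.ncard_coe_finset]
      congr 1
      ext x
      simp [σ]
    rw [h1, Finset.card_add_card_compl, ← Nat.card_eq_fintype_card, h.card]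
  have heven : 2 ∣ σ.support.card / 2 := by
    by_contra hc
    rw [Odd.neg_one_pow (Nat.odd_iff.2 (Nat.two_dvd_ne_zero.1 hc))] at hsign
    exact absurd hsign (by decide)
  obtain ⟨r, hr⟩ := hp.odd_of_ne_two (by omega)
  unfold f0
  split <;> omega

end CfsgLib.DegreeThreeP
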