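import Cfsg.Agent.Lib.Chars.PermChar
import Cfsg.Agent.Lib.CharApps.AbelianSylow

/-!
# Simple groups of degree `3p` with a dihedral Sylow normalizer: interface

The pieces of the primitive case are stated here as propositions and proved in the other files of
this folder.
-/

set_option autoImplicit false
set_option linter.unusedVariables false

namespace CfsgLib.DegreeThreeP

open MulAction Cfsg CfsgLib.Chars

universe u v

variable (G : Type u) [Group G] (Ω : Type v) [MulAction G Ω]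

variable {G} in
/-- The number of fixed points. -/
noncomputable def fx (g : G) : ℕ := Nat.card (fixedBy Ω g)

variable {G} in
/-- The order of the centralizer. -/
noncomputable def cC (g : G) : ℕ := Nat.card (Subgroup.centralizer ({g} : Set G))

variable {G} in
/-- The order of the centralizer of a pair. -/
noncomputable def cPair (g h : G) : ℕ := Nat.card (Subgroup.centralizer ({g, h} : Set G))

variable {G} in
/-- The number of elements of odd order in a centralizer. -/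
noncomputable def oddCount (g : G) : ℕ := Nat.card {z : G // Commute g z ∧ Odd (orderOf z)}

/-- The number of fixed points of an involution. -/
def f0 (p : ℕ) : ℕ := if p % 4 = 1 then 3 else 1

/-- The hypotheses of the primitive case. -/
structure Hyp (p : ℕ) : Prop where
  prime : p.Prime
  three_lt : 3 < p
  simple : IsSimpleGroup G
  nonab : ¬ IsMulCommutative G
  faithful : FaithfulSMul G Ω
  card : Nat.card Ω = 3 * p
  prim : IsPreprimitive G Ω
  norm : ∃ P : Sylow p G, Nat.card (Subgroup.normalizer ((P : Subgroup G) : Set G)) = 2 * p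

/-- The elementary consequences. -/
structure Core (p : ℕ) : Prop extends Hyp G Ω p where
  sylow_card : ∀ P : Sylow p G, Nat.card (P : Subgroup G) = p
  selfCentral : ∀ P : Sylow p G,
    Subgroup.centralizer ((P : Subgroup G) : Set G) = (P : Subgroup G)
  cent : ∀ u : G, orderOf u = p → cC u = p
  order_p : ∀ g : G, p ∣ orderOf g → orderOf g = p
  count_p : 2 * p * Nat.card {g : G // orderOf g = p} = Nat.card G * (p - 1)
  free : ∀ u : G, orderOf u = p → fx Ω u = 0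
  index : ∃ N : ℕ, Nat.card G = 2 * p * N ∧ N ≡ 1 [MOD p]
  invert : ∀ u : G, orderOf u = p → ∃ t : G, orderOf t = 2 ∧ t * u * t⁻¹ = u⁻¹
  fix_invert : ∀ t u : G, orderOf u = p → orderOf t = 2 → t * u * t⁻¹ = u⁻¹ → fx Ω t = f0 p

/-- The principal `p`-block: `χ` and the exceptional characters `Y`. -/
structure Data (p : ℕ) (χ : IrrCharacter G) (Y : Finset (IrrCharacter G)) (δ ε : ℤ) : Prop
    extends Core G Ω p where
  χ_ne : χ ≠ principal G
  χ_notMem : χ ∉ Y
  one_notMem : principal G ∉ Y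
  card_Y : 2 * Y.card + 1 = p
  sign_δ : δ = 1 ∨ δ = -1
  sign_ε : ε = 1 ∨ ε = -1
  rel : ∀ θ ∈ Y, ∀ g : G, ¬ p ∣ orderOf g →
    (ε : ℂ) * (θ : G → ℂ) g = 1 + (δ : ℂ) * (χ : G → ℂ) g
  χ_val : ∀ u : G, orderOf u = p → (χ : G → ℂ) u = (δ : ℂ)
  sum_Y : ∀ u : G, orderOf u = p → ∑ θ ∈ Y, (θ : G → ℂ) u = -(ε : ℂ)
  other_dvd : ∀ η : IrrCharacter G, η ≠ principal G → η ≠ χ → η ∉ Y →
    p ∣ charDegree (η : G → ℂ)
  other_vanish : ∀ η : IrrCharacter G, η ≠ principal G → η ≠ χ → η ∉ Y →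
    ∀ u : G, orderOf u = p → (η : G → ℂ) u = 0

/-- The possible decompositions of the permutation character. -/
def Shape (p : ℕ) (χ : IrrCharacter G) (Y : Finset (IrrCharacter G)) (δ ε : ℤ) : Prop :=
  (δ = -1 ∧ ε = -1 ∧ charDegree (χ : G → ℂ) = p - 1) ∨
  (δ = -1 ∧ ε = -1 ∧ charDegree (χ : G → ℂ) = 2 * p - 1 ∧ 7 ≤ 2 * p ∧
    ∃ ψ : IrrCharacter G, charDegree (ψ : G → ℂ) = p ∧
      ∀ g : G, (fx Ω g : ℂ) = 1 + (χ : G → ℂ) g + (ψ : G → ℂ) g) ∨
  (δ = -1 ∧ ε = -1 ∧ charDegree (χ : G → ℂ) = 3 * p - 1 ∧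
    ∀ g : G, (fx Ω g : ℂ) = 1 + (χ : G → ℂ) g) ∨
  (p = 5 ∧ δ = 1 ∧ ε = 1 ∧ charDegree (χ : G → ℂ) = 6 ∧
    ∀ g : G, (fx Ω g : ℂ) = 1 + ∑ θ ∈ Y, (θ : G → ℂ) g)

/-- One class of involutions. -/
structure Inv (p : ℕ) : Prop extends Core G Ω p where
  conj : ∀ s t : G, orderOf s = 2 → orderOf t = 2 → IsConj s t
  fix : ∀ t : G, orderOf t = 2 → fx Ω t = f0 p

/-- The doubly transitive case. -/
structure Two (p : ℕ) : Prop extends Inv G Ω p where
  two_trans : IsMultiplyPretransitive G Ω 2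
  formula : ∀ t : G, orderOf t = 2 →
    Nat.card G * (3 * p - f0 p) ^ 2 = p * (3 * p - 1) * (3 * p - 2) * cC t ^ 2

/-- The case of rank three. -/
structure Three (p : ℕ) : Prop extends Inv G Ω p where
  chars : ∃ χ ψ : IrrCharacter G, charDegree (χ : G → ℂ) = 2 * p - 1 ∧
    charDegree (ψ : G → ℂ) = p ∧
    (∀ g : G, (fx Ω g : ℂ) = 1 + (χ : G → ℂ) g + (ψ : G → ℂ) g) ∧
    (∀ g : G, 2 ∣ orderOf g → (χ : G → ℂ) g = 1)
  degree_ge : ∀ η : IrrCharacter G, η ≠ principal G → p - 1 ≤ charDegree (η : G → ℂ)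
  formula : ∀ t : G, orderOf t = 2 →
    Nat.card G * (2 * (p - 1)) = p * (2 * p - 1) * cC t ^ 2

/-- The exceptional case of degree fifteen. -/
structure Six (p : ℕ) : Prop extends Inv G Ω p where
  five : p = 5
  formula : ∀ t : G, orderOf t = 2 → 6 * Nat.card G = 35 * cC t ^ 2

/-- The linear case: a faithful character of degree `p - 2`. -/
def Linear (p : ℕ) : Prop :=
  7 ≤ p ∧ ∃ ζ : IrrCharacter G, (∀ g : G, (ζ : G → ℂ) g = (ζ : G → ℂ) 1 → g = 1) ∧
    charDegree (ζ : G → ℂ) = p - 2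

/-- The case of the characters of degrees four and three. -/
def Icos (p : ℕ) : Prop :=
  p = 5 ∧ ∃ θ χ : IrrCharacter G, charDegree (θ : G → ℂ) = 3 ∧
    (∀ g : G, (θ : G → ℂ) g = (θ : G → ℂ) 1 → g = 1) ∧ charDegree (χ : G → ℂ) = 4 ∧
    (∀ η : IrrCharacter G, charDegree (η : G → ℂ) = 4 → η = χ) ∧
    (∀ g : G, ¬ p ∣ orderOf g → (θ : G → ℂ) g = (χ : G → ℂ) g - 1) ∧
    (∀ u : G, orderOf u = p → (χ : G → ℂ) u = -1)

/-- The facts about the centralizer of an involution in the doubly transitive case, `p ≡ 3 [4]`. -/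
structure OneFixed (p : ℕ) (t : G) (a b : Ω) : Prop where
  invol : orderOf t = 2
  fix_eq : fixedBy Ω t = {a}
  ne : b ≠ a
  cent_le : Subgroup.centralizer ({t} : Set G) ≤ stabilizer G a
  trans : ∀ x : Ω, x ≠ a → ∃ g ∈ Subgroup.centralizer ({t} : Set G), g • b = x
  card_cent : cC t = (3 * p - 1) *
    Nat.card (Subgroup.centralizer ({t} : Set G) ⊓ stabilizer G b : Subgroup G)
  odd : Odd (Nat.card (Subgroup.centralizer ({t} : Set G) ⊓ stabilizer G b : Subgroup G))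
  three_dvd : 3 ∣ Nat.card (Subgroup.centralizer ({t} : Set G) ⊓ stabilizer G b : Subgroup G)
  two_pow : ∃ k : ℕ, 3 * p - 1 = 2 ^ k
  odd_count : oddCount t ≤
    3 * Nat.card (Subgroup.centralizer ({t} : Set G) ⊓ stabilizer G b : Subgroup G)

/-- The parameters of the rank three graph for `p ≡ 1 [4]`. -/
structure Param (p : ℕ) (r : ℤ) : Prop where
  eq : 2 * (p : ℤ) = 6 * r ^ 2 + 3 * r + 1
  subdeg : ∀ x y : Ω, x ≠ y →
    2 * (Nat.card (orbit (stabilizer G x) y) : ℤ) = 6 * r ^ 2 + 5 * r + 1 ∨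
    (Nat.card (orbit (stabilizer G x) y) : ℤ) = 6 * r ^ 2 + 2 * r
  moved : ∀ t : G, orderOf t = 2 → ∃ x : Ω, t • x ≠ x ∧
    2 * (Nat.card (orbit (stabilizer G x) (t • x)) : ℤ) = 6 * r ^ 2 + 5 * r + 1

/-- The dihedral Sylow subgroup of order eight. -/
structure Dih (p : ℕ) (P : Sylow 2 G) (t u r : G) (a : Ω) : Prop where
  big : 60 < p
  card_P : Nat.card (P : Subgroup G) = 8
  mem_u : u ∈ (P : Subgroup G)
  mem_r : r ∈ (P : Subgroup G)
  ord_t : orderOf t = 2
  ord_u : orderOf u = 4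
  ord_r : orderOf r = 2
  sq : u ^ 2 = t
  rel : r * u * r⁻¹ = u⁻¹
  gen : Subgroup.closure ({u, r} : Set G) = (P : Subgroup G)
  fix_t : t • a = a
  fix_u : u • a = a
  fix_r : r • a = a
  only : ∀ x : Ω, t • x = x → r • x = x → x = a

/-! ## The statements of the pieces -/

/-- Piece: the elementary consequences. -/
def CoreStmt : Prop := ∀ (G : Type u) [Group G] [Finite G] (Ω : Type v) [MulAction G Ω] [Finite Ω]
  (p : ℕ), Hyp G Ω p → Core G Ω p

/-- Piece: the principal block and the permutation character. -/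
def ShapeStmt : Prop := ∀ (G : Type u) [Group G] [Finite G] (Ω : Type v) [MulAction G Ω] [Finite Ω]
  (p : ℕ), Core G Ω p → ∃ (χ : IrrCharacter G) (Y : Finset (IrrCharacter G)) (δ ε : ℤ),
    Data G Ω p χ Y δ ε ∧ Shape G Ω p χ Y δ ε

/-- Piece: one class of involutions and the order formula. -/
def InvolStmt : Prop := ∀ (G : Type u) [Group G] [Finite G] (Ω : Type v) [MulAction G Ω] [Finite Ω]
  (p : ℕ) (χ : IrrCharacter G) (Y : Finset (IrrCharacter G)) (δ ε : ℤ), Data G Ω p χ Y δ ε →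
    Inv G Ω p ∧ ∀ t : G, orderOf t = 2 →
      (Nat.card G : ℂ) * (δ : ℂ) * ((χ : G → ℂ) 1 - (χ : G → ℂ) t) ^ 2 =
        (p : ℂ) * (cC t : ℂ) ^ 2 * (χ : G → ℂ) 1 * (1 + (δ : ℂ) * (χ : G → ℂ) 1)

/-- Piece: the five cases. -/
def CasesStmt : Prop := ∀ (G : Type u) [Group G] [Finite G] (Ω : Type v) [MulAction G Ω] [Finite Ω]
  (p : ℕ), Core G Ω p →
    Linear G p ∨ Icos G p ∨ Six G Ω p ∨ Three G Ω p ∨ Two G Ω p

/-- Piece: the linear case and the degree fifteen cases with no solution. -/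
def LinearStmt : Prop := ∀ (G : Type u) [Group G] [Finite G] (Ω : Type v) [MulAction G Ω] [Finite Ω]
  (p : ℕ), Core G Ω p → (Linear G p ∨ Icos G p ∨ Six G Ω p) → False

/-- Piece: doubly transitive, `p ≡ 1 [4]`. -/
def TwoOneStmt : Prop := ∀ (G : Type u) [Group G] [Finite G] (Ω : Type v) [MulAction G Ω] [Finite Ω]
  (p : ℕ), Two G Ω p → p % 4 = 1 → False

/-- Piece: doubly transitive, `p ≡ 3 [4]`, the counting. -/
def TwoThreeCountStmt : Prop := ∀ (G : Type u) [Group G] [Finite G] (Ω : Type v) [MulAction G Ω]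
  [Finite Ω] (p : ℕ), Two G Ω p → p % 4 = 3 → ∃ (t : G) (a b : Ω), OneFixed G Ω p t a b

/-- Piece: doubly transitive, `p ≡ 3 [4]`, the structure of the centralizer. -/
def TwoThreeEndStmt : Prop := ∀ (G : Type u) [Group G] [Finite G] (Ω : Type v) [MulAction G Ω]
  [Finite Ω] (p : ℕ), Two G Ω p → p % 4 = 3 → ∀ (t : G) (a b : Ω), OneFixed G Ω p t a b → False

/-- Piece: rank three, `p ≡ 3 [4]`. -/
def ThreeThreeStmt : Prop := ∀ (G : Type u) [Group G] [Finite G] (Ω : Type v) [MulAction G Ω]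
  [Finite Ω] (p : ℕ), Three G Ω p → p % 4 = 3 → False

/-- Piece: rank three, `p = 5`. -/
def ThreeFiveStmt : Prop := ∀ (G : Type u) [Group G] [Finite G] (Ω : Type v) [MulAction G Ω]
  [Finite Ω] (p : ℕ), Three G Ω p → p = 5 → Nonempty (G ≃* alternatingGroup (Fin 6))

/-- Piece: the eigenvalues of the rank three graph. -/
def ParamStmt : Prop := ∀ (G : Type u) [Group G] [Finite G] (Ω : Type v) [MulAction G Ω] [Finite Ω]
  (p : ℕ), Three G Ω p → p % 4 = 1 → ∃ r : ℤ, Param G Ω p r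

/-- Piece: the Sylow `2`-subgroup in rank three. -/
def DihStmt : Prop := ∀ (G : Type u) [Group G] [Finite G] (Ω : Type v) [MulAction G Ω] [Finite Ω]
  (p : ℕ) (r : ℤ), Three G Ω p → p % 4 = 1 → p ≠ 5 → Param G Ω p r →
    ∃ (P : Sylow 2 G) (t u r : G) (a : Ω), Dih G Ω p P t u r a

/-- Piece: the pairs of involutions with product of order four. -/
def PairsStmt : Prop := ∀ (G : Type u) [Group G] [Finite G] (Ω : Type v) [MulAction G Ω] [Finite Ω]
  (p : ℕ), Three G Ω p → p % 4 = 1 → ∀ (P : Sylow 2 G) (t u r : G) (a : Ω), Dih G Ω p P t u r a →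
    8 * cC t = (p - 1) * cPair t r * cPair t (u * r)

/-- Piece: the stabilizer has one class of involutions. -/
def OneClassStmt : Prop := ∀ (G : Type u) [Group G] [Finite G] (Ω : Type v) [MulAction G Ω]
  [Finite Ω] (p : ℕ), Three G Ω p → p % 4 = 1 → ∀ (P : Sylow 2 G) (t u r : G) (a : Ω),
    Dih G Ω p P t u r a → (∃ g ∈ Subgroup.centralizer ({t} : Set G), g • a ≠ a) → False

/-- Piece: the stabilizer has two classes of involutions: the bound. -/
def TwoClassStmt : Prop := ∀ (G : Type u) [Group G] [Finite G] (Ω : Type v) [MulAction G Ω]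
  [Finite Ω] (p : ℕ), Three G Ω p → p % 4 = 1 → ∀ (P : Sylow 2 G) (t u r : G) (a : Ω),
    Dih G Ω p P t u r a → (∀ g ∈ Subgroup.centralizer ({t} : Set G), g • a = a) →
      3 * (p - 1) * cC t ≤ (2 * p - 1) * cPair t r ^ 2

/-- Piece: the end of the case of two classes. -/
def TwoClassEndStmt : Prop := ∀ (G : Type u) [Group G] [Finite G] (Ω : Type v) [MulAction G Ω]
  [Finite Ω] (p : ℕ), Three G Ω p → p % 4 = 1 → ∀ (P : Sylow 2 G) (t u r : G) (a : Ω),
    Dih G Ω p P t u r a → 8 * cC t = (p - 1) * cPair t r * cPair t (u * r) →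
      3 * (p - 1) * cC t ≤ (2 * p - 1) * cPair t r ^ 2 → False

/-- General: the order formula for a four group Sylow subgroup and one class of involutions, as
two inequalities. -/
def KleinBoundStmt : Prop := ∀ (X : Type u) [Group X] [Finite X] (P : Sylow 2 X),
  IsKleinFour (P : Subgroup X) → (∀ s t : X, orderOf s = 2 → orderOf t = 2 → IsConj s t) →
  ∀ J : X, J ∈ (P : Subgroup X) → orderOf J = 2 →
    2 * cC J ^ 3 ≤ Nat.card X * Nat.card (Subgroup.centralizer ((P : Subgroup X) : Set X)) ^ 2 ∧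
    ∀ m : ℕ, 2 ≤ m → (∀ η : IrrCharacter X, η ≠ principal X → m ≤ charDegree (η : X → ℂ)) →
      Nat.card X * Nat.card (Subgroup.centralizer ((P : Subgroup X) : Set X)) ^ 2 * (m - 1) ^ 3 ≤
        8 * m ^ 3 * cC J ^ 3

/-- General: the order formula for a dihedral Sylow subgroup of order eight and one class of
involutions, as two inequalities. -/
def DihedralBoundStmt : Prop := ∀ (X : Type u) [Group X] [Finite X] (P : Sylow 2 X) (σ τ : X),
  σ ∈ (P : Subgroup X) → τ ∈ (P : Subgroup X) → orderOf σ = 4 → orderOf τ = 2 →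
  τ * σ * τ⁻¹ = σ⁻¹ → Subgroup.closure ({σ, τ} : Set X) = (P : Subgroup X) →
  (∀ s t : X, orderOf s = 2 → orderOf t = 2 → IsConj s t) →
    4 * (cC (σ ^ 2) : ℚ) ^ 3 *
        (1 / (cPair (σ ^ 2) τ : ℚ) + 1 / (cPair (σ ^ 2) (σ * τ) : ℚ)) ^ 2 ≤
      9 * (Nat.card X : ℚ) ∧
    ∀ m : ℕ, 5 ≤ m → (∀ η : IrrCharacter X, η ≠ principal X → m ≤ charDegree (η : X → ℂ)) →
      (cC (σ ^ 2) : ℚ) ^ 3 *
          (1 / (cPair (σ ^ 2) τ : ℚ) + 1 / (cPair (σ ^ 2) (σ * τ) : ℚ)) ^ 2 ≤ Nat.card X ∧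
      (Nat.card X : ℚ) * ((m : ℚ) - 1) ^ 2 ≤ 2 * m * (m + 1) * (cC (σ ^ 2) : ℚ) ^ 3 *
          (1 / (cPair (σ ^ 2) τ : ℚ) + 1 / (cPair (σ ^ 2) (σ * τ) : ℚ)) ^ 2

end CfsgLib.DegreeThreeP
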