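import Cfsg.Agent.Lib.DegreeThreeP.Defs
import Cfsg.Agent.Lib.Transfer.ThompsonTransfer

/-!
# Simple groups of degree `3p`: the Sylow `2`-subgroup in rank three

The Sylow `2`-subgroups are dihedral of order eight; if the centralizer of the central involution
fixes a point, a transfer argument gives the bound for the centralizer.
-/

set_option autoImplicit false
set_option linter.style.haveILetI false
set_option linter.unusedSectionVars false

namespace CfsgLib.DegreeThreeP

open MulAction Cfsg CfsgLib.Chars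

universe u v

namespace DihAux

variable {G : Type u} [Group G] [Finite G] {Ω : Type v} [MulAction G Ω] [Finite Ω] {p : ℕ}

theorem inv_of {t : G} (ht : orderOf t = 2) : t * t = 1 ∧ t⁻¹ = t ∧ t ≠ 1 := by
  have h : t * t = 1 := by rw [← pow_two, ← ht, pow_orderOf_eq_one]
  exact ⟨h, inv_eq_of_mul_eq_one_right h, fun e => by rw [e, orderOf_one] at ht; omega⟩

theorem orderOf_conj (g a : G) : orderOf (g * a * g⁻¹) = orderOf a :=
  orderOf_injective (MulAut.conj g).toMonoidHom (MulAut.conj g).injective a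

/-- The size of an orbit of a subgroup. -/
theorem card_orbit_mul (H : Subgroup G) (y : Ω) :
    Nat.card (orbit H y) * Nat.card ↥(H ⊓ stabilizer G y) = Nat.card H := by
  have e : stabilizer H y = (H ⊓ stabilizer G y).subgroupOf H := by
    ext k
    simp only [Subgroup.mem_subgroupOf, Subgroup.mem_inf, mem_stabilizer_iff]
    exact ⟨fun h => ⟨k.2, h⟩, fun h => h.2⟩
  rw [Nat.card_coe_set_eq, ← index_stabilizer, e, mul_comm,
    ← Nat.card_congr (Subgroup.subgroupOfEquivOfLe inf_le_left).toEquiv, Subgroup.card_mul_index]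

/-- The fixed points of a conjugate. -/
theorem fix_conj_iff (g t : G) (x : Ω) : (g * t * g⁻¹) • x = x ↔ t • (g⁻¹ • x) = g⁻¹ • x := by
  rw [mul_smul, mul_smul]
  constructor
  · intro h
    nth_rw 2 [← h]
    rw [inv_smul_smul]
  · intro h
    rw [h, smul_inv_smul]

/-- A commuting element permutes the fixed points. -/
theorem smul_fix {g t : G} (h : Commute g t) {x : Ω} (hx : t • x = x) : t • (g • x) = g • x := by
  rw [← mul_smul, ← h.eq, mul_smul, hx]

theorem three_cases {i : G} (h : fx Ω i = 3) {b c d x : Ω} (hb : i • b = b) (hc : i • c = c)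
    (hd : i • d = d) (hbc : b ≠ c) (hbd : b ≠ d) (hcd : c ≠ d) (hx : i • x = x) :
    x = b ∨ x = c ∨ x = d := by
  have hn : (fixedBy Ω i).ncard = 3 := by rw [← Nat.card_coe_set_eq]; exact h
  have h3 : ({b, c, d} : Set Ω).ncard = 3 := Set.ncard_eq_three.2 ⟨b, c, d, hbc, hbd, hcd, rfl⟩
  have e : ({b, c, d} : Set Ω) = fixedBy Ω i := by
    refine Set.eq_of_subset_of_ncard_le ?_ (by rw [hn, h3]) (Set.toFinite _)
    rintro y (rfl | rfl | rfl)
    exacts [hb, hc, hd]
  have : x ∈ ({b, c, d} : Set Ω) := e ▸ hx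
  simpa using this

section

variable (h : Three G Ω p)

include h

theorem fix_three (hp4 : p % 4 = 1) {i : G} (hi : orderOf i = 2) : fx Ω i = 3 := by
  rw [h.toInv.fix i hi, f0, if_pos hp4]

/-- Every involution is central in a Sylow subgroup. -/
theorem exists_central {i : G} (hi : orderOf i = 2) :
    ∃ P : Sylow 2 G, i ∈ (P : Subgroup G) ∧ ∀ x ∈ (P : Subgroup G), Commute x i := by
  haveI : Fact (Nat.Prime 2) := ⟨Nat.prime_two⟩
  obtain ⟨P⟩ : Nonempty (Sylow 2 G) := inferInstance
  have h2 : 2 ∣ Nat.card G := hi ▸ orderOf_dvd_natCard i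
  have hP1 : 2 ∣ Nat.card P := P.dvd_card_of_dvd_card h2
  haveI : Nontrivial P := Finite.one_lt_card_iff_nontrivial.1
    (Nat.lt_of_lt_of_le one_lt_two (Nat.le_of_dvd Nat.card_pos hP1))
  haveI := P.isPGroup'.center_nontrivial
  obtain ⟨k, hk⟩ := (P.isPGroup'.to_subgroup (Subgroup.center P)).exists_card_eq
  have hk0 : k ≠ 0 := fun e => by
    have := Finite.one_lt_card (α := Subgroup.center P)
    rw [hk, e] at this
    norm_num at this
  obtain ⟨z, hz⟩ := exists_prime_orderOf_dvd_card' (G := Subgroup.center P) 2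
    (hk ▸ dvd_pow_self 2 hk0)
  have hzG : orderOf (((z : P) : G)) = 2 := by
    rw [Subgroup.orderOf_coe, Subgroup.orderOf_coe, hz]
  obtain ⟨g, hg⟩ := isConj_iff.1 (h.toInv.conj _ i hzG hi)
  refine ⟨g • P, ?_, ?_⟩
  · rw [Sylow.coe_subgroup_smul]
    exact ⟨_, (z : P).2, hg⟩
  · intro x hx
    rw [Sylow.coe_subgroup_smul] at hx
    obtain ⟨y, hy, rfl⟩ := hx
    have hc : Commute y ((z : P) : G) :=
      congrArg Subtype.val (Subgroup.mem_center_iff.1 z.2 ⟨y, hy⟩)
    rw [← hg]
    exact hc.map (MulAut.conj g).toMonoidHom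

/-- An orbit of length divisible by eight joins no two fixed points of an involution. -/
theorem not_both_fixed (hp4 : p % 4 = 1) {i : G} (hi : orderOf i = 2) {x y : Ω}
    (hB : 8 ∣ Nat.card (orbit (stabilizer G x) y)) (hx : i • x = x) (hy : i • y = y) : False := by
  haveI : Fact (Nat.Prime 2) := ⟨Nat.prime_two⟩
  obtain ⟨P, -, hP⟩ := exists_central h hi
  have small : ∀ (H : Subgroup G) (z : Ω), H ≤ P → i • z = z → Nat.card (orbit H z) ∣ 2 := by
    intro H z hH hz
    have hd : Nat.card (orbit H z) ∣ Nat.card H := ⟨_, (card_orbit_mul H z).symm⟩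
    obtain ⟨k, hk⟩ := (P.isPGroup'.to_le hH).exists_card_eq
    rw [hk] at hd
    obtain ⟨j, -, hj⟩ := (Nat.dvd_prime_pow Nat.prime_two).1 hd
    have h3 : Nat.card (orbit H z) ≤ 3 := by
      rw [← fix_three h hp4 hi, fx, Nat.card_coe_set_eq, Nat.card_coe_set_eq]
      refine Set.ncard_le_ncard ?_ (Set.toFinite _)
      rintro _ ⟨g, rfl⟩
      exact smul_fix (hP g (hH g.2)) hz
    rw [hj] at h3 ⊢
    have : j ≤ 1 := by
      by_contra hc
      have := Nat.pow_le_pow_right (show 0 < 2 by norm_num) (show 2 ≤ j by omega)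
      omega
    exact pow_dvd_pow 2 this
  have e1 := card_orbit_mul (P : Subgroup G) x
  have e2 := card_orbit_mul ((P : Subgroup G) ⊓ stabilizer G x) y
  have d1 := small (P : Subgroup G) x le_rfl hx
  have d2 := small ((P : Subgroup G) ⊓ stabilizer G x) y inf_le_left hy
  have d3 : Nat.card ↥((P : Subgroup G) ⊓ stabilizer G x ⊓ stabilizer G y) ∣
      Nat.card ↥(stabilizer G x ⊓ stabilizer G y) :=
    Subgroup.card_dvd_of_le (inf_le_inf_right _ inf_le_right)
  have d4 : Nat.card (P : Subgroup G) ∣ 2 * (2 * Nat.card ↥(stabilizer G x ⊓ stabilizer G y)) := by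
    rw [← e1, ← e2]
    exact mul_dvd_mul d1 (mul_dvd_mul d2 d3)
  have d5 : 8 * Nat.card ↥(stabilizer G x ⊓ stabilizer G y) ∣ Nat.card G :=
    (mul_dvd_mul_right hB _).trans
      (card_orbit_mul (stabilizer G x) y ▸ Subgroup.card_subgroup_dvd_card _)
  refine P.not_dvd_index ?_
  have d6 : 2 * Nat.card (P : Subgroup G) ∣
      Nat.card (P : Subgroup G) * (P : Subgroup G).index := by
    rw [Subgroup.card_mul_index]
    refine (mul_dvd_mul_left 2 d4).trans ?_
    rw [show 2 * (2 * (2 * Nat.card ↥(stabilizer G x ⊓ stabilizer G y))) =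
      8 * Nat.card ↥(stabilizer G x ⊓ stabilizer G y) by ring]
    exact d5
  rw [mul_comm 2] at d6
  exact (Nat.mul_dvd_mul_iff_left Nat.card_pos).1 d6

/-- The order is divisible by eight but not by sixteen, and some pair lies in a short orbit. -/
theorem setup {r : ℤ} (hp4 : p % 4 = 1) (hp5 : p ≠ 5) (hr : Param G Ω p r) :
    60 < p ∧ (∀ P : Sylow 2 G, Nat.card (P : Subgroup G) = 8) ∧
      ∀ t : G, orderOf t = 2 → ∃ z : G, orderOf z = 2 ∧ Commute z t ∧
        ∃ x : Ω, z • x = x ∧ t • x ≠ x := by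
  classical
  haveI : Fact (Nat.Prime 2) := ⟨Nat.prime_two⟩
  haveI := h.toInv.toCore.toHyp.prim
  haveI : IsPretransitive G Ω := inferInstance
  have hcard := h.toInv.toCore.toHyp.card
  have hp3 := h.toInv.toCore.toHyp.three_lt
  have he := hr.eq
  obtain ⟨s, rfl⟩ : ∃ s : ℤ, r = 8 * s + 1 := by
    have hp4' : (p : ℤ) % 4 = 1 := by omega
    obtain ⟨q, hq⟩ : ∃ q : ℤ, r = 8 * q + r % 8 := ⟨r / 8, by omega⟩
    refine ⟨q, ?_⟩
    rcases (show r % 8 = 0 ∨ r % 8 = 1 ∨ r % 8 = 2 ∨ r % 8 = 3 ∨ r % 8 = 4 ∨ r % 8 = 5 ∨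
        r % 8 = 6 ∨ r % 8 = 7 by omega) with e | e | e | e | e | e | e | e <;>
      rw [e] at hq <;> first
        | exact hq
        | (exfalso; subst hq; ring_nf at he; omega)
  have h60 : 60 < p := by
    by_contra hlt
    rcases (show s = 0 ∨ 1 ≤ s ∨ s ≤ -1 by omega) with rfl | hs | hs
    · norm_num at he; omega
    · have : (60 : ℤ) ≥ p := by omega
      nlinarith
    · have : (60 : ℤ) ≥ p := by omega
      nlinarith
  -- the lengths of the orbits
  have hkind : ∀ x y : Ω, x ≠ y →
      (2 * (Nat.card (orbit (stabilizer G x) y) : ℤ) =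
          6 * (8 * s + 1) ^ 2 + 5 * (8 * s + 1) + 1) ∨
      (8 ∣ Nat.card (orbit (stabilizer G x) y) ∧ ¬ 16 ∣ Nat.card (orbit (stabilizer G x) y)) := by
    intro x y hxy
    rcases hr.subdeg x y hxy with e | e
    · exact Or.inl e
    · refine Or.inr ?_
      generalize Nat.card (orbit (stabilizer G x) y) = n at e ⊢
      ring_nf at e
      constructor <;> omega
  -- a long orbit
  obtain ⟨x₀⟩ : Nonempty Ω := Nat.card_pos_iff.1 (by rw [hcard]; omega) |>.1
  have hex : ∃ y, y ≠ x₀ ∧ 8 ∣ Nat.card (orbit (stabilizer G x₀) y) ∧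
      ¬ 16 ∣ Nat.card (orbit (stabilizer G x₀) y) := by
    by_contra hno
    have hA : ∀ y, y ≠ x₀ → 2 * (Nat.card (orbit (stabilizer G x₀) y) : ℤ) =
        6 * (8 * s + 1) ^ 2 + 5 * (8 * s + 1) + 1 := fun y hy =>
      (hkind x₀ y (Ne.symm hy)).resolve_right fun hB => hno ⟨y, hy, hB⟩
    haveI : Nontrivial Ω := Finite.one_lt_card_iff_nontrivial.1 (by rw [hcard]; omega)
    obtain ⟨y₀, hy₀⟩ := exists_ne x₀
    set n := Nat.card (orbit (stabilizer G x₀) y₀) with hn
    haveI := Fintype.ofFinite (orbitRel.Quotient (stabilizer G x₀) Ω)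
    have hsum : Nat.card Ω = ∑ ω : orbitRel.Quotient (stabilizer G x₀) Ω,
        Nat.card (orbit (stabilizer G x₀) ω.out) := by
      rw [Nat.card_congr (selfEquivSigmaOrbits (stabilizer G x₀) Ω), Nat.card_sigma]
    let ω₀ : orbitRel.Quotient (stabilizer G x₀) Ω := Quotient.mk'' x₀
    have horb0 : orbit (stabilizer G x₀) x₀ = {x₀} := by
      ext y
      simp only [mem_orbit_iff, Set.mem_singleton_iff]
      exact ⟨fun ⟨g, hg⟩ => hg ▸ g.2, fun e => ⟨1, by rw [e, one_smul]⟩⟩
    have hout0 : ω₀.out = x₀ := by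
      have h1 : ω₀.out ∈ orbit (stabilizer G x₀) x₀ :=
        orbitRel_apply.1 (Quotient.mk_out (s := orbitRel (stabilizer G x₀) Ω) x₀)
      rwa [horb0] at h1
    have hdvd : n ∣ ∑ ω ∈ Finset.univ.erase ω₀,
        Nat.card (orbit (stabilizer G x₀) ω.out) := by
      refine Finset.dvd_sum fun ω hω => ?_
      have hne : ω.out ≠ x₀ := fun e => (Finset.mem_erase.1 hω).1 (by
        rw [← Quotient.out_eq' ω, e])
      have h1 := hA _ hne
      have h2 := hA _ hy₀
      exact dvd_of_eq (by omega)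
    rw [← Finset.add_sum_erase _ _ (Finset.mem_univ ω₀), hout0, horb0, hcard,
      Nat.card_eq_fintype_card, Set.card_singleton] at hsum
    obtain ⟨k, hk⟩ := hdvd
    rw [hk] at hsum
    have hz : (3 * (p : ℤ)) = 1 + (n : ℤ) * k := by exact_mod_cast hsum
    have h2 := hA _ hy₀
    rw [← hn] at h2
    have hmul : (2 * (8 * s + 1) + 1) * (3 * (8 * s + 1) + 1) * (k - 1) =
        (3 * (8 * s + 1) + 1) * (4 * (8 * s + 1)) := by
      linear_combination (-2 : ℤ) * hz + 3 * he - (k : ℤ) * h2 - (0 : ℤ) * h2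
    have hne : (3 * (8 * s + 1) + 1) ≠ 0 := by omega
    have h4 : (2 * (8 * s + 1) + 1) * ((k : ℤ) - 1) = 4 * (8 * s + 1) := by
      refine mul_left_cancel₀ hne ?_
      linear_combination hmul
    have hd : (2 * (8 * s + 1) + 1) ∣ 2 := ⟨2 - ((k : ℤ) - 1), by linear_combination h4⟩
    have := Nat.le_of_dvd (by norm_num) (Int.natAbs_dvd_natAbs.2 hd)
    omega
  obtain ⟨y₁, hy₁, hB8, hB16⟩ := hex
  have hodd : ¬ 2 ∣ Nat.card ↥(stabilizer G x₀ ⊓ stabilizer G y₁) := fun h2 => by
    obtain ⟨i, hi⟩ := exists_prime_orderOf_dvd_card' 2 h2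
    exact not_both_fixed h hp4 (i := (i : G)) (by rw [Subgroup.orderOf_coe, hi]) hB8
      (Subgroup.mem_inf.1 i.2).1 (Subgroup.mem_inf.1 i.2).2
  have hG : ∀ x : Ω, Nat.card G = 3 * p * Nat.card (stabilizer G x) := fun x => by
    rw [← (stabilizer G x).index_mul_card, index_stabilizer_of_transitive, hcard]
  have h8G : 8 ∣ Nat.card G := by
    rw [hG x₀, ← card_orbit_mul (stabilizer G x₀) y₁]
    exact Dvd.dvd.mul_left (hB8.mul_right _) _
  have h16G : ¬ 2 ^ 4 ∣ Nat.card G := by
    rw [hG x₀, ← card_orbit_mul (stabilizer G x₀) y₁]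
    intro h16
    have hc : Nat.Coprime (2 ^ 4) (3 * p) := by
      refine Nat.Coprime.pow_left _ ?_
      rw [Nat.prime_two.coprime_iff_not_dvd]
      omega
    have h1 := hc.dvd_of_dvd_mul_left h16
    have hc2 : Nat.Coprime (2 ^ 4) (Nat.card ↥(stabilizer G x₀ ⊓ stabilizer G y₁)) :=
      Nat.Coprime.pow_left _ ((Nat.prime_two.coprime_iff_not_dvd).2 hodd)
    exact hB16 (hc2.dvd_of_dvd_mul_right h1)
  refine ⟨h60, fun P => ?_, fun t ht => ?_⟩
  · rw [P.card_eq_multiplicity]
    have h1 := (Nat.prime_two.pow_dvd_iff_le_factorization Nat.card_pos.ne').1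
      (show 2 ^ 3 ∣ Nat.card G by simpa using h8G)
    have h2 := mt (Nat.prime_two.pow_dvd_iff_le_factorization Nat.card_pos.ne').2 h16G
    rw [show (Nat.card G).factorization 2 = 3 by omega]
    rfl
  · obtain ⟨x, hx, hA⟩ := hr.moved t ht
    obtain ⟨htt, hti, -⟩ := inv_of ht
    set D := stabilizer G x ⊓ stabilizer G (t • x) with hD
    have hDev : 2 ∣ Nat.card D := by
      have h8 : 8 ∣ Nat.card (stabilizer G x) := by
        have := h8G
        rw [hG x] at this
        refine Nat.Coprime.dvd_of_dvd_mul_left ?_ this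
        rw [show (8 : ℕ) = 2 ^ 3 by norm_num]
        refine Nat.Coprime.pow_left _ ?_
        rw [Nat.prime_two.coprime_iff_not_dvd]
        omega
      rw [← card_orbit_mul (stabilizer G x) (t • x)] at h8
      by_contra hne
      have h8' := Nat.Coprime.dvd_of_dvd_mul_right
        (show Nat.Coprime (2 ^ 3) (Nat.card D) from
          Nat.Coprime.pow_left _ ((Nat.prime_two.coprime_iff_not_dvd).2 hne))
        (show 2 ^ 3 ∣ Nat.card (orbit (stabilizer G x) (t • x)) * Nat.card D by
          rw [show (2 : ℕ) ^ 3 = 8 by norm_num]; exact h8)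
      generalize Nat.card (orbit (stabilizer G x) (t • x)) = n at hA h8'
      ring_nf at hA
      omega
    have hmem : ∀ d ∈ D, t * d * t ∈ D := by
      rintro d ⟨hd1, hd2⟩
      have htx : t • (t • x) = x := by rw [← mul_smul, htt, one_smul]
      refine Subgroup.mem_inf.2 ⟨?_, ?_⟩
      · show (t * d * t) • x = x
        rw [mul_smul, mul_smul, show d • (t • x) = t • x from hd2, htx]
      · show (t * d * t) • (t • x) = t • x
        rw [mul_smul, mul_smul, htx, show d • x = x from hd1]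
    haveI := Fintype.ofFinite D
    let f : Function.End D := fun d => ⟨t * d * t, hmem d d.2⟩
    have hf : f ^ 2 ^ 1 = 1 := by
      rw [pow_one, pow_two]
      funext d
      refine Subtype.ext ?_
      show t * (t * (d : G) * t) * t = d
      calc t * (t * (d : G) * t) * t = (t * t) * d * (t * t) := by group
        _ = d := by rw [htt, one_mul, mul_one]
    have hmod := Equiv.Perm.card_fixedPoints_modEq (p := 2) (n := 1) hf
    set D0 := D ⊓ Subgroup.centralizer ({t} : Set G) with hD0
    let e : Function.fixedPoints f ≃ D0 :=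
      { toFun := fun d => ⟨(d.1 : G), Subgroup.mem_inf.2 ⟨d.1.2,
          Subgroup.mem_centralizer_singleton_iff.2 (by
            have e1 : t * (d.1 : G) * t = d.1 := congrArg Subtype.val d.2
            calc (d.1 : G) * t = t * d.1 * t * t := by rw [e1]
              _ = t * d.1 := by rw [mul_assoc, htt, mul_one])⟩⟩
        invFun := fun d => ⟨⟨d.1, (Subgroup.mem_inf.1 d.2).1⟩, Subtype.ext (by
          show t * (d : G) * t = d
          rw [mul_assoc, Subgroup.mem_centralizer_singleton_iff.1 (Subgroup.mem_inf.1 d.2).2,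
            ← mul_assoc, htt, one_mul])⟩
        left_inv := fun _ => rfl
        right_inv := fun _ => rfl }
    rw [← Nat.card_eq_fintype_card, ← Nat.card_eq_fintype_card, Nat.card_congr e] at hmod
    obtain ⟨z, hz⟩ := exists_prime_orderOf_dvd_card' (G := D0) 2
      ((Nat.modEq_zero_iff_dvd).1 (hmod.symm.trans ((Nat.modEq_zero_iff_dvd).2 hDev)))
    refine ⟨z, by rw [Subgroup.orderOf_coe, hz],
      Subgroup.mem_centralizer_singleton_iff.1 (Subgroup.mem_inf.1 z.2).2, x,
      (Subgroup.mem_inf.1 (Subgroup.mem_inf.1 z.2).1).1, hx⟩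

end

end DihAux

open DihAux

/-- The Sylow `2`-subgroups are dihedral of order eight. -/
theorem dih : DihStmt.{u, v} := by
  intro G _ _ Ω _ _ p r h hp4 hp5 hr
  classical
  haveI : Fact (Nat.Prime 2) := ⟨Nat.prime_two⟩
  obtain ⟨h60, h8, hpair⟩ := setup h hp4 hp5 hr
  obtain ⟨t₀, ht₀⟩ := exists_prime_orderOf_dvd_card' (G := G) 2 (by
    obtain ⟨P⟩ : Nonempty (Sylow 2 G) := inferInstance
    exact (h8 P ▸ (show 2 ∣ 8 by norm_num) : 2 ∣ Nat.card P).trans
      (Subgroup.card_subgroup_dvd_card _))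
  obtain ⟨z₀, hz₀, hzt, x₀, hzx, htx⟩ := hpair t₀ ht₀
  -- a Sylow subgroup containing both
  obtain ⟨ht0t, -, -⟩ := inv_of ht₀
  obtain ⟨hz0z, -, -⟩ := inv_of hz₀
  set K := Subgroup.closure ({z₀, t₀} : Set G) with hK
  have hK2 : IsPGroup 2 K := by
    intro k
    refine ⟨1, Subtype.ext ?_⟩
    haveI : IsMulCommutative K := Subgroup.isMulCommutative_closure (by
      rintro a (rfl | rfl) b (rfl | rfl)
      exacts [rfl, hzt.eq, hzt.eq.symm, rfl])
    show (k : G) ^ 2 ^ 1 = 1
    rw [pow_one]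
    suffices hgen : ∀ g ∈ K, g ^ 2 = 1 from hgen _ k.2
    intro g hg
    induction hg using Subgroup.closure_induction with
    | mem a ha =>
      rw [pow_two]
      rcases ha with rfl | rfl
      exacts [hz0z, ht0t]
    | one => simp
    | mul a b ha hb iha ihb =>
      have hab : Commute a b := congrArg Subtype.val (mul_comm' (⟨a, ha⟩ : K) ⟨b, hb⟩)
      rw [hab.mul_pow, iha, ihb, one_mul]
    | inv a _ ih => rw [inv_pow, ih, inv_one]
  obtain ⟨P, hP⟩ := hK2.exists_le_sylow
  have hzP : z₀ ∈ (P : Subgroup G) := hP (Subgroup.subset_closure (Or.inl rfl))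
  have htP : t₀ ∈ (P : Subgroup G) := hP (Subgroup.subset_closure (Or.inr rfl))
  -- the central involution
  haveI : Nontrivial P := Finite.one_lt_card_iff_nontrivial.1 (by rw [h8 P]; norm_num)
  haveI := P.isPGroup'.center_nontrivial
  obtain ⟨k, hk⟩ := (P.isPGroup'.to_subgroup (Subgroup.center P)).exists_card_eq
  have hk0 : k ≠ 0 := fun e => by
    have := Finite.one_lt_card (α := Subgroup.center P)
    rw [hk, e] at this
    norm_num at this
  obtain ⟨⟨⟨t, htPm⟩, htc⟩, ht'⟩ := exists_prime_orderOf_dvd_card' (G := Subgroup.center P) 2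
    (hk ▸ dvd_pow_self 2 hk0)
  have ht : orderOf t = 2 := by
    rwa [Subgroup.orderOf_mk, Subgroup.orderOf_mk] at ht'
  have htcomm : ∀ g ∈ (P : Subgroup G), Commute g t := fun g hg =>
    congrArg Subtype.val (Subgroup.mem_center_iff.1 htc ⟨g, hg⟩)
  obtain ⟨htt, hti, ht1⟩ := inv_of ht
  obtain ⟨w, hw, hwP, hwF⟩ : ∃ w : G, orderOf w = 2 ∧ w ∈ (P : Subgroup G) ∧
      ∃ b : Ω, t • b = b ∧ w • b ≠ b := by
    by_contra hno
    push_neg at hno
    have sub : ∀ w : G, orderOf w = 2 → w ∈ (P : Subgroup G) → fixedBy Ω t = fixedBy Ω w := by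
      intro w hw hwP
      refine Set.eq_of_subset_of_ncard_le (fun b hb => hno w hw hwP b hb) ?_ (Set.toFinite _)
      rw [← Nat.card_coe_set_eq, ← Nat.card_coe_set_eq]
      exact le_of_eq ((fix_three h hp4 hw).trans (fix_three h hp4 ht).symm)
    have h1 : x₀ ∈ fixedBy Ω t₀ := by
      rw [← sub t₀ ht₀ htP, sub z₀ hz₀ hzP]
      exact hzx
    exact htx h1
  obtain ⟨hww, hwi, hw1⟩ := inv_of hw
  obtain ⟨b, hb, hwb⟩ := hwF
  set c := w • b with hc
  have htcm : t • c = c := smul_fix (htcomm w hwP) hb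
  have hwc : w • c = b := by rw [hc, ← mul_smul, hww, one_smul]
  have hn3 : (fixedBy Ω t).ncard = 3 := by rw [← Nat.card_coe_set_eq]; exact fix_three h hp4 ht
  obtain ⟨a, ha, hab, hac⟩ : ∃ a : Ω, t • a = a ∧ a ≠ b ∧ a ≠ c := by
    by_contra hno
    push_neg at hno
    have hs : fixedBy Ω t ⊆ {b, c} := fun x hx => by
      rcases em (x = b) with e | e
      · exact Or.inl e
      · exact Or.inr (hno x hx e)
    have := Set.ncard_le_ncard hs (Set.toFinite _)
    have h2 : ({b, c} : Set Ω).ncard ≤ 2 := (Set.ncard_insert_le _ _).trans (by simp)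
    omega
  have mem3 : ∀ x : Ω, t • x = x → x = a ∨ x = b ∨ x = c := fun x hx =>
    three_cases (fix_three h hp4 ht) ha hb htcm hab hac (Ne.symm hwb) hx
  have honly : ∀ x : Ω, t • x = x → w • x = x → x = a := by
    intro x hx hwx
    rcases mem3 x hx with e | e | e
    · exact e
    · subst e; exact absurd hwx hwb
    · subst e; exact absurd (hwx.symm.trans hwc) hwb
  -- the orbits on the fixed points
  have orb : ∀ g ∈ (P : Subgroup G), g • a = a := by
    intro g hg
    by_contra hga
    have hd : Nat.card (orbit (P : Subgroup G) a) ∣ 8 :=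
      h8 P ▸ ⟨_, (card_orbit_mul (P : Subgroup G) a).symm⟩
    have hga' : g • a ∈ orbit (P : Subgroup G) a := ⟨⟨g, hg⟩, rfl⟩
    have hall : fixedBy Ω t ⊆ orbit (P : Subgroup G) a := by
      have other : w • (g • a) ∈ orbit (P : Subgroup G) a :=
        ⟨⟨w * g, mul_mem hwP hg⟩, mul_smul w g a⟩
      intro x hx
      rcases mem3 _ (smul_fix (htcomm g hg) ha) with e | e | e
      · exact absurd e hga
      all_goals
        rw [e] at hga' other
        rcases mem3 x hx with rfl | rfl | rfl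
        · exact mem_orbit_self _
        all_goals first
          | exact hga'
          | (first | rwa [hwc] at other | exact other)
    have hle : Nat.card (orbit (P : Subgroup G) a) = 3 := by
      have h1 : Nat.card (orbit (P : Subgroup G) a) = (fixedBy Ω t).ncard := by
        rw [Nat.card_coe_set_eq]
        congr 1
        refine Set.Subset.antisymm ?_ hall
        rintro _ ⟨k, rfl⟩
        exact smul_fix (htcomm k k.2) ha
      omega
    rw [hle] at hd
    norm_num at hd
  have hbc : ∀ g ∈ (P : Subgroup G), g • b = b → g • c = c := by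
    intro g hg hgb
    rcases mem3 _ (smul_fix (htcomm g hg) htcm) with e | e | e
    · exact absurd (smul_left_cancel g (e.trans (orb g hg).symm)) (Ne.symm hac)
    · exact absurd (smul_left_cancel g (e.trans hgb.symm)) hwb
    · exact e
  set T0 := (P : Subgroup G) ⊓ stabilizer G b with hT0
  have hT4 : Nat.card T0 = 4 := by
    have h1 := card_orbit_mul (P : Subgroup G) b
    have e : orbit (P : Subgroup G) b = {b, c} := by
      ext x
      constructor
      · rintro ⟨g, rfl⟩
        show (g : G) • b ∈ _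
        rcases mem3 _ (smul_fix (htcomm g g.2) hb) with e | e | e
        · exact absurd (smul_left_cancel _ (e.trans (orb g g.2).symm)) (Ne.symm hab)
        · exact Or.inl e
        · exact Or.inr e
      · rintro (rfl | rfl)
        · exact mem_orbit_self _
        · exact ⟨⟨w, hwP⟩, rfl⟩
    rw [h8 P, Nat.card_coe_set_eq, e, Set.ncard_pair (Ne.symm hwb)] at h1
    show Nat.card ↥((P : Subgroup G) ⊓ stabilizer G b) = 4
    omega
  have hT_fix : ∀ g ∈ T0, g ≠ 1 → ∀ x : Ω, g • x = x → t • x = x := by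
    intro g hg hg1 x hgx
    obtain ⟨hgP, hgb⟩ := Subgroup.mem_inf.1 hg
    have hgb : g • b = b := hgb
    obtain ⟨j, hj⟩ := P.isPGroup' ⟨g, hgP⟩
    have hj' : g ^ 2 ^ j = 1 := congrArg Subtype.val hj
    obtain ⟨m, -, hm⟩ := (Nat.dvd_prime_pow Nat.prime_two).1 (orderOf_dvd_of_pow_eq_one hj')
    have hm0 : m ≠ 0 := fun e => hg1 (orderOf_eq_one_iff.1 (by rw [hm, e, pow_zero]))
    obtain ⟨m, rfl⟩ := Nat.exists_eq_succ_of_ne_zero hm0
    have hi : orderOf (g ^ 2 ^ m) = 2 := by
      rw [orderOf_pow, hm, Nat.gcd_eq_right (pow_dvd_pow 2 (Nat.le_succ m)),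
        Nat.pow_div (Nat.le_succ m) (by norm_num)]
      simp
    have fixp : ∀ y : Ω, g • y = y → (g ^ 2 ^ m) • y = y := fun y hy =>
      Subgroup.pow_mem (stabilizer G y) (show g ∈ stabilizer G y from hy) _
    rcases three_cases (fix_three h hp4 hi) (fixp a (orb g hgP)) (fixp b hgb)
      (fixp c (hbc g hgP hgb)) hab hac (Ne.symm hwb) (fixp x hgx) with rfl | rfl | rfl
    exacts [ha, hb, htcm]
  have htT : t ∈ T0 := Subgroup.mem_inf.2 ⟨htPm, hb⟩
  -- an element of `T0` not centralising `w`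
  obtain ⟨d, hd, htd⟩ : ∃ d : Ω, w • d = d ∧ t • d ≠ d := by
    by_contra hno
    push_neg at hno
    have hs : fixedBy Ω w ⊆ fixedBy Ω t := fun x hx => hno x hx
    have := Set.eq_of_subset_of_ncard_le hs (by
      rw [← Nat.card_coe_set_eq, ← Nat.card_coe_set_eq]
      exact le_of_eq ((fix_three h hp4 ht).trans (fix_three h hp4 hw).symm)) (Set.toFinite _)
    exact hwb (show w • b = b from (this ▸ hb : b ∈ fixedBy Ω w))
  obtain ⟨x, hxT, hxw⟩ : ∃ x ∈ T0, ¬ Commute x w := by
    by_contra hno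
    push_neg at hno
    let F : T0 → fixedBy Ω w := fun g => ⟨(g : G) • d, smul_fix (hno g g.2) hd⟩
    have hinj : Function.Injective F := by
      intro g g' e
      by_contra hne
      refine htd (hT_fix ((g' : G)⁻¹ * g) (mul_mem (inv_mem g'.2) g.2) (fun e1 => hne
        (Subtype.ext (inv_mul_eq_one.1 e1).symm)) d ?_)
      have e' : (g : G) • d = (g' : G) • d := congrArg Subtype.val e
      rw [mul_smul, e', inv_smul_smul]
    have := Nat.card_le_card_of_injective F hinj
    rw [hT4] at this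
    have h3 : Nat.card (fixedBy Ω w) = 3 := fix_three h hp4 hw
    omega
  have hxP := (Subgroup.mem_inf.1 hxT).1
  have hxt : Commute x t := htcomm x hxP
  have hx1 : x ≠ 1 := fun e => hxw (e ▸ Commute.one_left w)
  have hxnt : x ≠ t := fun e => hxw (e ▸ (htcomm w hwP).symm)
  have hfour : ∀ g ∈ T0, g = 1 ∨ g = t ∨ g = x ∨ g = t * x := by
    have hsub : ({1, t, x, t * x} : Set G) ⊆ (T0 : Set G) := by
      rintro y (rfl | rfl | rfl | rfl)
      exacts [one_mem _, htT, hxT, mul_mem htT hxT]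
    have hn : ({1, t, x, t * x} : Set G).ncard = 4 := by
      have h1 : t * x ≠ t := fun e => hx1 (mul_eq_left.1 e)
      have h2 : t * x ≠ x := fun e => ht1 (mul_eq_right.1 e)
      have h3 : t * x ≠ 1 := fun e => hxnt (by rw [← inv_eq_of_mul_eq_one_right e, hti])
      rw [Set.ncard_insert_of_notMem (by simp [Ne.symm ht1, Ne.symm hx1, Ne.symm h3]),
        Set.ncard_insert_of_notMem (by simp [Ne.symm hxnt, Ne.symm h1]),
        Set.ncard_pair (Ne.symm h2)]
    have e := Set.eq_of_subset_of_ncard_le hsub (by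
      rw [hn, ← Nat.card_coe_set_eq]
      exact le_of_eq hT4) (Set.toFinite _)
    intro g hg
    have : g ∈ ({1, t, x, t * x} : Set G) := e ▸ hg
    simpa using this
  have hwxw : w * x * w⁻¹ = t * x := by
    have hmem : w * x * w⁻¹ ∈ T0 := by
      refine Subgroup.mem_inf.2 ⟨mul_mem (mul_mem hwP hxP) (inv_mem hwP), ?_⟩
      show (w * x * w⁻¹) • b = b
      rw [hwi, mul_smul, mul_smul, ← hc, hbc x hxP (Subgroup.mem_inf.1 hxT).2, hwc]
    rcases hfour _ hmem with e | e | e | e
    · exact absurd (conj_eq_one_iff.1 e) hx1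
    · refine absurd ?_ hxnt
      calc x = w⁻¹ * (w * x * w⁻¹) * w := by group
        _ = t := by rw [e, mul_assoc, ← (htcomm w hwP).eq, inv_mul_cancel_left]
    · exact absurd (mul_inv_eq_iff_eq_mul.1 e).symm hxw
    · exact e
  obtain ⟨u, huP, hu2, hurel, hunw⟩ : ∃ u ∈ (P : Subgroup G), u * u = t ∧ w * u * w⁻¹ = u⁻¹ ∧
      ¬ Commute u w := by
    rcases hfour _ (mul_mem hxT hxT) with e | e | e | e
    · refine ⟨w * x, mul_mem hwP hxP, ?_, ?_, fun hc' => hxw ?_⟩
      · calc w * x * (w * x) = (w * x * w⁻¹) * (w * w) * x := by group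
          _ = t := by rw [hwxw, hww, mul_one, mul_assoc, e, mul_one]
      · rw [mul_inv_rev, hwi, inv_eq_of_mul_eq_one_right e, ← mul_assoc, hww, one_mul]
      · have := (Commute.refl w).mul_left hc'
        rwa [← mul_assoc, hww, one_mul] at this
    · refine ⟨x, hxP, e, ?_, hxw⟩
      rw [hwxw, eq_inv_iff_mul_eq_one, mul_assoc, e, htt]
    · exact absurd (mul_eq_left.1 e) hx1
    · exact absurd (mul_right_cancel e) hxnt
  have hu4 : orderOf u = 4 := by
    refine orderOf_eq_prime_pow (p := 2) (n := 1) ?_ ?_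
    · rw [pow_one, pow_two, hu2]; exact ht1
    · rw [pow_succ, pow_one, pow_mul, pow_two u, hu2, pow_two, htt]
  refine ⟨P, t, u, w, a, h60, h8 P, huP, hwP, ht, hu4, hw, by rw [pow_two, hu2], hurel, ?_, ha,
    orb u huP, orb w hwP, honly⟩
  set C := Subgroup.closure ({u, w} : Set G) with hC
  have hCP : C ≤ P := (Subgroup.closure_le _).2 (by rintro y (rfl | rfl); exacts [huP, hwP])
  refine Subgroup.eq_of_le_of_card_ge hCP ?_
  have hz : Subgroup.zpowers u ≤ C := Subgroup.zpowers_le.2 (Subgroup.subset_closure (Or.inl rfl))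
  have h4 : 4 ∣ Nat.card C := by
    rw [← hu4, ← Nat.card_zpowers]; exact Subgroup.card_dvd_of_le hz
  have hne : Nat.card C ≠ 4 := fun e => by
    have := Subgroup.eq_of_le_of_card_ge hz (by rw [e, Nat.card_zpowers, hu4])
    have hwz : w ∈ Subgroup.zpowers u := this ▸ Subgroup.subset_closure (Or.inr rfl)
    obtain ⟨k, rfl⟩ := Subgroup.mem_zpowers_iff.1 hwz
    exact hunw (Commute.zpow_right (Commute.refl u) k)
  have h8' : Nat.card C ∣ 8 := h8 P ▸ Subgroup.card_dvd_of_le hCP
  have := Nat.le_of_dvd (by norm_num) h8'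
  rw [h8 P]
  obtain ⟨q, hq⟩ := h4
  have hpos : 0 < Nat.card C := Nat.card_pos
  omega

/-- If the centralizer of the involution fixes a point: the bound. -/
theorem two_class (hklein : KleinBoundStmt.{u}) : TwoClassStmt.{u, v} := by
  intro G _ _ Ω _ _ p h hp4 P t u r a hd hcent
  classical
  haveI : Fact (Nat.Prime 2) := ⟨Nat.prime_two⟩
  haveI := h.toInv.toCore.toHyp.prim
  haveI : IsPretransitive G Ω := inferInstance
  obtain ⟨htt, hti, ht1⟩ := inv_of hd.ord_t
  obtain ⟨hrr, hri, hr1⟩ := inv_of hd.ord_r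
  have hu2 : u * u = t := by rw [← pow_two]; exact hd.sq
  have hut : Commute u t := by rw [← hu2]; exact (Commute.refl u).mul_right (Commute.refl u)
  have htr : Commute t r := by
    have h1 : r * t * r⁻¹ = t := by
      rw [← hu2, ← conj_mul, hd.rel, ← mul_inv_rev, hu2, hti]
    exact (mul_inv_eq_iff_eq_mul.1 h1).symm
  obtain ⟨b, hb, hba, hrb⟩ : ∃ b : Ω, t • b = b ∧ b ≠ a ∧ r • b ≠ b := by
    by_contra hno
    push_neg at hno
    have hs : fixedBy Ω t ⊆ {a} := fun x hx => by
      rcases em (x = a) with e | e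
      · exact e
      · exact hd.only x hx (hno x hx e)
    have h1 := Set.ncard_le_ncard hs (Set.toFinite _)
    rw [Set.ncard_singleton, ← Nat.card_coe_set_eq,
      show Nat.card (fixedBy Ω t) = 3 from fix_three h hp4 hd.ord_t] at h1
    omega
  set H := stabilizer G a with hH
  have hPH : (P : Subgroup G) ≤ H := by
    rw [← hd.gen, Subgroup.closure_le]
    rintro y (rfl | rfl)
    exacts [hd.fix_u, hd.fix_r]
  have hG : Nat.card G = 3 * p * Nat.card H := by
    rw [← H.index_mul_card, hH, index_stabilizer_of_transitive, h.toInv.toCore.toHyp.card]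
  have hCH : Subgroup.centralizer ({t} : Set G) ≤ H := fun g hg => hcent g hg
  -- `t` and `r` are conjugate in the stabilizer
  obtain ⟨g₀, hg₀H, hg₀⟩ : ∃ g ∈ H, g * t * g⁻¹ = r := by
    obtain ⟨g, hg⟩ := isConj_iff.1 (h.toInv.conj t r hd.ord_t hd.ord_r)
    refine ⟨g, hd.only _ ?_ ?_, hg⟩
    · have hc : g⁻¹ * t * g ∈ Subgroup.centralizer ({t} : Set G) := by
        refine Subgroup.mem_centralizer_singleton_iff.2 ?_
        have e : t = g⁻¹ * r * g := by rw [← hg]; group
        calc g⁻¹ * t * g * t = g⁻¹ * (t * r) * g := by nth_rw 2 [e]; group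
          _ = g⁻¹ * (r * t) * g := by rw [htr.eq]
          _ = t * (g⁻¹ * t * g) := by nth_rw 2 [e]; group
      have := hcent _ hc
      rw [mul_smul, mul_smul, inv_smul_eq_iff] at this
      exact this
    · rw [← hg, fix_conj_iff, inv_smul_smul]
      exact hd.fix_t
  -- the subgroup of index two
  let tH : H := ⟨t, hd.fix_t⟩
  let rH : H := ⟨r, hd.fix_r⟩
  let uH : H := ⟨u, hd.fix_u⟩
  let sH : H := uH * rH
  let PH : Sylow 2 H := P.subtype hPH
  have hcardH : Nat.card (PH : Subgroup H) = 8 := by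
    show Nat.card ((P : Subgroup G).subgroupOf H) = 8
    rw [Nat.card_congr (Subgroup.subgroupOfEquivOfLe hPH).toEquiv, hd.card_P]
  have ett : tH * tH = 1 := Subtype.ext htt
  have err : rH * rH = 1 := Subtype.ext hrr
  have etr : tH * rH = rH * tH := Subtype.ext htr.eq
  have eu2 : uH * uH = tH := Subtype.ext hu2
  have erel : rH * uH * rH⁻¹ = uH⁻¹ := Subtype.ext hd.rel
  have hrt : r ≠ t := fun e => hrb (e ▸ hb)
  have hc1 : Subgroup.closure ({tH, rH} : Set H) ≤ (PH : Subgroup H) := by
    rw [Subgroup.closure_le]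
    rintro y (rfl | rfl)
    · show t ∈ (P : Subgroup G)
      rw [← hu2]; exact mul_mem hd.mem_u hd.mem_u
    · exact hd.mem_r
  set V := Subgroup.closure ({tH, rH} : Set H) with hV
  have hVmem : ∀ y ∈ V, y = 1 ∨ y = tH ∨ y = rH ∨ y = tH * rH := by
    intro y hy
    induction hy using Subgroup.closure_induction with
    | mem z hz => rcases hz with rfl | rfl <;> tauto
    | one => tauto
    | mul y z _ _ hy hz =>
      have e1 : rH * tH = tH * rH := etr.symm
      have a1 : ∀ x : H, x * tH * tH = x := fun x => by rw [mul_assoc, ett, mul_one]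
      have a2 : ∀ x : H, x * rH * rH = x := fun x => by rw [mul_assoc, err, mul_one]
      have a3 : ∀ x : H, x * rH * tH = x * tH * rH := fun x => by rw [mul_assoc, e1, mul_assoc]
      rcases hy with rfl | rfl | rfl | rfl <;> rcases hz with rfl | rfl | rfl | rfl <;>
        simp [← mul_assoc, ett, err, e1, a1, a2, a3]
    | inv y _ hy =>
      rcases hy with rfl | rfl | rfl | rfl
      · exact Or.inl inv_one
      · exact Or.inr (Or.inl (inv_eq_of_mul_eq_one_right ett))
      · exact Or.inr (Or.inr (Or.inl (inv_eq_of_mul_eq_one_right err)))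
      · refine Or.inr (Or.inr (Or.inr ?_))
        rw [mul_inv_rev, inv_eq_of_mul_eq_one_right ett, inv_eq_of_mul_eq_one_right err, etr]
  have htV : tH ∈ V := Subgroup.subset_closure (Or.inl rfl)
  have hrV : rH ∈ V := Subgroup.subset_closure (Or.inr rfl)
  have hrtH : rH ≠ tH := fun e => hrt (congrArg Subtype.val e)
  have htH1 : tH ≠ 1 := fun e => ht1 (congrArg Subtype.val e)
  have hrH1 : rH ≠ 1 := fun e => hr1 (congrArg Subtype.val e)
  have hVc : Nat.card V = 4 := by
    have hset : (V : Set H) = {1, tH, rH, tH * rH} := by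
      ext y
      constructor
      · intro hy
        simpa using hVmem y hy
      · rintro (rfl | rfl | rfl | rfl)
        exacts [one_mem _, htV, hrV, mul_mem htV hrV]
    have h1 : tH * rH ≠ tH := fun e => hrH1 (mul_eq_left.1 e)
    have h2 : tH * rH ≠ rH := fun e => htH1 (mul_eq_right.1 e)
    have h3 : tH * rH ≠ 1 := fun e => hrtH (by
      rw [← inv_eq_of_mul_eq_one_right e, inv_eq_of_mul_eq_one_right ett])
    rw [← SetLike.coe_sort_coe, hset, Nat.card_coe_set_eq,
      Set.ncard_insert_of_notMem (by simp [Ne.symm htH1, Ne.symm hrH1, Ne.symm h3]),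
      Set.ncard_insert_of_notMem (by simp [Ne.symm hrtH, Ne.symm h1]),
      Set.ncard_pair (Ne.symm h2)]
  have hrel2 : V.relIndex (PH : Subgroup H) = 2 := by
    have := Subgroup.card_mul_index (V.subgroupOf (PH : Subgroup H))
    rw [Nat.card_congr (Subgroup.subgroupOfEquivOfLe hc1).toEquiv, hVc, hcardH] at this
    show (V.subgroupOf (PH : Subgroup H)).index = 2
    omega
  have hus : uH * rH * (uH * rH) = 1 := by
    calc uH * rH * (uH * rH) = uH * (rH * uH * rH⁻¹) * (rH * rH) := by group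
      _ = 1 := by rw [erel, err, mul_one, mul_inv_cancel]
  have hutH : uH * tH = tH * uH := Subtype.ext hut.eq
  have hsne : sH ≠ 1 := fun e => by
    have h1 : uH = rH := by
      rw [← inv_eq_of_mul_eq_one_left (show uH * rH = 1 from e), inv_eq_of_mul_eq_one_right err]
    exact htH1 (by rw [← eu2, h1, err])
  have hso : orderOf sH = 2 := orderOf_eq_prime (by rw [pow_two]; exact hus) hsne
  have trconj : uH * rH * uH⁻¹ = tH * rH := by
    have h2 : rH * uH⁻¹ * rH⁻¹ = uH := by
      calc rH * uH⁻¹ * rH⁻¹ = (rH * uH * rH⁻¹)⁻¹ := by group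
        _ = uH := by rw [erel, inv_inv]
    calc uH * rH * uH⁻¹ = uH * (rH * uH⁻¹ * rH⁻¹) * rH := by group
      _ = tH * rH := by rw [h2, eu2]
  have hg₀' : (⟨g₀, hg₀H⟩ : H) * tH * (⟨g₀, hg₀H⟩ : H)⁻¹ = rH := Subtype.ext hg₀
  have conjV : ∀ y ∈ V, y ≠ 1 → IsConj tH y := by
    intro y hy hy1
    rcases hVmem y hy with rfl | rfl | rfl | rfl
    · exact absurd rfl hy1
    · exact IsConj.refl _
    · exact isConj_iff.2 ⟨_, hg₀'⟩
    · refine isConj_iff.2 ⟨uH * ⟨g₀, hg₀H⟩, ?_⟩
      rw [← trconj, ← hg₀']; group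
  have hno : ∀ g : H, g * sH * g⁻¹ ∉ V := by
    intro g hg
    have hsc : IsConj tH sH := by
      refine (conjV _ hg fun e => hsne (conj_eq_one_iff.1 e)).trans ?_
      exact (isConj_iff.2 ⟨g, rfl⟩ : IsConj sH (g * sH * g⁻¹)).symm
    -- every involution of the stabilizer is conjugate to `tH`
    have hall : ∀ i : H, orderOf i = 2 → IsConj tH i := by
      intro i hi
      have hip : IsPGroup 2 (Subgroup.zpowers i) :=
        IsPGroup.of_card (n := 1) (by rw [Nat.card_zpowers, hi, pow_one])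
      obtain ⟨Q, hQ⟩ := hip.exists_le_sylow
      obtain ⟨k, hk⟩ := MulAction.exists_smul_eq H Q PH
      have hmem : k * i * k⁻¹ ∈ (PH : Subgroup H) := by
        rw [← hk, Sylow.coe_subgroup_smul]
        exact ⟨i, hQ (Subgroup.mem_zpowers i), rfl⟩
      refine IsConj.trans ?_ (isConj_iff.2 ⟨k, rfl⟩ : IsConj i (k * i * k⁻¹)).symm
      have ho : orderOf (k * i * k⁻¹) = 2 := (orderOf_conj k i).trans hi
      obtain ⟨hyy, -, hy1⟩ := inv_of ho
      generalize k * i * k⁻¹ = y at hmem hyy hy1 ⊢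
      by_cases hyV : y ∈ V
      · exact conjV y hyV hy1
      have huV : uH ∉ V := by
        intro huV
        rcases hVmem _ huV with e | e | e | e
        · exact htH1 (by rw [← eu2, e, one_mul])
        · exact htH1 (by rw [← eu2, e, ett])
        · exact htH1 (by rw [← eu2, e, err])
        · exact htH1 (by
            rw [← eu2, e]
            calc tH * rH * (tH * rH) = tH * (rH * tH) * rH := by group
              _ = 1 := by rw [← etr, ← mul_assoc, ett, one_mul, err])
      have hq : uH * y ∈ V := by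
        have h1 := (Subgroup.mul_mem_iff_of_index_two hrel2
          (a := (⟨uH, hd.mem_u⟩ : (PH : Subgroup H))) (b := ⟨y, hmem⟩))
        simp only [Subgroup.mem_subgroupOf, Subgroup.coe_mul] at h1
        exact h1.2 ⟨fun hm => absurd hm huV, fun hm => absurd hm hyV⟩
      have hy : y = uH⁻¹ * (uH * y) := by group
      rcases hVmem _ hq with e | e | e | e <;> rw [e] at hy
      · exfalso
        rw [hy, mul_one, ← mul_inv_rev, eu2, inv_eq_one] at hyy
        exact htH1 hyy
      · exfalso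
        refine htH1 ?_
        have h1 : y = uH := by rw [hy, ← eu2, inv_mul_cancel_left]
        rw [← eu2, ← h1, hyy]
      · have h1 : y = uH⁻¹ * sH * uH⁻¹⁻¹ * 1 := by
          rw [hy, mul_one]
          show uH⁻¹ * rH = uH⁻¹ * (uH * rH) * uH⁻¹⁻¹
          calc uH⁻¹ * rH = (rH * uH * rH⁻¹) * rH := by rw [erel]
            _ = uH⁻¹ * (uH * rH) * uH⁻¹⁻¹ := by group
        rw [h1, mul_one]
        exact hsc.trans (isConj_iff.2 ⟨uH⁻¹, rfl⟩)
      · have h1 : y = sH := by
          rw [hy, ← eu2]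
          show uH⁻¹ * (uH * uH * rH) = uH * rH
          group
        exact h1 ▸ hsc
    obtain ⟨g', hg'⟩ := MulAction.exists_smul_eq G b a
    have hfa : (g' * t * g'⁻¹) • a = a := by
      rw [fix_conj_iff, ← hg', inv_smul_smul]; exact hb
    have ho : orderOf (⟨g' * t * g'⁻¹, hfa⟩ : H) = 2 := by
      rw [← Subgroup.orderOf_coe]
      exact (orderOf_conj g' t).trans hd.ord_t
    obtain ⟨k, hk⟩ := isConj_iff.1 (hall _ ho)
    have hkG : (k : G) * t * (k : G)⁻¹ = g' * t * g'⁻¹ := congrArg Subtype.val hk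
    have hc : g'⁻¹ * (k : G) ∈ Subgroup.centralizer ({t} : Set G) := by
      refine Subgroup.mem_centralizer_singleton_iff.2 ?_
      calc g'⁻¹ * (k : G) * t = g'⁻¹ * ((k : G) * t * (k : G)⁻¹) * k := by group
        _ = t * (g'⁻¹ * k) := by rw [hkG]; group
    have := hcent _ hc
    rw [mul_smul, show (k : G) • a = a from k.2, inv_smul_eq_iff] at this
    exact hba (smul_left_cancel g' (hg'.trans this))
  obtain ⟨M, hMn, hMi, hsM⟩ :=
    CfsgLib.Transfer.exists_index_two_of_not_conj_mem PH hc1 hrel2 hso hno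
  haveI := hMn
  have htM : tH ∈ M := eu2 ▸ Subgroup.mul_self_mem_of_index_two hMi uH
  have hrM : rH ∈ M := hg₀' ▸ hMn.conj_mem _ htM _
  have huM : uH ∉ M := fun hu => hsM (mul_mem hu hrM)
  have hVM : V ≤ M := (Subgroup.closure_le _).2 (by rintro y (rfl | rfl); exacts [htM, hrM])
  have hMc : 2 * Nat.card M = Nat.card H := by
    rw [← M.index_mul_card, hMi]
  -- Sylow subgroup of the index-two subgroup
  have hS4 : Nat.card (V.subgroupOf M) = 4 := by
    rw [Nat.card_congr (Subgroup.subgroupOfEquivOfLe hVM).toEquiv, hVc]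
  have hfac : (Nat.card M).factorization 2 = 2 := by
    have h8H : Nat.card (PH : Subgroup H) = 2 ^ (Nat.card H).factorization 2 :=
      PH.card_eq_multiplicity
    rw [hcardH] at h8H
    have h3 : (Nat.card H).factorization 2 = 3 := by
      have := (Nat.pow_right_injective (le_refl 2)) (show 2 ^ 3 = 2 ^ (Nat.card H).factorization 2
        by rw [← h8H])
      omega
    rw [← hMc, Nat.factorization_mul (by norm_num) Nat.card_pos.ne'] at h3
    simp only [Finsupp.coe_add, Pi.add_apply, Nat.Prime.factorization_self Nat.prime_two] at h3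
    omega
  let SV : Sylow 2 M := Sylow.ofCard (V.subgroupOf M) (by rw [hS4, hfac]; norm_num)
  have hK4 : IsKleinFour (SV : Subgroup M) := by
    refine ⟨by rw [Sylow.coe_ofCard]; exact hS4, ?_⟩
    have hne : Nontrivial (SV : Subgroup M) := Finite.one_lt_card_iff_nontrivial.1
      (by rw [Sylow.coe_ofCard, hS4]; norm_num)
    refine Monoid.exponent_eq_prime_iff Nat.prime_two |>.2 fun y hy => orderOf_eq_prime ?_ hy
    refine Subtype.ext (Subtype.ext ?_)
    have hyV : ((y : M) : H) ∈ V := by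
      have h' : (y : M) ∈ V.subgroupOf M := (Sylow.coe_ofCard _ _).le y.2
      exact Subgroup.mem_subgroupOf.1 h'
    show ((y : M) : H) ^ 2 = 1
    rw [pow_two]
    rcases hVmem _ hyV with e | e | e | e <;> rw [e]
    · exact one_mul 1
    · exact ett
    · exact err
    · calc tH * rH * (tH * rH) = tH * (rH * tH) * rH := by group
        _ = 1 := by rw [← etr, ← mul_assoc, ett, one_mul, err]
  let tM : M := ⟨tH, htM⟩
  have conjM : ∀ i : M, orderOf i = 2 → IsConj tM i := by
    intro i hi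
    have hip : IsPGroup 2 (Subgroup.zpowers i) :=
      IsPGroup.of_card (n := 1) (by rw [Nat.card_zpowers, hi, pow_one])
    obtain ⟨Q, hQ⟩ := hip.exists_le_sylow
    obtain ⟨k, hk⟩ := MulAction.exists_smul_eq M Q SV
    have hmem : k * i * k⁻¹ ∈ (SV : Subgroup M) := by
      rw [← hk, Sylow.coe_subgroup_smul]
      exact ⟨i, hQ (Subgroup.mem_zpowers i), rfl⟩
    refine IsConj.trans ?_ (isConj_iff.2 ⟨k, rfl⟩ : IsConj i (k * i * k⁻¹)).symm
    obtain ⟨-, -, hy1⟩ := inv_of ((orderOf_conj k i).trans hi)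
    generalize k * i * k⁻¹ = y at hmem hy1 ⊢
    rw [Sylow.coe_ofCard, Subgroup.mem_subgroupOf] at hmem
    obtain ⟨q, hq⟩ := isConj_iff.1 (conjV _ hmem fun e => hy1 (Subtype.ext e))
    by_cases hqM : q ∈ M
    · exact isConj_iff.2 ⟨⟨q, hqM⟩, Subtype.ext hq⟩
    · refine isConj_iff.2 ⟨⟨q * uH, (Subgroup.mul_mem_iff_of_index_two hMi).2
        ⟨fun hm => absurd hm hqM, fun hm => absurd hm huM⟩⟩, Subtype.ext ?_⟩
      show q * uH * tH * (q * uH)⁻¹ = y
      rw [mul_assoc q uH tH, hutH, ← hq]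
      group
  have hone : ∀ s t : M, orderOf s = 2 → orderOf t = 2 → IsConj s t := fun s t hs ht =>
    (conjM s hs).symm.trans (conjM t ht)
  have htM2 : orderOf tM = 2 := by
    rw [← Subgroup.orderOf_coe, ← Subgroup.orderOf_coe]
    exact hd.ord_t
  have hbound := (hklein M SV hK4 hone tM
    (by rw [Sylow.coe_ofCard, Subgroup.mem_subgroupOf]; exact htV) htM2).1
  -- the centralizer of `t` meets the subgroup in index two
  set CH := Subgroup.centralizer ({tH} : Set H) with hCHdef
  have hcCH : Nat.card CH = cC t := by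
    rw [cC, ← Nat.card_congr (Subgroup.subgroupOfEquivOfLe hCH).toEquiv]
    congr 2
    · ext y
      simp only [hCHdef, Subgroup.mem_centralizer_singleton_iff, Subgroup.mem_subgroupOf,
        Subtype.ext_iff]
      rfl
  have hcM : 2 * cC tM = cC t := by
    have e : Subgroup.centralizer ({tM} : Set M) = CH.subgroupOf M := by
      ext y
      rw [Subgroup.mem_subgroupOf, Subgroup.mem_centralizer_singleton_iff,
        hCHdef, Subgroup.mem_centralizer_singleton_iff, Subtype.ext_iff]
      rfl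
    have hidx : (M.subgroupOf CH).index = 2 := by
      refine Subgroup.index_eq_two_iff.2 ⟨⟨uH, Subgroup.mem_centralizer_singleton_iff.2 hutH⟩, fun c => ?_⟩
      simp only [Subgroup.mem_subgroupOf, Subgroup.coe_mul]
      rcases em ((c : H) ∈ M) with hm | hm
      · exact Or.inr ⟨hm, fun hh => huM ((Subgroup.mul_mem_cancel_left M hm).1 hh)⟩
      · exact Or.inl ⟨(Subgroup.mul_mem_iff_of_index_two hMi).2
          ⟨fun h' => absurd h' hm, fun h' => absurd h' huM⟩, hm⟩
    have h2 := (M.subgroupOf CH).index_mul_card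
    rw [hidx, hcCH] at h2
    rw [← h2, cC, e]
    congr 1
    exact Nat.card_congr
      { toFun := fun y => ⟨⟨y.1.1, y.2⟩, y.1.2⟩
        invFun := fun y => ⟨⟨y.1.1, y.2⟩, y.1.2⟩
        left_inv := fun _ => rfl
        right_inv := fun _ => rfl }
  have hcV : Nat.card (Subgroup.centralizer ((SV : Subgroup M) : Set M)) ≤ cPair t r := by
    refine Nat.card_le_card_of_injective
      (fun y => ⟨(((y : M) : H) : G), Subgroup.mem_centralizer_iff.2 ?_⟩)
      (fun y z e => Subtype.ext (Subtype.ext (Subtype.ext (congrArg Subtype.val e :))))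
    have key : ∀ v (hv : v ∈ V), (v : G) * (((y : M) : H) : G) = (((y : M) : H) : G) * v := by
      intro v hv
      exact congrArg (fun m : M => ((m : H) : G))
        (Subgroup.mem_centralizer_iff.1 y.2 ⟨v, hVM hv⟩
          (by rw [SetLike.mem_coe, Sylow.coe_ofCard]; exact Subgroup.mem_subgroupOf.2 hv))
    rintro z (rfl | rfl)
    exacts [key tH htV, key rH hrV]
  -- arithmetic
  have hform := h.formula t hd.ord_t
  have hp3 := h.toInv.toCore.toHyp.three_lt
  have hb' : 2 * cC tM ^ 3 ≤ Nat.card M * cPair t r ^ 2 :=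
    hbound.trans (Nat.mul_le_mul_left _ (Nat.pow_le_pow_left hcV 2))
  have hCpos : 0 < cC t := Nat.card_pos
  rw [hG, ← hMc] at hform
  generalize cC t = C at hform hcM hCpos ⊢
  generalize cC tM = D at hb' hcM
  generalize cPair t r = c0 at hb' ⊢
  generalize Nat.card M = X at hb' hform
  subst hcM
  obtain ⟨q, rfl⟩ : ∃ q, p = q + 1 := ⟨p - 1, by omega⟩
  simp only [show q + 1 - 1 = q from rfl, show 2 * (q + 1) - 1 = 2 * q + 1 by omega] at hform ⊢
  have h1 : 12 * X * q = (2 * q + 1) * (2 * D) ^ 2 := by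
    refine Nat.eq_of_mul_eq_mul_left (show 0 < q + 1 by omega) ?_
    linear_combination hform
  refine Nat.le_of_mul_le_mul_left ?_ (show 0 < 4 * D ^ 2 by
    have : 0 < D := by omega
    positivity)
  calc 4 * D ^ 2 * (3 * q * (2 * D)) = 12 * q * (2 * D ^ 3) := by ring
    _ ≤ 12 * q * (X * c0 ^ 2) := Nat.mul_le_mul_left _ hb'
    _ = 4 * D ^ 2 * ((2 * q + 1) * c0 ^ 2) := by linear_combination c0 ^ 2 * h1

end CfsgLib.DegreeThreeP
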