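import Cfsg.Agent.Lib.DegreeThreeP.Defs
import Cfsg.Agent.Lib.Recog.SL2Char2
import Cfsg.Agent.S4706

/-!
# Simple groups of degree `3p`: the imprimitive case
-/

set_option autoImplicit false
set_option linter.style.haveILetI false

namespace CfsgLib.DegreeThreeP

open MulAction Cfsg
open scoped Pointwise

universe u v

variable {G : Type u} [Group G] [Finite G] {Ω : Type v} [MulAction G Ω] [Finite Ω]

theorem imprimitive [IsSimpleGroup G] (hna : ¬ IsMulCommutative G) {p : ℕ} (hp : p.Prime)
    (h3 : 3 < p) [IsPretransitive G Ω] (hΩ : Nat.card Ω = 3 * p) (P : Sylow p G)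
    (hN : Nat.card (Subgroup.normalizer ((P : Subgroup G) : Set G)) = 2 * p)
    (himp : ¬ IsPreprimitive G Ω) :
    ∃ (F : Type) (_ : Field F) (_ : Fintype F) (m : ℕ), Fintype.card F = 2 ^ m ∧ p = 2 ^ m + 1 ∧
      Nonempty (G ≃* Matrix.ProjectiveSpecialLinearGroup (Fin 2) F) := by
  classical
  haveI := Fact.mk hp
  obtain ⟨B, hB, hBs, hBu⟩ : ∃ B : Set Ω, IsBlock G B ∧ ¬ B.Subsingleton ∧ B ≠ Set.univ := by
    by_contra! hno
    exact himp ⟨fun {B} hB => or_iff_not_imp_left.2 fun hs => hno B hB (Set.not_subsingleton_iff.1 hs)⟩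
  have hne : B.Nonempty := Set.nonempty_iff_ne_empty.2 fun h0 => hBs (h0 ▸ Set.subsingleton_empty)
  have hprod := MulAction.IsBlock.ncard_block_mul_ncard_orbit_eq hB hne
  rw [hΩ] at hprod
  have hB2 : 2 ≤ B.ncard := (Set.one_lt_ncard).2 (Set.not_subsingleton_iff.1 hBs)
  have hBlt : B.ncard < 3 * p := by
    rw [← hΩ, ← Set.ncard_univ]
    exact Set.ncard_lt_ncard (hBu.lt_of_le (Set.subset_univ B))
  set S := orbit G B with hS
  haveI : IsPretransitive G S := inferInstance
  have hScard : Nat.card S = S.ncard := Nat.card_coe_set_eq S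
  have hS2 : 2 ≤ Nat.card S := by
    rw [hScard]
    by_contra hc
    rcases (show S.ncard = 0 ∨ S.ncard = 1 by omega) with h | h <;> rw [h] at hprod <;> omega
  set φ := MulAction.toPermHom G S with hφ
  have hinj : Function.Injective φ := by
    rcases IsSimpleGroup.eq_bot_or_eq_top_of_normal φ.ker inferInstance with h | h
    · exact (MonoidHom.ker_eq_bot_iff φ).1 h
    · exfalso
      obtain ⟨x, y, hxy⟩ := Finite.one_lt_card_iff_nontrivial.1 (show 1 < Nat.card S by omega)
      obtain ⟨g, hg⟩ := exists_smul_eq G x y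
      have h1 : φ g = 1 := MonoidHom.mem_ker.1 (h ▸ Subgroup.mem_top g)
      exact hxy ((DFunLike.congr_fun h1 x).symm.trans hg)
  have hpG : p ∣ Nat.card G :=
    (dvd_mul_left p 2).trans (hN ▸ Subgroup.card_subgroup_dvd_card _)
  have hScases : Nat.card S = p := by
    have hd : B.ncard ∣ 3 * p := ⟨_, hprod.symm⟩
    obtain ⟨a, b, ha, hb, hab⟩ := exists_dvd_and_dvd_of_dvd_mul hd
    rcases (Nat.dvd_prime Nat.prime_three).1 ha with rfl | rfl <;>
      rcases (Nat.dvd_prime hp).1 hb with rfl | rfl
    · omega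
    · exfalso
      rw [hab, one_mul] at hprod
      · have h1 : S.ncard = 3 := by
          refine Nat.eq_of_mul_eq_mul_left hp.pos ?_
          linarith
        have h2 : Nat.card G ∣ Nat.card (Equiv.Perm S) := Subgroup.card_dvd_of_injective φ hinj
        rw [Nat.card_perm, hScard, h1] at h2
        have h5 := Nat.le_of_dvd (by decide) (hpG.trans h2)
        have h6 := hpG.trans h2
        interval_cases b <;> simp_all (config := {decide := true})
    · rw [hab, mul_one] at hprod
      rw [hScard]
      exact Nat.eq_of_mul_eq_mul_left (by norm_num) hprod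
    · omega
  haveI := Fintype.ofFinite S
  let e : G ≃* φ.range := MonoidHom.ofInjective hinj
  let Q : Sylow p φ.range := P.mapSurjective (f := e.toMonoidHom) e.surjective
  have hQN : Nat.card (Subgroup.normalizer ((Q : Subgroup φ.range) : Set φ.range)) = 2 * p := by
    rw [show ((Q : Subgroup φ.range) : Set φ.range) =
        (((P : Subgroup G).map e.toMonoidHom : Subgroup φ.range) : Set φ.range) from rfl,
      ← Subgroup.map_normalizer_eq_of_bijective _ (f := e.toMonoidHom) e.bijective,
      Nat.card_congr (Subgroup.equivMapOfInjective _ e.toMonoidHom e.injective).toEquiv.symm, hN]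
  rcases Agent.S4706.result (by omega : 2 < p) (by rw [← Nat.card_eq_fintype_card, hScases])
    φ.range Q hQN with hn | ⟨a, F, hF1, hF2, hpa, hFc, ⟨e'⟩⟩
  · exfalso
    haveI : IsSimpleGroup φ.range := e.symm.isSimpleGroup
    rcases IsSimpleGroup.eq_bot_or_eq_top_of_normal _ hn with h | h
    · have h1 := P.card_eq_multiplicity
      have h2 : Nat.card (P : Subgroup G) = Nat.card (Q : Subgroup φ.range) :=
        Nat.card_congr (Subgroup.equivMapOfInjective _ e.toMonoidHom e.injective).toEquiv
      rw [h, Subgroup.card_bot] at h2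
      rw [h2] at h1
      have h3' := (hp.dvd_iff_one_le_factorization Nat.card_pos.ne').1 hpG
      exact absurd h1.symm (Nat.one_lt_pow (by omega) hp.one_lt).ne'
    · have hPtop : (P : Subgroup G) = ⊤ := Subgroup.map_injective e.injective
        (h.trans (Subgroup.map_top_of_surjective e.toMonoidHom e.surjective).symm)
      have hN2 : Nat.card G = 2 * p := by
        rw [← hN, hPtop, Subgroup.normalizer_eq_top, Subgroup.card_top]
      have hdS : p ∣ Nat.card G := hpG
      have h2p : 2 ∣ Nat.card (P : Subgroup G) := by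
        rw [hPtop, Subgroup.card_top, hN2]; exact dvd_mul_right 2 p
      rw [P.card_eq_multiplicity] at h2p
      have := (Nat.prime_dvd_prime_iff_eq Nat.prime_two hp).1 (Nat.prime_two.dvd_of_dvd_pow h2p)
      omega
  · refine ⟨F, hF1, hF2, a, hFc, hpa, ?_⟩
    haveI : CharP F 2 := by
      obtain ⟨n, hn⟩ : ∃ n, Fintype.card F = 2 ^ n := ⟨a, hFc⟩
      exact charP_of_card_eq_prime_pow hn
    exact ⟨e.trans (e'.trans CfsgLib.Recog.pslEquivSL)⟩

end CfsgLib.DegreeThreeP
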