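import Cfsg.Agent.Lib.DegreeThreeP.Shape
import Cfsg.Agent.Lib.Small.InvertedColumn

/-!
# Simple groups of degree `3p`: one class of involutions and the order formula
-/

set_option autoImplicit false
set_option linter.style.haveILetI false
set_option linter.unusedSectionVars false

namespace CfsgLib.DegreeThreeP

open MulAction Cfsg CfsgLib.Chars

universe u v

variable {G : Type u} [Group G] [Finite G]

/-- A product of two involutions that is a generator of its centralizer: the factors are conjugate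
to every involution inverting it. -/
theorem isConj_of_mul_eq {p : ℕ} (hodd : Odd p) {x y z g : G} (hg : orderOf g = p)
    (hC : Subgroup.centralizer ({g} : Set G) = Subgroup.zpowers g)
    (hx : x * x = 1) (hy : y * y = 1) (hzz : z * z = 1) (hxy : x * y = g)
    (hinv : z * g * z⁻¹ = g⁻¹) :
    IsConj z x := by
  have hx1 : x⁻¹ = x := inv_eq_of_mul_eq_one_left hx
  have hxg : x * g⁻¹ * x⁻¹ = g := by
    rw [← hxy, mul_inv_rev, inv_eq_of_mul_eq_one_left hy]
    simp [mul_assoc, hx1, hx]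
  have hmem : x * z ∈ Subgroup.centralizer ({g} : Set G) := by
    rw [Subgroup.mem_centralizer_singleton_iff]
    have : x * z * g * (x * z)⁻¹ = g := by
      rw [show x * z * g * (x * z)⁻¹ = x * (z * g * z⁻¹) * x⁻¹ by group, hinv, hxg]
    exact mul_inv_eq_iff_eq_mul.1 this
  rw [hC, Subgroup.mem_zpowers_iff] at hmem
  obtain ⟨i, hi⟩ := hmem
  obtain ⟨k, hk⟩ := hodd
  have hzu : ∀ n : ℤ, z * g ^ n * z⁻¹ = g ^ (-n) := fun n => by
    rw [← conj_zpow, hinv, inv_zpow, zpow_neg]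
  have hz2 : g ^ i * z⁻¹ = x := by rw [hi]; group
  have hz : z⁻¹ = z := inv_eq_of_mul_eq_one_left hzz
  rw [isConj_iff]
  refine ⟨g ^ (i * (k + 1)), ?_⟩
  rw [show g ^ (i * (k + 1)) * z * (g ^ (i * (k + 1)))⁻¹ =
    g ^ (i * (k + 1)) * (z * g ^ (-(i * (k + 1))) * z⁻¹) * z by group, hzu, neg_neg, ← zpow_add,
    ← hz2, hz]
  congr 1
  rw [show i * ((k : ℤ) + 1) + i * (k + 1) = i + ((2 * k + 1 : ℕ) : ℤ) * i by push_cast; ring,
    zpow_add, zpow_mul, zpow_natCast, ← hk, ← hg, pow_orderOf_eq_one, one_zpow, mul_one]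

theorem invol : InvolStmt.{u, v} := by
  intro G _ _ Ω _ _ p χ Y δ ε h
  classical
  haveI := Fact.mk h.prime
  haveI := h.simple
  haveI := Fintype.ofFinite G
  haveI := irrFintype G
  have hp := h.prime
  have h3 := h.three_lt
  have hp2 : p ≠ 2 := by omega
  obtain ⟨g, hg⟩ := exists_prime_orderOf_dvd_card' (G := G) p (by
    obtain ⟨N, hN, -⟩ := h.index
    exact ⟨2 * N, by rw [hN]; ring⟩)
  obtain ⟨z, hzo, hzinv⟩ := h.invert g hg
  have hsq : ∀ t : G, orderOf t = 2 → t * t = 1 := fun t ht => by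
    rw [← pow_two, ← ht, pow_orderOf_eq_one]
  have hreg : ∀ t : G, orderOf t = 2 → ¬ p ∣ orderOf t := fun t ht hd =>
    hp2 ((Nat.prime_dvd_prime_iff_eq hp Nat.prime_two).1 (ht ▸ hd))
  have hreg1 : ¬ p ∣ orderOf (1 : G) := by rw [orderOf_one]; exact hp.not_dvd_one
  have hCg : Subgroup.centralizer ({g} : Set G) = Subgroup.zpowers g := by
    refine (Subgroup.eq_of_le_of_card_ge (Subgroup.zpowers_le.2
      (Subgroup.mem_centralizer_singleton_iff.2 rfl)) ?_).symm
    rw [Nat.card_zpowers, hg]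
    exact (h.cent g hg).le
  have hgi : orderOf g⁻¹ = p := by rw [orderOf_inv, hg]
  set X : ℂ := (χ : G → ℂ) 1 with hX
  have hX0 : X ≠ 0 := CharApps.deg_ne_zero χ
  have hεε : (ε : ℂ) * ε = 1 := by
    rcases h.sign_ε with e | e <;> rw [e] <;> norm_num
  have hδ0 : (δ : ℂ) ≠ 0 := by
    rcases h.sign_δ with e | e <;> rw [e] <;> norm_num
  obtain ⟨θ₀, hθ₀⟩ : Y.Nonempty := Finset.card_pos.1 (by have := h.card_Y; omega)
  have hval : ∀ θ ∈ Y, ∀ t : G, ¬ p ∣ orderOf t →
      (θ : G → ℂ) t = (ε : ℂ) * (1 + (δ : ℂ) * (χ : G → ℂ) t) := fun θ hθ t ht => by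
    rw [← h.rel θ hθ t ht, ← mul_assoc, hεε, one_mul]
  have hT0 : 1 + (δ : ℂ) * X ≠ 0 := fun e => CharApps.deg_ne_zero θ₀ (by
    rw [hval θ₀ hθ₀ 1 hreg1, ← hX, e, mul_zero])
  have hsplit : ∀ F : IrrCharacter G → ℂ,
      (∀ η, η ≠ principal G → η ≠ χ → η ∉ Y → F η = 0) →
      ∑ η, F η = F (principal G) + F χ + ∑ θ ∈ Y, F θ := by
    intro F hF
    rw [← Finset.sum_add_sum_compl (insert (principal G) (insert χ Y)) F,
      Finset.sum_insert (by simp [h.χ_ne.symm, h.one_notMem]), Finset.sum_insert h.χ_notMem,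
      Finset.sum_eq_zero (s := (insert (principal G) (insert χ Y))ᶜ) fun η hη => by
        simp only [Finset.mem_compl, Finset.mem_insert, not_or] at hη
        exact hF η hη.1 hη.2.1 hη.2.2]
    ring
  -- the number of products equal to `g`, by characters
  have hcount : ∀ s t : G, orderOf s = 2 → orderOf t = 2 →
      (Nat.card {ab : G × G // (ab.1 * s * ab.1⁻¹) * (ab.2 * t * ab.2⁻¹) = g} : ℂ) *
          (X * (1 + (δ : ℂ) * X)) =
        (Nat.card G : ℂ) * δ * (X - (χ : G → ℂ) s) * (X - (χ : G → ℂ) t) := by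
    intro s t hs ht
    set k := (χ : G → ℂ) s with hk
    set l := (χ : G → ℂ) t with hl
    have hY : ∑ θ ∈ Y, (θ : G → ℂ) s * (θ : G → ℂ) t * (θ : G → ℂ) g⁻¹ / (θ : G → ℂ) 1 =
        -((1 + (δ : ℂ) * k) * (1 + (δ : ℂ) * l) / (1 + (δ : ℂ) * X)) := by
      rw [Finset.sum_congr rfl (g := fun θ : IrrCharacter G =>
        (1 + (δ : ℂ) * k) * (1 + (δ : ℂ) * l) / (1 + (δ : ℂ) * X) * ε * (θ : G → ℂ) g⁻¹)
        (fun θ hθ => ?_), ← Finset.mul_sum, h.sum_Y _ hgi]
      · linear_combination (-((1 + (δ : ℂ) * k) * (1 + (δ : ℂ) * l) / (1 + (δ : ℂ) * X))) * hεε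
      · rw [hval θ hθ s (hreg s hs), hval θ hθ t (hreg t ht), hval θ hθ 1 hreg1, ← hk, ← hl, ← hX]
        have hε0 : (ε : ℂ) ≠ 0 := fun e => by simp [e] at hεε
        field_simp
    rw [CharApps.card_conj_mul_conj, hsplit _ (fun η h1 h2 h3' => by
      rw [h.other_vanish η h1 h2 h3' _ hgi, mul_zero, zero_div]), hY, principal_apply,
      principal_apply, principal_apply, principal_apply, h.χ_val _ hgi, ← hk, ← hl, ← hX]
    field_simp
    ring
  -- the inverting involution
  have hz0 : (Nat.card G : ℂ) * δ * (X - (χ : G → ℂ) z) * (X - (χ : G → ℂ) z) =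
      (p : ℂ) * (cC z : ℂ) ^ 2 * (X * (1 + (δ : ℂ) * X)) := by
    rw [← hcount z z hzo hzo, Small.card_pairs_inverting hp2 hg hCg (hsq z hzo) hzinv, cC]
    push_cast
    ring
  have hzX : (χ : G → ℂ) z ≠ X := fun e => by
    rw [e, sub_self, mul_zero, eq_comm] at hz0
    simp only [mul_eq_zero, Nat.cast_eq_zero, pow_eq_zero_iff two_ne_zero, hp.ne_zero, hX0, hT0,
      false_or, or_false] at hz0
    exact (Nat.card_pos (α := Subgroup.centralizer ({z} : Set G))).ne' hz0
  have hker : ∀ t : G, (χ : G → ℂ) t = X → t = 1 := by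
    intro t ht
    haveI := CharApps.charKer_normal χ
    rcases IsSimpleGroup.eq_bot_or_eq_top_of_normal (CharApps.charKer χ) inferInstance with hK | hK
    · exact Subgroup.mem_bot.1 (hK ▸ CharApps.mem_charKer.2 ht)
    · exact absurd (CharApps.mem_charKer.1 (hK ▸ Subgroup.mem_top z : z ∈ CharApps.charKer χ)) hzX
  have hone : ∀ t : G, orderOf t = 2 → IsConj z t := by
    intro t ht
    by_contra hne
    haveI : IsEmpty {ab : G × G // (ab.1 * t * ab.1⁻¹) * (ab.2 * z * ab.2⁻¹) = g} := by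
      refine ⟨fun ⟨⟨a, b⟩, hab⟩ => hne ?_⟩
      refine (isConj_of_mul_eq (hp.odd_of_ne_two hp2) hg hCg ?_ ?_ (hsq z hzo) hab hzinv).trans
        (isConj_iff.2 ⟨a, rfl⟩).symm
      · show a * t * a⁻¹ * (a * t * a⁻¹) = 1
        rw [show a * t * a⁻¹ * (a * t * a⁻¹) = a * (t * t) * a⁻¹ by group, hsq t ht, mul_one,
          mul_inv_cancel]
      · show b * z * b⁻¹ * (b * z * b⁻¹) = 1
        rw [show b * z * b⁻¹ * (b * z * b⁻¹) = b * (z * z) * b⁻¹ by group, hsq z hzo, mul_one,
          mul_inv_cancel]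
    have h1 := hcount t z ht hzo
    rw [Nat.card_of_isEmpty, Nat.cast_zero, zero_mul, eq_comm] at h1
    simp only [mul_eq_zero, Nat.cast_eq_zero, (Nat.card_pos (α := G)).ne', hδ0, sub_eq_zero,
      Ne.symm hzX, false_or, or_false] at h1
    have := hker t h1.symm
    rw [this, orderOf_one] at ht
    omega
  refine ⟨⟨h.toCore, fun s t hs ht => (hone s hs).symm.trans (hone t ht), fun t ht => ?_⟩,
    fun t ht => ?_⟩
  · obtain ⟨c, hc⟩ := isConj_iff.1 (hone t ht)
    have h1 := isClassFunction_of_isCharacter (isCharacter_fixedBy (G := G) (X := Ω)) z c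
    rw [hc] at h1
    rw [← h.fix_invert z g hg hzo hzinv]
    exact_mod_cast h1
  · obtain ⟨c, hc⟩ := isConj_iff.1 (hone t ht)
    have h1 : (χ : G → ℂ) t = (χ : G → ℂ) z := by rw [← hc]; exact isClassFunction_irr χ z c
    have h2 : cC t = cC z := by
      have e1 := card_isConj_mul_card_centralizer t
      have e2 := card_isConj_mul_card_centralizer z
      rw [Nat.card_congr (Equiv.subtypeEquivRight fun x =>
        (⟨fun h' => (hone t ht).trans h', fun h' => (hone t ht).symm.trans h'⟩ :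
          IsConj t x ↔ IsConj z x)), ← e2] at e1
      haveI : Nonempty {x : G // IsConj z x} := ⟨⟨z, IsConj.refl z⟩⟩
      exact Nat.eq_of_mul_eq_mul_left Nat.card_pos e1
    rw [h1, h2]
    linear_combination hz0

end CfsgLib.DegreeThreeP
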