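import Cfsg.Agent.Lib.DegreeThreeP.Defs
import Cfsg.Agent.Lib.TwicePrime.SLTwo
import Cfsg.Agent.Lib.TwicePrime.Five
import Cfsg.Agent.Lib.PSubTwo.Main

/-!
# The linear case and the small cases of degree fifteen
-/

set_option autoImplicit false
set_option linter.unusedSectionVars false
set_option linter.style.haveILetI false

namespace CfsgLib.DegreeThreeP

open MulAction Cfsg CfsgLib.Chars

universe u v

/-- A Sylow subgroup central in its normalizer does not occur in a simple group of order not a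
prime power. -/
theorem false_of_central_sylow {G : Type u} [Group G] [Finite G] (hs : IsSimpleGroup G) {q : ℕ}
    [Fact q.Prime] (P : Sylow q G) (hP : (P : Subgroup G) ≠ ⊤) (hP' : (P : Subgroup G) ≠ ⊥)
    (h : Subgroup.normalizer ((P : Subgroup G) : Set G) ≤
      Subgroup.centralizer ((P : Subgroup G) : Set G)) : False := by
  have hc := MonoidHom.ker_transferSylow_isComplement' P h
  rcases hs.eq_bot_or_eq_top_of_normal _ (MonoidHom.normal_ker (MonoidHom.transferSylow P h))
    with e | e
  · rw [e, Subgroup.isComplement'_bot_left] at hc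
    exact hP hc
  · rw [e, Subgroup.isComplement'_top_left] at hc
    exact hP' hc

/-- If the centralisers of involutions have exponent two, two Sylow `2`-subgroups meet trivially
and their number is one modulo their order. -/
theorem card_sylow_sub_one {X : Type*} [Group X] [Finite X]
    (hinv : ∀ t h : X, t * t = 1 → t ≠ 1 → Commute t h → h * h = 1) (T : Sylow 2 X) :
    Nat.card (T : Subgroup X) ∣ Nat.card (Sylow 2 X) - 1 := by
  classical
  haveI : Fact (Nat.Prime 2) := ⟨Nat.prime_two⟩
  have hsq : ∀ (S : Sylow 2 X), ∀ y ∈ (S : Subgroup X), y ≠ 1 → y * y = 1 := by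
    intro S y hy hy1
    haveI : Nontrivial (S : Subgroup X) := ⟨⟨⟨y, hy⟩, 1, fun h => hy1 (congrArg Subtype.val h)⟩⟩
    haveI := S.isPGroup'.center_nontrivial
    obtain ⟨n, hn⟩ := (S.isPGroup'.to_subgroup (Subgroup.center (S : Subgroup X))).exists_card_eq
    have hn0 : n ≠ 0 := fun h => (Finite.one_lt_card_iff_nontrivial.2 inferInstance).ne'
      (hn.trans (by rw [h, pow_zero]))
    obtain ⟨z, hz⟩ := exists_prime_orderOf_dvd_card' 2 (show 2 ∣ Nat.card (Subgroup.center
      (S : Subgroup X)) from hn ▸ dvd_pow_self 2 hn0)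
    refine hinv ((z : (S : Subgroup X)) : X) y ?_ ?_ ?_
    · have h := pow_orderOf_eq_one z
      rw [hz, pow_two] at h
      exact congrArg (fun w : Subgroup.center (S : Subgroup X) => ((w : (S : Subgroup X)) : X)) h
    · intro h
      rw [← Subgroup.orderOf_coe, ← Subgroup.orderOf_coe, h, orderOf_one] at hz
      omega
    · exact (congrArg (fun v : (S : Subgroup X) => (v : X))
        (Subgroup.mem_center_iff.1 z.2 ⟨y, hy⟩)).symm
  have hsq' : ∀ (S : Sylow 2 X), ∀ y ∈ (S : Subgroup X), y * y = 1 := fun S y hy => by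
    rcases eq_or_ne y 1 with rfl | h
    · exact one_mul 1
    · exact hsq S y hy h
  have hex : ∀ (S : Sylow 2 X), ∀ y ∈ (S : Subgroup X), y ≠ 1 →
      Subgroup.centralizer ({y} : Set X) = (S : Subgroup X) := by
    intro S y hy hy1
    refine S.is_maximal' (fun w => ⟨1, ?_⟩) fun w hw => ?_
    · rw [pow_one, pow_two]
      exact Subtype.ext (hinv y w (hsq S y hy hy1) hy1
        (Subgroup.mem_centralizer_singleton_iff.1 w.2).symm)
    · have i : ∀ v ∈ (S : Subgroup X), v⁻¹ = v := fun v hv =>
        inv_eq_of_mul_eq_one_right (hsq' S v hv)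
      rw [Subgroup.mem_centralizer_singleton_iff, ← i _ (mul_mem hw hy), mul_inv_rev, i y hy,
        i w hw]
  have hfree : ∀ T' : Sylow 2 X, T' ≠ T → stabilizer (T : Subgroup X) T' = ⊥ := by
    intro T' hne
    rw [eq_bot_iff]
    intro s hs
    rw [Subgroup.mem_bot]
    by_contra hs1
    have hs1' : (s : X) ≠ 1 := fun h => hs1 (Subtype.ext h)
    have hsn : (s : X) ∈ Subgroup.normalizer ((T' : Subgroup X) : Set X) :=
      Sylow.smul_eq_iff_mem_normalizer.1 hs
    have hpg : IsPGroup 2 (Subgroup.zpowers (s : X)) :=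
      T.isPGroup'.to_le (Subgroup.zpowers_le.2 s.2)
    have he := T'.is_maximal' (hpg.to_sup_of_normal_right' T'.isPGroup' (Subgroup.zpowers_le.2 hsn))
      le_sup_right
    have hs' : (s : X) ∈ (T' : Subgroup X) :=
      he ▸ Subgroup.mem_sup_left (Subgroup.mem_zpowers _)
    exact hne (Sylow.ext ((hex T' _ hs' hs1').symm.trans (hex T _ s.2 hs1')))
  haveI := Fintype.ofFinite (Sylow 2 X)
  haveI := Fintype.ofFinite (orbitRel.Quotient (T : Subgroup X) (Sylow 2 X))
  have hdec : Nat.card (Sylow 2 X) =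
      ∑ ω : orbitRel.Quotient (T : Subgroup X) (Sylow 2 X),
        Nat.card (orbit (T : Subgroup X) ω.out) := by
    rw [Nat.card_congr (selfEquivSigmaOrbits (T : Subgroup X) (Sylow 2 X)), Nat.card_sigma]
  set ω₀ : orbitRel.Quotient (T : Subgroup X) (Sylow 2 X) := Quotient.mk'' T
  have hfix : ∀ s : (T : Subgroup X), s • T = T := fun s =>
    Sylow.smul_eq_iff_mem_normalizer.2 (Subgroup.le_normalizer s.2)
  have horb0 : ∀ T' : Sylow 2 X, T ∈ orbit (T : Subgroup X) T' → T' = T := by
    rintro T' ⟨s, hs⟩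
    rw [← inv_smul_smul s T']
    show s⁻¹ • (fun m => m • T') s = T
    rw [hs, hfix]
  have h1 : Nat.card (orbit (T : Subgroup X) ω₀.out) = 1 := by
    have : ω₀.out = T := horb0 _ (by
      have := Quotient.mk_out' (s₁ := orbitRel (T : Subgroup X) (Sylow 2 X)) T
      exact mem_orbit_symm.1 (orbitRel_apply.1 this))
    rw [this, Nat.card_eq_one_iff_unique]
    exact ⟨⟨fun ⟨x, a, ha⟩ ⟨x', b, hb⟩ => Subtype.ext
      (ha.symm.trans ((hfix a).trans ((hfix b).symm.trans hb)))⟩, ⟨⟨T, mem_orbit_self T⟩⟩⟩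
  rw [hdec, ← Finset.add_sum_erase _ _ (Finset.mem_univ ω₀), h1, Nat.add_sub_cancel_left]
  refine Finset.dvd_sum fun ω hω => ?_
  have hne : ω.out ≠ T := fun h => (Finset.mem_erase.1 hω).1 (by rw [← Quotient.out_eq' ω, h])
  rw [Nat.card_congr (orbitEquivQuotientStabilizer (T : Subgroup X) ω.out), hfree _ hne,
    ← Subgroup.index, Subgroup.index_bot]

variable {G : Type u} [Group G] [Finite G] {Ω : Type v} [MulAction G Ω] [Finite Ω] {p : ℕ}

theorem center_eq_bot (h : Core G Ω p) : Subgroup.center G = ⊥ := by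
  refine (h.simple.eq_bot_or_eq_top_of_normal _ inferInstance).resolve_right fun e => h.nonab ?_
  exact ⟨⟨fun a b => (Subgroup.mem_center_iff.1 (e ▸ Subgroup.mem_top b) a)⟩⟩

theorem stabilizer_facts (h : Core G Ω p) (b : Ω) :
    IsCoatom (stabilizer G b) ∧ (stabilizer G b).index = 3 * p := by
  haveI := h.prim
  haveI : IsPretransitive G Ω := inferInstance
  haveI : Nontrivial Ω := Finite.one_lt_card_iff_nontrivial.1 (by
    rw [h.card]; have := h.three_lt; omega)
  exact ⟨(isCoatom_stabilizer_iff_preprimitive G b).2 h.prim,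
    by rw [index_stabilizer_of_transitive G b, h.card]⟩

theorem nonempty_omega (h : Core G Ω p) : Nonempty Ω :=
  (Nat.card_pos_iff.1 (by rw [h.card]; have := h.three_lt; omega)).1

theorem linear_case (h : Core G Ω p) (hl : Linear G p) : False := by
  classical
  haveI := Fintype.ofFinite G
  haveI : Fact p.Prime := ⟨h.prime⟩
  haveI := h.simple
  obtain ⟨hp7, ζ, hfaith, hdeg⟩ := hl
  obtain ⟨P⟩ : Nonempty (Sylow p G) := inferInstance
  have hnn : ¬ (P : Subgroup G).Normal := fun hn => by
    obtain ⟨P', hN⟩ := h.norm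
    rcases h.simple.eq_bot_or_eq_top_of_normal _ hn with e | e
    · have := h.sylow_card P
      rw [e, Subgroup.card_bot] at this
      exact h.prime.one_lt.ne this
    · have hG : Nat.card G = p := by rw [← h.sylow_card P, e, Subgroup.card_top]
      have := Nat.le_of_dvd Nat.card_pos
        (hN ▸ Subgroup.card_subgroup_dvd_card (Subgroup.normalizer ((P' : Subgroup G) : Set G)))
      omega
  obtain ⟨a, F, hF, hF', hpa, hFc, ⟨e⟩⟩ := PSubTwo.main (P := P) (ζ := ζ)
    ⟨by omega, h.sylow_card P, hnn, hfaith, by rw [CharApps.deg_eq, hdeg]⟩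
  have hZ : Nat.card (Subgroup.center G) = 1 := by rw [center_eq_bot h, Subgroup.card_bot]
  have hcard : Nat.card G = 2 ^ a * ((2 ^ a + 1) * (2 ^ a - 1)) := by
    rw [Nat.card_congr e.toEquiv, Nat.card_prod, hZ, mul_one, Classical.card_SL_two,
      Nat.card_eq_fintype_card, hFc, ← Nat.sq_sub_sq, one_pow]
  haveI : CharP F 2 := by
    obtain ⟨q, hq2⟩ := CharP.exists F
    haveI := hq2
    obtain ⟨k, hqp, hk⟩ := FiniteField.card F q
    obtain rfl : q = 2 := Nat.prime_eq_prime_of_dvd_pow hqp Nat.prime_two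
      ((dvd_pow_self q k.pos.ne').trans (by rw [← hk, hFc]))
    exact hq2
  have hinv : ∀ t h' : G, t * t = 1 → t ≠ 1 → Commute t h' → h' * h' = 1 := by
    haveI : Subsingleton (Subgroup.center G) := (Nat.card_eq_one_iff_unique.1 hZ).1
    intro t h' ht ht1 hc
    have ht1' : (e t).1 ≠ 1 := fun h1 => ht1 (e.injective (by
      rw [map_one]; exact Prod.ext h1 (Subsingleton.elim _ _)))
    have h1 := TwicePrime.sl_two_sq_eq_one (g := (e t).1) (h := (e h').1)
      (by rw [← Prod.fst_mul, ← map_mul, ht, map_one]; rfl) ht1'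
      (congrArg Prod.fst (hc.map e).eq)
    exact e.injective (Prod.ext (by rw [map_mul, Prod.fst_mul, h1, map_one]; rfl)
      (Subsingleton.elim _ _))
  obtain ⟨b⟩ := nonempty_omega h
  obtain ⟨hmax, hi⟩ := stabilizer_facts h b
  obtain ⟨q, hq⟩ : ∃ q, q = 2 ^ a := ⟨_, rfl⟩
  rw [← hq] at hcard hpa
  have hq4 : 4 ≤ q := by omega
  have ha0 : a ≠ 0 := fun e0 => by rw [e0, pow_zero] at hq; omega
  have hH : Nat.card (stabilizer G b) * 3 = q * (q - 1) := by
    have h1 := (stabilizer G b).card_mul_index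
    rw [hcard, hi, hpa] at h1
    refine Nat.eq_of_mul_eq_mul_right (show 0 < q + 1 by omega) ?_
    rw [mul_assoc, h1]; ring
  haveI : Fact (Nat.Prime 2) := ⟨Nat.prime_two⟩
  obtain ⟨T⟩ : Nonempty (Sylow 2 (stabilizer G b)) := inferInstance
  have hodd : ¬ 2 ∣ q - 1 := by
    have : 2 ∣ q := hq ▸ dvd_pow_self 2 ha0
    omega
  have hfac : ∀ m : ℕ, ¬ 2 ∣ m → ∀ k, (2 ^ k * m).factorization 2 = k := fun m hm k => by
    have hm0 : m ≠ 0 := fun h => hm (by rw [h]; exact dvd_zero _)
    rw [Nat.factorization_mul (pow_ne_zero _ two_ne_zero) hm0, Finsupp.add_apply,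
      Nat.prime_two.factorization_pow, Finsupp.single_eq_same,
      Nat.factorization_eq_zero_of_not_dvd hm, add_zero]
  have hT : Nat.card (T : Subgroup (stabilizer G b)) = q := by
    rw [T.card_eq_multiplicity, hq]
    congr 1
    have h1 : (Nat.card (stabilizer G b) * 3).factorization 2 = a := by
      rw [hH, hq]; exact hfac _ (hq ▸ hodd) a
    rwa [Nat.factorization_mul Nat.card_pos.ne' (by norm_num), Finsupp.add_apply,
      Nat.factorization_eq_zero_of_not_dvd (show ¬ 2 ∣ 3 by norm_num), add_zero] at h1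
  have hT3 : (T : Subgroup (stabilizer G b)).index * 3 = q - 1 := by
    have h1 := (T : Subgroup (stabilizer G b)).card_mul_index
    rw [hT] at h1
    refine Nat.eq_of_mul_eq_mul_left (show 0 < q by omega) ?_
    rw [← hH, ← h1, mul_assoc]
  have hn1 : Nat.card (Sylow 2 (stabilizer G b)) = 1 := by
    have h1 := Nat.le_of_dvd (Nat.pos_of_ne_zero Subgroup.index_ne_zero_of_finite) T.card_dvd_index
    have h2 := card_sylow_sub_one (X := stabilizer G b) (fun t h' ht ht1 hc => Subtype.ext
      (hinv t h' (congrArg Subtype.val ht) (fun e => ht1 (Subtype.ext e))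
        (congrArg Subtype.val hc.eq))) T
    rw [hT] at h2
    have := Nat.eq_zero_of_dvd_of_lt h2 (by omega)
    have : 0 < Nat.card (Sylow 2 (stabilizer G b)) := Nat.card_pos
    omega
  haveI : Subsingleton (Sylow 2 (stabilizer G b)) := (Nat.card_eq_one_iff_unique.1 hn1).1
  haveI := T.normal_of_subsingleton
  set U := (T : Subgroup (stabilizer G b)).map (stabilizer G b).subtype with hUdef
  have hUc : Nat.card U = q := by
    rw [hUdef, Subgroup.card_map_of_injective (Subgroup.subtype_injective _), hT]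
  have hle : stabilizer G b ≤ Subgroup.normalizer (U : Set G) := by
    refine Subgroup.normal_subgroupOf_iff_le_normalizer ?_ |>.1 ?_
    · exact Subgroup.map_subtype_le _
    · rw [hUdef, Subgroup.subgroupOf, Subgroup.comap_map_eq_self_of_injective
        (Subgroup.subtype_injective _)]
      infer_instance
  have hN : Subgroup.normalizer (U : Set G) = stabilizer G b := by
    rcases eq_or_lt_of_le hle with e1 | e1
    · exact e1.symm
    · have hUn : U.Normal := Subgroup.normalizer_eq_top_iff.1 (hmax.2 _ e1)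
      rcases h.simple.eq_bot_or_eq_top_of_normal _ hUn with e2 | e2
      · rw [e2, Subgroup.card_bot] at hUc; omega
      · rw [e2, Subgroup.card_top, hcard] at hUc
        have : 1 < (q + 1) * (q - 1) := by
          have h4 := Nat.mul_le_mul (show 1 ≤ q + 1 by omega) (show 2 ≤ q - 1 by omega)
          omega
        have := Nat.mul_lt_mul_of_pos_left this (show 0 < q by omega)
        omega
  let S : Sylow 2 G := Sylow.ofCard U (by
    rw [hUc, hcard, hq]
    congr 1
    refine (hfac _ ?_ a).symm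
    rw [← hq]
    intro h2
    rcases (Nat.Prime.dvd_mul Nat.prime_two).1 h2 with h2 | h2
    · have : 2 ∣ q := hq ▸ dvd_pow_self 2 ha0
      omega
    · exact hodd h2)
  have hS : (S : Subgroup G) = U := rfl
  have hnum : Nat.card (Sylow 2 G) = 3 * (q + 1) := by
    rw [Sylow.card_eq_index_normalizer S]
    show (Subgroup.normalizer (U : Set G)).index = _
    rw [hN, hi, hpa]
  have h5 := card_sylow_sub_one hinv S
  rw [hnum, hS, hUc] at h5
  have h6 : q ∣ 3 * (q + 1) - 1 - q * 3 := Nat.dvd_sub h5 (dvd_mul_right q 3)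
  have := Nat.le_of_dvd (by omega) h6
  omega

theorem six_case (h : Six G Ω p) : False := by
  classical
  haveI := h.simple
  haveI : Fact (Nat.Prime 2) := ⟨Nat.prime_two⟩
  obtain ⟨S⟩ : Nonempty (Sylow 2 G) := inferInstance
  obtain ⟨t₀, ht₀⟩ : ∃ t, orderOf t = 2 := by
    haveI : Fact p.Prime := ⟨h.prime⟩
    obtain ⟨u, hu⟩ := exists_prime_orderOf_dvd_card' (G := G) p (by
      obtain ⟨N, hN, -⟩ := h.index
      exact ⟨2 * N, by rw [hN]; ring⟩)
    obtain ⟨t, ht, -⟩ := h.invert u hu
    exact ⟨t, ht⟩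
  have h2G : 2 ∣ Nat.card G := ht₀ ▸ orderOf_dvd_natCard t₀
  obtain ⟨n, hn⟩ := S.isPGroup'.exists_card_eq
  haveI : Nontrivial (S : Subgroup G) := by
    rw [← Finite.one_lt_card_iff_nontrivial]
    have := Nat.le_of_dvd Nat.card_pos (S.dvd_card_of_dvd_card h2G)
    omega
  haveI := S.isPGroup'.center_nontrivial
  obtain ⟨m, hm⟩ := (S.isPGroup'.to_subgroup (Subgroup.center (S : Subgroup G))).exists_card_eq
  have hm0 : m ≠ 0 := fun h0 => (Finite.one_lt_card_iff_nontrivial.2 inferInstance).ne'
    (hm.trans (by rw [h0, pow_zero]))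
  obtain ⟨z, hz⟩ := exists_prime_orderOf_dvd_card' 2 (show 2 ∣ Nat.card (Subgroup.center
    (S : Subgroup G)) from hm ▸ dvd_pow_self 2 hm0)
  set t : G := ((z : (S : Subgroup G)) : G) with htdef
  have ht : orderOf t = 2 := by rw [htdef, Subgroup.orderOf_coe, Subgroup.orderOf_coe, hz]
  have hle : (S : Subgroup G) ≤ Subgroup.centralizer ({t} : Set G) := fun y hy =>
    Subgroup.mem_centralizer_singleton_iff.2
      (congrArg Subtype.val (Subgroup.mem_center_iff.1 z.2 ⟨y, hy⟩))
  obtain ⟨c, hc⟩ : 2 ^ n ∣ cC t := hn ▸ Subgroup.card_dvd_of_le hle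
  have hG : Nat.card G = 2 ^ n * (S : Subgroup G).index := by
    rw [← hn, Subgroup.card_mul_index]
  have hodd : ¬ 2 ∣ (S : Subgroup G).index := S.not_dvd_index
  have hf := h.formula t ht
  rw [hG, hc] at hf
  have hle2 : 2 ^ n ∣ 2 := by
    have h3 : 2 ^ n ∣ 2 * (3 * (S : Subgroup G).index) := ⟨35 * c ^ 2, by
      refine Nat.eq_of_mul_eq_mul_left (pow_pos two_pos n) ?_
      linear_combination hf⟩
    have hco : Nat.Coprime (2 ^ n) (3 * (S : Subgroup G).index) :=
      Nat.Coprime.pow_left _ (Nat.prime_two.coprime_iff_not_dvd.2 (fun h2 => by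
        rcases (Nat.Prime.dvd_mul Nat.prime_two).1 h2 with h2 | h2
        · norm_num at h2
        · exact hodd h2))
    exact hco.dvd_of_dvd_mul_right h3
  have hS2 : Nat.card (S : Subgroup G) = 2 := by
    have h1 : 1 < Nat.card (S : Subgroup G) := Finite.one_lt_card_iff_nontrivial.2 inferInstance
    have := Nat.le_of_dvd two_pos hle2
    omega
  refine false_of_central_sylow h.simple S (fun e => ?_) (fun e => ?_) ?_
  · rw [e, Subgroup.card_top] at hS2
    haveI : Fact p.Prime := ⟨h.prime⟩
    obtain ⟨P', hN⟩ := h.norm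
    have := Nat.le_of_dvd Nat.card_pos
      (hN ▸ Subgroup.card_subgroup_dvd_card (Subgroup.normalizer ((P' : Subgroup G) : Set G)))
    have := h.three_lt
    omega
  · rw [e, Subgroup.card_bot] at hS2; omega
  · intro g hg y hy
    rcases eq_or_ne y 1 with rfl | hy1
    · simp
    have hgy : g * y * g⁻¹ ∈ (S : Subgroup G) := (Subgroup.mem_normalizer_iff.1 hg y).1 hy
    haveI : Fintype (S : Subgroup G) := Fintype.ofFinite _
    obtain ⟨w, -, hw⟩ := (Nat.card_eq_two_iff' (1 : (S : Subgroup G))).1 hS2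
    have e1 : (⟨y, hy⟩ : (S : Subgroup G)) = w := hw _ fun e => hy1 (congrArg Subtype.val e)
    have e2 : (⟨g * y * g⁻¹, hgy⟩ : (S : Subgroup G)) = w :=
      hw _ fun e => hy1 (conj_eq_one_iff.1 (congrArg Subtype.val e))
    have e3 : g * y * g⁻¹ = y := congrArg Subtype.val (e2.trans e1.symm)
    conv_lhs => rw [← e3]
    group

theorem icos_case (h : Core G Ω p) (hi : Icos G p) : False := by
  classical
  haveI := Fintype.ofFinite G
  haveI := h.simple
  haveI : NeZero (Nat.card G) := ⟨Nat.card_pos.ne'⟩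
  obtain ⟨rfl, θ, χ, hθd, hθf, hχd, huniq, hrel, hsing⟩ := hi
  haveI : Fact (Nat.Prime 5) := ⟨h.prime⟩
  have hfix : ∀ σ : ℂ ≃+* ℂ, ∀ g, σ ((χ : G → ℂ) g) = (χ : G → ℂ) g := by
    intro σ g
    have h1 : CharApps.galoisIrr σ χ = χ := huniq _ (by
      refine Nat.cast_injective (R := ℂ) ?_
      rw [← CharApps.deg_eq, CharApps.galoisIrr_apply, CharApps.deg_eq, hχd, map_natCast])
    exact (CharApps.galoisIrr_apply σ χ g).symm.trans (by rw [h1])
  have hint : ∀ g, ∃ m : ℤ, (m : ℂ) = (χ : G → ℂ) g := fun g =>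
    CharApps.exists_int_of_rat (char_isIntegral (isCharacter_of_irr χ.2) g)
      (CharApps.exists_rat_of_fixed (N := Nat.card G)
        (CharApps.char_mem_cyclo (isCharacter_of_irr χ.2) g pow_card_eq_one')
        fun k σ _ _ => hfix σ g)
  choose v hv using hint
  have hv1 : v 1 = 4 := by
    have h1 := hv 1
    rw [CharApps.deg_eq, hχd] at h1
    exact_mod_cast h1
  have hL : ∀ g, g ≠ 1 → v g ∈ Finset.Icc (-1 : ℤ) 3 := by
    intro g hg
    by_cases hp : 5 ∣ orderOf g
    · have h2 : v g = -1 := by exact_mod_cast (hv g).trans (hsing g (h.order_p g hp))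
      rw [h2]; simp
    · obtain ⟨n, ρ, hρ, hθ⟩ := θ.2
      have hn : Module.finrank ℂ (Fin n → ℂ) = 3 := by
        have h1 := CharApps.deg_eq θ
        rw [← hθ, Representation.char_one] at h1
        rw [← hθ] at hθd
        have h2 : Module.finrank ℂ (Fin n → ℂ) = charDegree ρ.character := by exact_mod_cast h1
        omega
      have hval : ρ.character g = ((v g - 1 : ℤ) : ℂ) := by
        rw [hθ, hrel g hp, ← hv]; push_cast; ring
      have hle := norm_character_le ρ g
      rw [hval, hn, Complex.norm_intCast] at hle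
      have hne : ¬ |((v g - 1 : ℤ) : ℝ)| = 3 := by
        intro h3
        have h4 : ‖ρ.character g‖ = (Module.finrank ℂ (Fin n → ℂ) : ℝ) := by
          rw [hval, hn, Complex.norm_intCast]; exact_mod_cast h3
        obtain ⟨w, hw⟩ := (norm_character_eq_iff ρ g).1 h4
        refine hg (Subgroup.mem_bot.1 (center_eq_bot h ▸ Subgroup.mem_center_iff.2 fun a => ?_))
        have h5 : ρ (a * g * (g * a)⁻¹) = LinearMap.id := by
          rw [map_mul]
          have h6 : ρ (a * g) = ρ (g * a) := by
            rw [map_mul, map_mul, hw, mul_smul_comm, smul_mul_assoc]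
            rfl
          rw [h6, ← map_mul, mul_inv_cancel, map_one]
          rfl
        refine mul_inv_eq_one.1 (hθf _ ?_)
        rw [← hθ, Representation.char_one, character_eq_finrank_iff]
        exact h5
      have hle' : |v g - 1| ≤ 3 := by exact_mod_cast hle
      have hne' : |v g - 1| ≠ 3 := fun e => hne (by exact_mod_cast e)
      rw [Finset.mem_Icc]
      rw [abs_le] at hle'
      constructor <;> by_contra hc
      · exact hne' (by rw [show v g - 1 = -3 by omega]; rfl)
      · exact hne' (by rw [show v g - 1 = 3 by omega]; rfl)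
  have h120 : Nat.card G ∣ 120 := by
    have h1 := TwicePrime.card_dvd_prod (isCharacter_of_irr χ.2) (fun g => (hv g).symm) hL
    rw [hv1, show ∏ l ∈ Finset.Icc (-1 : ℤ) 3, ((4 : ℤ) - l) = ((120 : ℕ) : ℤ) by decide] at h1
    exact_mod_cast h1
  obtain ⟨N, hN, hNmod⟩ := h.index
  obtain ⟨b⟩ := nonempty_omega h
  obtain ⟨hmax, hidx⟩ := stabilizer_facts h b
  have hN6 : N = 6 := by
    have h1 : N ∣ 12 := by
      rw [hN] at h120
      exact Nat.dvd_of_mul_dvd_mul_left (show 0 < 2 * 5 by norm_num) (by simpa using h120)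
    have h2 : 3 ∣ N := by
      have h3 : 3 * 5 ∣ Nat.card G := hidx ▸ (stabilizer G b).index_dvd_card
      rw [hN, show 2 * 5 * N = 5 * (2 * N) by ring, mul_comm 3 5] at h3
      exact (show Nat.Coprime 3 2 by norm_num).dvd_of_dvd_mul_left
        (Nat.dvd_of_mul_dvd_mul_left (show 0 < 5 by norm_num) h3)
    have h4 := Nat.le_of_dvd (by norm_num) h1
    unfold Nat.ModEq at hNmod
    omega
  subst hN6
  have hH : Nat.card (stabilizer G b) = 4 := by
    have h1 := (stabilizer G b).card_mul_index
    rw [hidx, hN] at h1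
    omega
  haveI : Fact (Nat.Prime 2) := ⟨Nat.prime_two⟩
  let S : Sylow 2 G := Sylow.ofCard (stabilizer G b) (by
    rw [hH, hN, show 2 * 5 * 6 = 2 ^ 2 * 15 by norm_num, Nat.factorization_mul (by norm_num)
      (by norm_num), Finsupp.add_apply, Nat.prime_two.factorization_pow, Finsupp.single_eq_same,
      Nat.factorization_eq_zero_of_not_dvd (show ¬ 2 ∣ 15 by norm_num), add_zero]
    norm_num)
  have hS : (S : Subgroup G) = stabilizer G b := rfl
  haveI : IsMulCommutative (stabilizer G b) :=
    IsPGroup.isMulCommutative_of_card_eq_prime_sq (p := 2) (by rw [hH]; norm_num)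
  refine false_of_central_sylow h.simple S (fun e => hmax.1 (hS ▸ e))
    (fun e => by rw [hS] at e; rw [e, Subgroup.card_bot] at hH; omega) ?_
  rw [hS]
  refine le_trans ?_ (Subgroup.le_centralizer (stabilizer G b))
  rcases eq_or_lt_of_le (Subgroup.le_normalizer (H := stabilizer G b)) with e | e
  · exact e.ge
  · have hn := Subgroup.normalizer_eq_top_iff.1 (hmax.2 _ e)
    rcases h.simple.eq_bot_or_eq_top_of_normal _ hn with e2 | e2
    · rw [e2, Subgroup.card_bot] at hH; omega
    · exact absurd e2 hmax.1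

/-- The piece. -/
theorem linear : LinearStmt.{u, v} := fun G _ _ Ω _ _ p h hc => by
  rcases hc with hl | hi | hs
  · exact linear_case h hl
  · exact icos_case h hi
  · exact six_case hs

end CfsgLib.DegreeThreeP
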