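import Cfsg.Agent.Lib.DegreeThreeP.Defs

/-!
# Simple groups of degree `3p`: the primitive case from the pieces
-/

set_option autoImplicit false
set_option linter.style.haveILetI false

namespace CfsgLib.DegreeThreeP

open MulAction Cfsg

universe u v

theorem primitive_of (hCore : CoreStmt.{u, v}) (hCases : CasesStmt.{u, v})
    (hLinear : LinearStmt.{u, v}) (hTwoOne : TwoOneStmt.{u, v})
    (hCount : TwoThreeCountStmt.{u, v}) (hEnd : TwoThreeEndStmt.{u, v})
    (hThreeThree : ThreeThreeStmt.{u, v}) (hThreeFive : ThreeFiveStmt.{u, v})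
    (hParam : ParamStmt.{u, v}) (hDih : DihStmt.{u, v}) (hPairs : PairsStmt.{u, v})
    (hOne : OneClassStmt.{u, v}) (hTwoClass : TwoClassStmt.{u, v})
    (hTwoEnd : TwoClassEndStmt.{u, v})
    (G : Type u) [Group G] [Finite G] (Ω : Type v) [MulAction G Ω] [Finite Ω] (p : ℕ)
    (h : Hyp G Ω p) : p = 5 ∧ Nonempty (G ≃* alternatingGroup (Fin 6)) := by
  have hc := hCore G Ω p h
  have hmod : p % 4 = 1 ∨ p % 4 = 3 := by
    obtain ⟨k, hk⟩ := h.prime.odd_of_ne_two (by have := h.three_lt; omega)
    omega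
  rcases hCases G Ω p hc with hb | hb | hb | hb | hb
  · exact (hLinear G Ω p hc (Or.inl hb)).elim
  · exact (hLinear G Ω p hc (Or.inr (Or.inl hb))).elim
  · exact (hLinear G Ω p hc (Or.inr (Or.inr hb))).elim
  · rcases hmod with hm | hm
    · by_cases hp5 : p = 5
      · exact ⟨hp5, hThreeFive G Ω p hb hp5⟩
      · exfalso
        obtain ⟨r, hr⟩ := hParam G Ω p hb hm
        obtain ⟨P, t, u, s, a, hD⟩ := hDih G Ω p r hb hm hp5 hr
        by_cases hmove : ∀ g ∈ Subgroup.centralizer ({t} : Set G), g • a = a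
        · exact hTwoEnd G Ω p hb hm P t u s a hD (hPairs G Ω p hb hm P t u s a hD)
            (hTwoClass G Ω p hb hm P t u s a hD hmove)
        · refine hOne G Ω p hb hm P t u s a hD ?_
          push Not at hmove
          exact hmove
    · exact (hThreeThree G Ω p hb hm).elim
  · rcases hmod with hm | hm
    · exact (hTwoOne G Ω p hb hm).elim
    · obtain ⟨t, a, b, hF⟩ := hCount G Ω p hb hm
      exact (hEnd G Ω p hb hm t a b hF).elim

end CfsgLib.DegreeThreeP
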