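import Cfsg.Agent.Lib.DegreeThreeP.PairsSums

/-!
# Pairs of involutions with product of order four
-/

set_option autoImplicit false
set_option linter.unusedSectionVars false
set_option linter.style.haveILetI false

namespace CfsgLib.DegreeThreeP

open Cfsg CfsgLib.Chars CfsgLib.CharApps
open scoped ComplexConjugate

universe u v

attribute [local instance] Fintype.ofFinite

section

variable {G : Type u} [Group G] [Finite G] {Ω : Type v} [MulAction G Ω] [Finite Ω] {t w s : G}

/-- The total number of fixed points over the section is an odd multiple, at most three times. -/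
theorem sum_fx_section (M : Pairs.Model G t w s) (a : Ω) (hfix : fx Ω t = 3) (hta : t • a = a)
    (hwa : w • a = a) :
    Odd (∑ z : M.K, fx Ω (w * (z : G))) ∧
      ∑ z : M.K, fx Ω (w * (z : G)) ≤ 3 * Nat.card M.K := by
  classical
  letI : Fintype M.K := Fintype.ofFinite _
  set Ft : Finset Ω := Finset.univ.filter (fun x => t • x = x) with hFt
  set F : Finset Ω := Finset.univ.filter (fun x => w • x = x) with hF
  have hFtc : Ft.card = 3 := by
    rw [← hfix, fx, Nat.card_eq_fintype_card, hFt, ← Fintype.card_subtype]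
    exact Fintype.card_congr (Equiv.refl _)
  have hsub : F ⊆ Ft := fun x hx => by
    simp only [hF, Finset.mem_filter, Finset.mem_univ, true_and] at hx
    simp [hFt, ← M.sq, pow_two, mul_smul, hx]
  have hwt : ∀ x ∈ Ft, w • x ∈ Ft := fun x hx => by
    simp only [hFt, Finset.mem_filter, Finset.mem_univ, true_and] at hx ⊢
    rw [← mul_smul, ← Subgroup.mem_centralizer_singleton_iff.mp M.v_mem, mul_smul, hx]
  have haF : a ∈ F := by simp [hF, hwa]
  have hFodd : Odd F.card := by
    by_cases hone : F = {a}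
    · rw [hone]; simp
    · have hFFt : F = Ft := by
        refine Finset.Subset.antisymm hsub fun y hy => ?_
        obtain ⟨x, hx, hxa⟩ : ∃ x ∈ F, x ≠ a := by
          by_contra hno
          push Not at hno
          exact hone (Finset.eq_singleton_iff_unique_mem.mpr ⟨haF, hno⟩)
        by_cases hya : y = a
        · rw [hya]; exact haF
        by_cases hyx : y = x
        · rw [hyx]; exact hx
        have hall : Ft = {a, x, y} := by
          refine (Finset.eq_of_subset_of_card_le ?_ ?_).symm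
          · simp [Finset.insert_subset_iff, hsub haF, hsub hx, hy]
          · rw [hFtc, Finset.card_insert_of_notMem, Finset.card_pair (Ne.symm hyx)]
            simp [Ne.symm hxa, Ne.symm hya]
        have h1 := hwt y hy
        rw [hall] at h1
        simp only [Finset.mem_insert, Finset.mem_singleton] at h1
        simp only [hF, Finset.mem_filter, Finset.mem_univ, true_and] at hx ⊢
        rcases h1 with h1 | h1 | h1
        · exact absurd (smul_left_cancel w (h1.trans hwa.symm)) hya
        · exact absurd (smul_left_cancel w (h1.trans hx.symm)) hyx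
        · exact h1
      rw [hFFt, hFtc]; decide
  have hiff : ∀ (z : M.K) (x : Ω), (w * (z : G)) • x = x ↔ w • x = x ∧ (z : G) • x = x := by
    intro z x
    constructor
    · intro h
      have hw : w • x = x := by
        rw [← M.mul_pow_e z]
        exact MulAction.mem_stabilizer_iff.mp (pow_mem (MulAction.mem_stabilizer_iff.mpr h) _)
      refine ⟨hw, smul_left_cancel w ?_⟩
      rw [← mul_smul, h, hw]
    · rintro ⟨h1, h2⟩
      rw [mul_smul, h2, h1]
  have hsum : ∑ z : M.K, fx Ω (w * (z : G)) =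
      ∑ x ∈ F, Nat.card (MulAction.stabilizer M.K x) := by
    calc ∑ z : M.K, fx Ω (w * (z : G))
        = ∑ z : M.K, ∑ x ∈ F, (if (z : G) • x = x then 1 else 0) := by
          refine Finset.sum_congr rfl fun z _ => ?_
          rw [← Finset.card_filter, fx, Nat.card_eq_fintype_card, hF, Finset.filter_filter,
            ← Fintype.card_subtype]
          exact Fintype.card_congr (Equiv.subtypeEquivRight fun x => hiff z x)
      _ = _ := by
          rw [Finset.sum_comm]
          refine Finset.sum_congr rfl fun x _ => ?_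
          rw [← Finset.card_filter, ← Fintype.card_subtype, Nat.card_eq_fintype_card]
          exact Fintype.card_congr (Equiv.refl _)
  rw [hsum]
  constructor
  · rw [Finset.odd_sum_iff_odd_card_odd, Finset.filter_true_of_mem]
    · exact hFodd
    · exact fun x _ => M.odd_K.of_dvd_nat (Subgroup.card_subgroup_dvd_card _)
  · calc ∑ x ∈ F, Nat.card (MulAction.stabilizer M.K x)
        ≤ ∑ x ∈ F, Nat.card M.K :=
          Finset.sum_le_sum fun x _ => Subgroup.card_le_card_group _
      _ = F.card * Nat.card M.K := by rw [Finset.sum_const, smul_eq_mul]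
      _ ≤ 3 * Nat.card M.K := Nat.mul_le_mul_right _ (hFtc ▸ Finset.card_le_card hsub)

end

/-- The pairs of involutions with product of order four. -/
theorem pairs : PairsStmt.{u, v} := by
  intro G _ _ Ω _ _ p h hp4 P t w s a D
  classical
  haveI := irrFintype G
  obtain ⟨M⟩ := Pairs.nonempty_model D.card_P D.mem_u D.mem_r D.ord_t D.ord_u D.ord_r D.sq D.rel
    D.gen
  letI : Fintype M.K := Fintype.ofFinite _
  have hf0 : f0 p = 3 := by simp [f0, hp4]
  have hone : ∀ i : G, orderOf i = 2 ↔ IsConj t i := fun i => by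
    refine ⟨fun hi => h.conj t i D.ord_t hi, fun hi => ?_⟩
    obtain ⟨c, rfl⟩ := isConj_iff.mp hi
    rw [Pairs.orderOf_conj, D.ord_t]
  have hfour : ∀ z : M.K, 4 ∣ orderOf (w * (z : G)) := fun z => by
    have h1 := orderOf_map_dvd M.ρ (M.vz z)
    rw [M.rho_vz, DihedralGroup.orderOf_r_one] at h1
    rwa [← M.coe_vz, Subgroup.orderOf_coe]
  have hnot : ∀ g : G, ¬ 4 ∣ orderOf g → ∀ z : M.K, ¬ IsConj (w * (z : G)) g := fun g hg z hz => by
    obtain ⟨c, rfl⟩ := isConj_iff.mp hz
    rw [Pairs.orderOf_conj] at hg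
    exact hg (hfour z)
  obtain ⟨χ, ψ, hχd, hψd, hperm, hχ2⟩ := h.chars
  have hp5 : 5 ≤ p := by have := D.big; omega
  have hK0 : (Nat.card M.K : ℂ) ≠ 0 := Nat.cast_ne_zero.mpr Nat.card_pos.ne'
  choose n hn using fun η : IrrCharacter G => M.exists_int_sec η
  have hn1 : n (principal G) = 1 := by
    have h1 := hn (principal G)
    rw [Pairs.Model.sec] at h1
    simp only [principal_apply, Finset.sum_const, Finset.card_univ, ← Nat.card_eq_fintype_card,
      nsmul_eq_mul, mul_one] at h1
    have h2 : ((n (principal G) : ℤ) : ℂ) = 1 := mul_left_cancel₀ hK0 (by rw [← h1, mul_one])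
    exact_mod_cast h2
  have hχvz : ∀ z : M.K, (χ : G → ℂ) (w * (z : G)) = 1 := fun z =>
    hχ2 _ (dvd_trans (by norm_num) (hfour z))
  have hnχ : n χ = 1 := by
    have h1 := hn χ
    rw [Pairs.Model.sec] at h1
    simp only [hχvz, Finset.sum_const, Finset.card_univ, ← Nat.card_eq_fintype_card,
      nsmul_eq_mul, mul_one] at h1
    have h2 : ((n χ : ℤ) : ℂ) = 1 := mul_left_cancel₀ hK0 (by rw [← h1, mul_one])
    exact_mod_cast h2
  have hnψ : n ψ = 1 ∨ n ψ = -1 := by
    obtain ⟨hodd, hle⟩ := sum_fx_section M a ((h.fix t D.ord_t).trans hf0) D.fix_t D.fix_u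
    have h1 := hn ψ
    rw [Pairs.Model.sec, Finset.sum_congr rfl (fun (z : M.K) _ =>
      (show (ψ : G → ℂ) (w * (z : G)) = (fx Ω (w * (z : G)) : ℂ) - 2 by
        rw [hperm, hχvz]; ring)), Finset.sum_sub_distrib, Finset.sum_const, Finset.card_univ,
      ← Nat.card_eq_fintype_card, nsmul_eq_mul, ← Nat.cast_sum] at h1
    generalize ∑ z : M.K, fx Ω (w * (z : G)) = T at hodd hle h1
    have h2 : (T : ℤ) = (Nat.card M.K : ℤ) * (n ψ + 2) := by
      have : ((T : ℤ) : ℂ) = (((Nat.card M.K : ℤ) * (n ψ + 2) : ℤ) : ℂ) := by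
        push_cast; linear_combination h1
      exact_mod_cast this
    have hKpos : (0 : ℤ) < (Nat.card M.K : ℤ) := by exact_mod_cast Nat.card_pos
    have hTle : (T : ℤ) ≤ 3 * (Nat.card M.K : ℤ) := by exact_mod_cast hle
    have hlo : 0 ≤ n ψ + 2 := by
      by_contra hc
      nlinarith
    have hhi : n ψ + 2 ≤ 3 := by
      by_contra hc
      nlinarith
    have hTo : Odd ((Nat.card M.K : ℤ) * (n ψ + 2)) := h2 ▸ (Int.odd_coe_nat T).mpr hodd
    have := (Int.odd_mul.mp hTo).2
    rw [Int.odd_iff] at this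
    omega
  have hconj : ∀ η : IrrCharacter G, conj (M.sec (η : G → ℂ)) = M.sec (η : G → ℂ) := fun η => by
    rw [hn, map_mul, Complex.conj_natCast, map_intCast]
  have hnorm : ∑ η : IrrCharacter G, n η ^ 2 = 4 := by
    have h1 := M.norm_sec
    simp only [hn, map_mul, Complex.conj_natCast, map_intCast] at h1
    have h2 : (Nat.card M.K : ℂ) ^ 2 * ∑ η : IrrCharacter G, (n η : ℂ) ^ 2 =
        (Nat.card M.K : ℂ) ^ 2 * 4 := by
      rw [Finset.mul_sum]
      calc _ = _ := Finset.sum_congr rfl fun η _ => by ring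
        _ = 4 * (Nat.card M.K : ℂ) ^ 2 := h1
        _ = _ := by ring
    have h3 := mul_left_cancel₀ (pow_ne_zero 2 hK0) h2
    exact_mod_cast h3
  have horth : ∀ g : G, ¬ 4 ∣ orderOf g → ∑ η : IrrCharacter G, (η : G → ℂ) g * (n η : ℂ) = 0 := by
    intro g hg
    have h1 := M.orth g (hnot g hg)
    simp only [hn, map_mul, Complex.conj_natCast, map_intCast] at h1
    refine (mul_eq_zero.mp ?_).resolve_left hK0
    rw [Finset.mul_sum, ← h1]
    exact Finset.sum_congr rfl fun η _ => by ring
  -- the characters are distinct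
  have hdeg1 : charDegree (principal G : G → ℂ) = 1 := by
    rw [← deg_eq_one_iff, principal_apply]
  have hne1 : χ ≠ principal G := fun he => by rw [he, hdeg1] at hχd; omega
  have hne2 : ψ ≠ principal G := fun he => by rw [he, hdeg1] at hψd; omega
  have hne3 : ψ ≠ χ := fun he => by rw [he, hχd] at hψd; omega
  -- one more constituent
  set R : Finset (IrrCharacter G) := Finset.univ \ {principal G, χ, ψ} with hR
  have hsplit : ∀ F : IrrCharacter G → ℤ,
      ∑ η, F η = F (principal G) + F χ + F ψ + ∑ η ∈ R, F η := fun F => by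
    rw [hR, ← Finset.sum_sdiff (Finset.subset_univ {principal G, χ, ψ}),
      Finset.sum_insert (by simp [Ne.symm hne1, Ne.symm hne2]), Finset.sum_pair (Ne.symm hne3)]
    ring
  have hRsum : ∑ η ∈ R, n η ^ 2 = 1 := by
    have h1 := hsplit (fun η => n η ^ 2)
    rw [hnorm, hn1, hnχ] at h1
    rcases hnψ with h2 | h2 <;> rw [h2] at h1 <;> linarith
  obtain ⟨X, hXR, hX0⟩ : ∃ X ∈ R, n X ≠ 0 := by
    by_contra hno
    push Not at hno
    rw [Finset.sum_eq_zero (fun η hη => by rw [hno η hη]; norm_num)] at hRsum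
    exact zero_ne_one hRsum
  have hX2 : n X ^ 2 = 1 ∧ ∀ η ∈ R, η ≠ X → n η = 0 := by
    rw [← Finset.add_sum_erase _ _ hXR] at hRsum
    have h1 : 0 < n X ^ 2 := by positivity
    have h2 : 0 ≤ ∑ η ∈ R.erase X, n η ^ 2 := Finset.sum_nonneg fun η _ => sq_nonneg _
    refine ⟨by omega, fun η hη hne => ?_⟩
    have h3 : ∑ η ∈ R.erase X, n η ^ 2 = 0 := by omega
    have h4 := (Finset.sum_eq_zero_iff_of_nonneg (fun η _ => sq_nonneg (n η))).mp h3 η
      (Finset.mem_erase.mpr ⟨hne, hη⟩)
    exact pow_eq_zero_iff two_ne_zero |>.mp h4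
  have hXne : X ≠ principal G ∧ X ≠ χ ∧ X ≠ ψ := by
    simpa [hR] using hXR
  have hsum4 : ∀ F : IrrCharacter G → ℂ, (∀ η, n η = 0 → F η = 0) →
      ∑ η, F η = F (principal G) + F χ + F ψ + F X := fun F hF => by
    rw [← Finset.sum_subset (Finset.subset_univ {principal G, χ, ψ, X}) fun η _ hη => hF η ?_,
      Finset.sum_insert (by simp [Ne.symm hne1, Ne.symm hne2, Ne.symm hXne.1]),
      Finset.sum_insert (by simp [Ne.symm hne3, Ne.symm hXne.2.1]),
      Finset.sum_pair (Ne.symm hXne.2.2)]
    · ring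
    · simp only [Finset.mem_insert, Finset.mem_singleton, not_or] at hη
      exact hX2.2 η (by simp [hR, hη.1, hη.2.1, hη.2.2.1]) hη.2.2.2
  -- values
  have hχ1 : (χ : G → ℂ) 1 = 2 * (p : ℂ) - 1 := by
    rw [deg_eq, hχd, Nat.cast_sub (by omega)]; push_cast; ring
  have hψ1 : (ψ : G → ℂ) 1 = (p : ℂ) := by rw [deg_eq, hψd]
  have ht2 : ¬ 4 ∣ orderOf t := by rw [D.ord_t]; norm_num
  have hχt : (χ : G → ℂ) t = 1 := hχ2 t (by rw [D.ord_t])
  have hψt : (ψ : G → ℂ) t = 1 := by
    have h1 := hperm t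
    rw [h.fix t D.ord_t, hf0, hχt] at h1
    push_cast at h1
    linear_combination -h1
  have he1 := horth 1 (by rw [orderOf_one]; norm_num)
  rw [hsum4 _ (fun η hη => by rw [hη, Int.cast_zero, mul_zero]), principal_apply, hn1, hnχ,
    hχ1, hψ1] at he1
  have het := horth t ht2
  rw [hsum4 _ (fun η hη => by rw [hη, Int.cast_zero, mul_zero]), principal_apply, hn1, hnχ,
    hχt, hψt] at het
  push_cast at he1 het
  have hnX : n X = -1 := by
    rcases (sq_eq_one_iff.mp hX2.1) with hx | hx
    · exfalso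
      have h1 : ((charDegree (X : G → ℂ) : ℤ) : ℂ) = ((-(p : ℤ) * (2 + n ψ) : ℤ) : ℂ) := by
        push_cast
        rw [← deg_eq]
        rw [hx] at he1
        push_cast at he1
        linear_combination he1
      have h2 : (charDegree (X : G → ℂ) : ℤ) = -(p : ℤ) * (2 + n ψ) := by exact_mod_cast h1
      rcases hnψ with h3 | h3 <;> rw [h3] at h2 <;> linarith [deg_pos X, (show (0 : ℤ) ≤ p from Nat.cast_nonneg p)]
    · exact hx
  rw [hnX] at he1 het
  push_cast at he1 het
  have hX1 : (X : G → ℂ) 1 = (p : ℂ) * (2 + (n ψ : ℂ)) := by linear_combination -he1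
  have hXt : (X : G → ℂ) t = 2 + (n ψ : ℂ) := by linear_combination -het
  -- the count
  have hA := M.pairs_formula hone
  simp only [hn] at hA
  rw [hsum4 _ (fun η hη => by rw [hη, Int.cast_zero, mul_zero, mul_zero, zero_div]), hn1, hnχ, hnX,
    principal_apply, principal_apply, hχt, hψt, hXt, hχ1, hψ1, hX1] at hA
  have hform : (Nat.card G : ℂ) * (2 * ((p : ℂ) - 1)) =
      (p : ℂ) * (2 * (p : ℂ) - 1) * (cC t : ℂ) ^ 2 := by
    have h1 : ((Nat.card G * (2 * (p - 1)) : ℕ) : ℂ) = ((p * (2 * p - 1) * cC t ^ 2 : ℕ) : ℂ) := by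
      rw [h.formula t D.ord_t]
    push_cast [Nat.cast_sub (show 1 ≤ p by omega), Nat.cast_sub (show 1 ≤ 2 * p by omega)] at h1
    exact h1
  have hp0 : (p : ℂ) ≠ 0 := Nat.cast_ne_zero.mpr (by omega)
  have hp21 : 2 * (p : ℂ) - 1 ≠ 0 := by rw [← hχ1]; exact deg_ne_zero χ
  have hC0 : (cC t : ℂ) ≠ 0 := Nat.cast_ne_zero.mpr Nat.card_pos.ne'
  generalize hAdef : Nat.card {q : M.K × G // orderOf q.2 = 2 ∧
    orderOf (q.2 * (w * (q.1 : G))) = 2} = A at hA
  have hAval : (A : ℂ) = (Nat.card M.K : ℂ) * ((p : ℂ) - 1) := by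
    apply mul_left_cancel₀ (pow_ne_zero 2 hC0)
    generalize (Nat.card G : ℂ) = g at hform hA
    rw [hA]
    rcases hnψ with h3 | h3 <;> rw [h3] <;> push_cast <;> norm_num <;> field_simp
    · linear_combination (3 * ((p : ℂ) - 1)) * hform
    · linear_combination ((p : ℂ) - 1) * hform
  have hAnat : A = Nat.card M.K * (p - 1) := by
    have : (A : ℂ) = ((Nat.card M.K * (p - 1) : ℕ) : ℂ) := by
      rw [hAval, Nat.cast_mul, Nat.cast_sub (by omega), Nat.cast_one]
    exact_mod_cast this
  have hid := M.count_identity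
  rw [hAdef, hAnat] at hid
  refine Nat.eq_of_mul_eq_mul_left (Nat.card_pos (α := M.K)) ?_
  calc Nat.card M.K * (8 * cC t) = 8 * Nat.card M.K * cC t := by ring
    _ = _ := hid.symm
    _ = _ := by ring

end CfsgLib.DegreeThreeP
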