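import Cfsg.Agent.Lib.DegreeThreeP.Defs
import Cfsg.Agent.Lib.Geometry.OutShapes
import Cfsg.Agent.S0514

/-!
# The centralizer of an involution with a dihedral Sylow subgroup of order eight

The retraction onto the dihedral group, the classes of involutions and the pairs of involutions
whose product lies in the section of an element of order four.
-/

set_option autoImplicit false
set_option linter.unusedSectionVars false
set_option linter.style.haveILetI false

namespace CfsgLib.DegreeThreeP.Pairs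

universe u

variable {G : Type u} [Group G] [Finite G] {t v s : G}

/-- The dihedral group of order eight. -/
abbrev D4 : Type := DihedralGroup 4

/-- The involutions over the first class. -/
def A0 (d : D4) : Prop := d = .sr 0 ∨ d = .sr 2

/-- The involutions over the second class. -/
def A1 (d : D4) : Prop := d = .sr 1 ∨ d = .sr 3

/-- The elements of order four. -/
def Rot (d : D4) : Prop := d = .r 1 ∨ d = .r 3

theorem d4_pow_four : ∀ d : D4, d ^ 4 = 1 := by decide

theorem d4_rot : ∀ d : D4, Rot d → ∃ g : D4, d = g * .r 1 * g⁻¹ := by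
  unfold Rot; decide

theorem d4_conj_rot : ∀ g : D4, Rot (g * .r 1 * g⁻¹) := by
  unfold Rot; decide

theorem d4_invol : ∀ d : D4, d * d = 1 → d = 1 ∨ d = .r 2 ∨ A0 d ∨ A1 d := by
  unfold A0 A1; decide

theorem d4_A0 : ∀ d : D4, A0 d → ∃ g : D4, d = g * .sr 0 * g⁻¹ := by
  unfold A0; decide

theorem d4_A1 : ∀ d : D4, A1 d → ∃ g : D4, d = g * .sr 3 * g⁻¹ := by
  unfold A1; decide

theorem d4_conj_A0 : ∀ g : D4, A0 (g * .sr 0 * g⁻¹) := by
  unfold A0; decide

theorem d4_conj_A1 : ∀ g : D4, A1 (g * .sr 3 * g⁻¹) := by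
  unfold A1; decide

theorem d4_disjoint : ∀ d : D4, A0 d → ¬ A1 d := by
  unfold A0 A1; decide

theorem d4_prod : ∀ d d' : D4, d * d = 1 → d' * d' = 1 →
    (Rot (d * d') ↔ (A0 d ∧ A1 d') ∨ (A1 d ∧ A0 d')) := by
  unfold Rot A0 A1; decide

theorem d4_commute : ∀ d : D4, d * .r 1 = .r 1 * d → ∃ j : Fin 4, d = (.r 1) ^ (j : ℕ) := by
  decide

theorem d4_pow_inj : ∀ i j : Fin 4, ((.r 1 : D4)) ^ (i : ℕ) = (.r 1) ^ (j : ℕ) → i = j := by
  decide

theorem d4_central : ∀ d : D4, d * .r 2 = .r 2 * d := by decide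

/-- An element is conjugate to its product with an element of odd order that it inverts. -/
theorem isConj_mul_of_inverted {H : Type u} [Group H] {a n : H} {o : ℕ} (ho : Odd o)
    (hn : n ^ o = 1) (hinv : a * n * a⁻¹ = n⁻¹) : IsConj a (a * n) := by
  obtain ⟨k, rfl⟩ := ho
  set m := n ^ (k + 1) with hm
  have hmm : m * m = n := by
    rw [hm, ← pow_add, show k + 1 + (k + 1) = 2 * k + 1 + 1 by ring, pow_succ, hn, one_mul]
  have ham : a * m * a⁻¹ = m⁻¹ := by rw [hm, ← conj_pow, hinv, inv_pow]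
  refine isConj_iff.mpr ⟨m⁻¹, ?_⟩
  have h2 : m⁻¹ * a = a * m := by rw [← ham]; group
  rw [inv_inv, h2, mul_assoc, hmm]

theorem orderOf_conj (g x : G) : orderOf (g * x * g⁻¹) = orderOf x :=
  orderOf_injective (MulAut.conj g).toMonoidHom (MulAut.conj g).injective x

theorem card_conj_eq {a b : G} (h : IsConj a b) :
    Nat.card {g : G // g * a * g⁻¹ = b} =
      Nat.card (Subgroup.centralizer ({a} : Set G)) := by
  obtain ⟨c, hc⟩ := isConj_iff.mp h
  refine Nat.card_congr ((Equiv.mulLeft c⁻¹).subtypeEquiv fun g => ?_)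
  show g * a * g⁻¹ = b ↔ c⁻¹ * g ∈ Subgroup.centralizer {a}
  rw [Subgroup.mem_centralizer_singleton_iff, ← hc, eq_comm (a := c⁻¹ * g * a),
    mul_inv_eq_iff_eq_mul]
  constructor
  · intro h1
    rw [mul_assoc c⁻¹ g a, h1]; group
  · intro h1
    rw [show g * a = c * (c⁻¹ * g * a) by group, ← h1]; group

/-- The centralizer of the central involution of a dihedral Sylow subgroup of order eight. -/
structure Model (G : Type u) [Group G] (t v s : G) where
  σ : D4 →* Subgroup.centralizer ({t} : Set G)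
  ρ : Subgroup.centralizer ({t} : Set G) →* D4
  retract : ∀ d, ρ (σ d) = d
  σ_one : (σ (.r 1) : G) = v
  σ_sr : (σ (.sr 0) : G) = s
  sq : v ^ 2 = t
  odd : Odd (Nat.card ρ.ker)

/-- The model exists. -/
theorem nonempty_model {P : Sylow 2 G} (hP : Nat.card (P : Subgroup G) = 8)
    (hv : v ∈ (P : Subgroup G)) (hs : s ∈ (P : Subgroup G)) (ht : orderOf t = 2)
    (hvo : orderOf v = 4) (hso : orderOf s = 2) (hsq : v ^ 2 = t) (hrel : s * v * s⁻¹ = v⁻¹)
    (hgen : Subgroup.closure ({v, s} : Set G) = (P : Subgroup G)) : Nonempty (Model G t v s) := by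
  classical
  have hss : s * s = 1 := by rw [← pow_two, ← hso, pow_orderOf_eq_one]
  have hsinv : s⁻¹ = s := inv_eq_of_mul_eq_one_left hss
  have hv4 : v ^ 4 = 1 := by rw [← hvo, pow_orderOf_eq_one]
  have hrel' : s * v * s = v⁻¹ := by rw [← hrel, hsinv]
  let f : D4 →* G := CfsgLib.Geometry.dihedralGen 4 v s hv4 hss hrel'
  have hfr : ∀ j : ℕ, f (.r (j : ZMod 4)) = v ^ j := fun j =>
    CfsgLib.Geometry.zmodGen_natCast 4 v hv4 j
  have hfs : ∀ j : ℕ, f (.sr (j : ZMod 4)) = s * v ^ j := fun j => by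
    show s * _ = _
    rw [CfsgLib.Geometry.zmodGen_natCast]
  have hfr1 : f (.r 1) = v := by simpa using hfr 1
  have hfs0 : f (.sr 0) = s := by simpa using hfs 0
  have hinj : Function.Injective f := by
    refine (injective_iff_map_eq_one f).2 ?_
    rintro (i | i) hi
    · rw [← ZMod.natCast_zmod_val i, hfr] at hi
      have h1 := orderOf_dvd_of_pow_eq_one hi
      rw [hvo] at h1
      have h2 := ZMod.val_lt i
      have h3 : i.val = 0 := Nat.eq_zero_of_dvd_of_lt h1 h2
      rw [(ZMod.val_eq_zero i).mp h3]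
      rfl
    · exfalso
      rw [← ZMod.natCast_zmod_val i, hfs] at hi
      have hseq : s = (v ^ i.val)⁻¹ := eq_inv_of_mul_eq_one_left hi
      have hcomm : s * v * s⁻¹ = v := by
        rw [hseq]; group
      rw [hrel] at hcomm
      have h2 : v ^ 2 = 1 := by
        rw [pow_two]
        nth_rewrite 1 [← hcomm]
        exact inv_mul_cancel v
      have h3 := orderOf_dvd_of_pow_eq_one h2
      rw [hvo] at h3
      omega
  have hrange : f.range = (P : Subgroup G) := by
    refine le_antisymm ?_ ?_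
    · rintro _ ⟨d, rfl⟩
      rcases d with i | i
      · rw [← ZMod.natCast_zmod_val i, hfr]; exact pow_mem hv _
      · rw [← ZMod.natCast_zmod_val i, hfs]; exact mul_mem hs (pow_mem hv _)
    · rw [← hgen, Subgroup.closure_le]
      rintro x (rfl | rfl)
      · exact ⟨_, hfr1⟩
      · exact ⟨_, hfs0⟩
  have hPeq : Nonempty ((P : Subgroup G) ≃* DihedralGroup 4) :=
    ⟨((MonoidHom.ofInjective hinj).trans (MulEquiv.subgroupCongr hrange)).symm⟩
  have hcom : ∀ d : D4, f d ∈ Subgroup.centralizer ({t} : Set G) := fun d => by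
    have ht2 : f (.r 2) = t := by
      have := hfr 2
      rw [hsq] at this
      simpa using this
    rw [Subgroup.mem_centralizer_singleton_iff, ← ht2, ← map_mul, ← map_mul, d4_central d]
  let σ : D4 →* Subgroup.centralizer ({t} : Set G) := f.codRestrict _ hcom
  obtain ⟨N, hN, hodd, k, hk⟩ := Cfsg.Agent.S0514.result P 4 (by norm_num) hPeq t ht
  haveI := hN
  set π := QuotientGroup.mk' N with hπ
  have hinj' : Function.Injective (π.comp σ) := by
    refine (injective_iff_map_eq_one _).2 fun d hd => ?_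
    have hmem : σ d ∈ N := (QuotientGroup.eq_one_iff _).mp hd
    have h1 : (σ d) ^ 4 = 1 := by rw [← map_pow, d4_pow_four, map_one]
    have h2 : (σ d) ^ Nat.card N = 1 := by
      have := congrArg Subtype.val (pow_card_eq_one' (x := (⟨σ d, hmem⟩ : N)))
      rwa [SubgroupClass.coe_pow] at this
    have h3 : Nat.Coprime 4 (Nat.card N) := by
      have : Nat.Coprime (2 ^ 2) (Nat.card N) :=
        Nat.Coprime.pow_left _ (Nat.coprime_two_left.mpr hodd)
      simpa using this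
    have h4 := pow_gcd_eq_one.mpr ⟨h1, h2⟩
    rw [h3.gcd_eq_one, pow_one] at h4
    exact hinj ((congrArg Subtype.val h4).trans (map_one f).symm)
  have hle : Nat.card (Subgroup.centralizer ({t} : Set G) ⧸ N) ≤ 8 := by
    rw [← Subgroup.index_eq_card, hk]
    have h1 : 2 ^ k ∣ Nat.card G := by
      rw [← hk]
      exact (Subgroup.index_dvd_card N).trans (Subgroup.card_subgroup_dvd_card _)
    have h2 := P.card_eq_multiplicity
    rw [hP] at h2
    have h3 := (Nat.prime_two.pow_dvd_iff_dvd_ordProj Nat.card_pos.ne').mp h1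
    rw [← h2] at h3
    exact Nat.le_of_dvd (by norm_num) h3
  have hcard : Nat.card D4 = Nat.card (Subgroup.centralizer ({t} : Set G) ⧸ N) := by
    refine le_antisymm (Nat.card_le_card_of_injective _ hinj') ?_
    rw [DihedralGroup.nat_card]
    exact hle
  let e := MulEquiv.ofBijective (π.comp σ) ((Nat.bijective_iff_injective_and_card _).2 ⟨hinj', hcard⟩)
  have hker : (e.symm.toMonoidHom.comp π).ker = N := by
    ext x
    rw [MonoidHom.mem_ker, MonoidHom.comp_apply, MulEquiv.coe_toMonoidHom, map_eq_one_iff _ e.symm.injective,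
      hπ, QuotientGroup.mk'_apply, QuotientGroup.eq_one_iff]
  exact ⟨{ σ := σ
           ρ := e.symm.toMonoidHom.comp π
           retract := fun d => e.symm_apply_apply d
           σ_one := hfr1
           σ_sr := hfs0
           sq := hsq
           odd := by rw [hker]; exact hodd }⟩

namespace Model

variable (M : Model G t v s)

/-- The exponent extracting the part of order four. -/
noncomputable def e : ℕ := Nat.card M.ρ.ker * Nat.card M.ρ.ker

theorem e_mod : M.e % 4 = 1 := by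
  obtain ⟨k, hk⟩ := M.odd
  rw [e, hk, Nat.mul_mod]
  have h : (2 * k + 1) % 4 = 1 ∨ (2 * k + 1) % 4 = 3 := by omega
  rcases h with h | h <;> rw [h]

theorem pow_card_ker {x : Subgroup.centralizer ({t} : Set G)} (hx : M.ρ x = 1) :
    x ^ Nat.card M.ρ.ker = 1 := by
  simpa using congrArg Subtype.val
    (pow_card_eq_one' (x := (⟨x, MonoidHom.mem_ker.mpr hx⟩ : M.ρ.ker)))

theorem pow_e_four (x : Subgroup.centralizer ({t} : Set G)) : (x ^ M.e) ^ 4 = 1 := by
  have h := M.pow_card_ker (x := x ^ 4) (by rw [map_pow, d4_pow_four])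
  rw [← pow_mul, show M.e * 4 = 4 * Nat.card M.ρ.ker * Nat.card M.ρ.ker by rw [e]; ring,
    pow_mul, pow_mul x 4, h, one_pow]

theorem rho_pow_e (x : Subgroup.centralizer ({t} : Set G)) : M.ρ (x ^ M.e) = M.ρ x := by
  rw [map_pow, pow_eq_pow_mod M.e (d4_pow_four (M.ρ x)), M.e_mod, pow_one]

theorem sigma_two : (M.σ (.r 2) : G) = t := by
  rw [show (DihedralGroup.r 2 : D4) = .r 1 ^ 2 by decide, map_pow, SubgroupClass.coe_pow, M.σ_one,
    M.sq]

theorem sigma_three : (M.σ (.sr 3) : G) = v * s := by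
  rw [show (DihedralGroup.sr 3 : D4) = .r 1 * .sr 0 by decide, map_mul, Subgroup.coe_mul, M.σ_one,
    M.σ_sr]

theorem eq_sigma_two {x : Subgroup.centralizer ({t} : Set G)} (h : IsConj (M.σ (.r 2)) x) :
    x = M.σ (.r 2) := by
  obtain ⟨c, hc⟩ := isConj_iff.mp h
  rw [← hc, mul_inv_eq_iff_eq_mul]
  apply Subtype.ext
  rw [Subgroup.coe_mul, Subgroup.coe_mul, M.sigma_two]
  exact Subgroup.mem_centralizer_singleton_iff.mp c.2

theorem isConj_of_image {x y : Subgroup.centralizer ({t} : Set G)} (hρ : M.ρ x = M.ρ y)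
    (h2 : x * x = y * y) : IsConj y x := by
  have hn : M.ρ (y⁻¹ * x) = 1 := by rw [map_mul, map_inv, hρ, inv_mul_cancel]
  have hinv : y * (y⁻¹ * x) * y⁻¹ = (y⁻¹ * x)⁻¹ := by
    rw [eq_inv_iff_mul_eq_one,
      show y * (y⁻¹ * x) * y⁻¹ * (y⁻¹ * x) = x * (y * y)⁻¹ * x by group, ← h2]
    group
  simpa using isConj_mul_of_inverted M.odd (M.pow_card_ker hn) hinv

theorem isConj_sigma_conj (g d : D4) : IsConj (M.σ d) (M.σ (g * d * g⁻¹)) :=
  isConj_iff.mpr ⟨M.σ g, by rw [map_mul, map_mul, map_inv]⟩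

theorem rho_conj {a x : Subgroup.centralizer ({t} : Set G)} (h : IsConj a x) :
    ∃ g : D4, M.ρ x = g * M.ρ a * g⁻¹ := by
  obtain ⟨c, hc⟩ := isConj_iff.mp h
  exact ⟨M.ρ c, by rw [← hc, map_mul, map_mul, map_inv]⟩

theorem sq_of_invol {i : Subgroup.centralizer ({t} : Set G)} (hi : orderOf i = 2) :
    i * i = 1 := by
  rw [← pow_two, ← hi, pow_orderOf_eq_one]

theorem orderOf_sigma_sr (j : ZMod 4) : orderOf (M.σ (.sr j)) = 2 := by
  rw [orderOf_injective M.σ (fun a b h => by rw [← M.retract a, h, M.retract])]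
  exact DihedralGroup.orderOf_sr j

theorem invol_A0 (i : Subgroup.centralizer ({t} : Set G)) :
    IsConj (M.σ (.sr 0)) i ↔ orderOf i = 2 ∧ A0 (M.ρ i) := by
  constructor
  · intro h
    obtain ⟨g, hg⟩ := M.rho_conj h
    rw [M.retract] at hg
    refine ⟨?_, hg ▸ d4_conj_A0 g⟩
    obtain ⟨c, rfl⟩ := isConj_iff.mp h
    rw [orderOf_conj, M.orderOf_sigma_sr]
  · rintro ⟨hi, hA⟩
    obtain ⟨g, hg⟩ := d4_A0 _ hA
    have hd : M.ρ i * M.ρ i = 1 := by rw [← map_mul, sq_of_invol hi, map_one]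
    refine (M.isConj_sigma_conj g _).trans (M.isConj_of_image ?_ ?_)
    · rw [M.retract, hg]
    · rw [sq_of_invol hi, ← map_mul, ← hg, hd, map_one]

theorem invol_A1 (i : Subgroup.centralizer ({t} : Set G)) :
    IsConj (M.σ (.sr 3)) i ↔ orderOf i = 2 ∧ A1 (M.ρ i) := by
  constructor
  · intro h
    obtain ⟨g, hg⟩ := M.rho_conj h
    rw [M.retract] at hg
    refine ⟨?_, hg ▸ d4_conj_A1 g⟩
    obtain ⟨c, rfl⟩ := isConj_iff.mp h
    rw [orderOf_conj, M.orderOf_sigma_sr]
  · rintro ⟨hi, hA⟩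
    obtain ⟨g, hg⟩ := d4_A1 _ hA
    have hd : M.ρ i * M.ρ i = 1 := by rw [← map_mul, sq_of_invol hi, map_one]
    refine (M.isConj_sigma_conj g _).trans (M.isConj_of_image ?_ ?_)
    · rw [M.retract, hg]
    · rw [sq_of_invol hi, ← map_mul, ← hg, hd, map_one]

/-- The odd part of the centralizer of the element of order four. -/
noncomputable def K : Subgroup G :=
  (M.ρ.ker.map (Subgroup.centralizer ({t} : Set G)).subtype) ⊓ Subgroup.centralizer ({v} : Set G)

theorem mem_K {x : G} : x ∈ M.K ↔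
    ∃ hx : x ∈ Subgroup.centralizer ({t} : Set G), M.ρ ⟨x, hx⟩ = 1 ∧ x * v = v * x := by
  rw [K, Subgroup.mem_inf, Subgroup.mem_centralizer_singleton_iff]
  constructor
  · rintro ⟨⟨y, hy, rfl⟩, h2⟩
    exact ⟨y.2, hy, h2⟩
  · rintro ⟨hx, h1, h2⟩
    exact ⟨⟨⟨x, hx⟩, h1, rfl⟩, h2⟩

theorem odd_K : Odd (Nat.card M.K) := by
  refine M.odd.of_dvd_nat ((Subgroup.card_dvd_of_le (inf_le_left :
    M.K ≤ M.ρ.ker.map (Subgroup.centralizer ({t} : Set G)).subtype)).trans (dvd_of_eq ?_))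
  exact Subgroup.card_map_of_injective (Subgroup.subtype_injective _)

theorem K_comm (z : M.K) : Commute v (z : G) := (M.mem_K.mp z.2).2.2.symm

theorem K_le : M.K ≤ Subgroup.centralizer ({t} : Set G) := fun _ hx => (M.mem_K.mp hx).1

include M in
theorem v_mem : v ∈ Subgroup.centralizer ({t} : Set G) := M.σ_one ▸ (M.σ (.r 1)).2

theorem pow_e_K (z : M.K) : (z : G) ^ M.e = 1 := by
  obtain ⟨hx, h1, -⟩ := M.mem_K.mp z.2
  have := congrArg Subtype.val (M.pow_card_ker h1)
  rw [SubgroupClass.coe_pow, Subgroup.coe_one] at this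
  rw [e, pow_mul, this, one_pow]

theorem v_pow_e : v ^ M.e = v := by
  have h : (M.σ (.r 1)) ^ M.e = M.σ (.r 1) := by
    rw [← map_pow, pow_eq_pow_mod M.e (d4_pow_four _), M.e_mod, pow_one]
  simpa [M.σ_one] using congrArg Subtype.val h

theorem mul_pow_e (z : M.K) : (v * (z : G)) ^ M.e = v := by
  rw [(M.K_comm z).mul_pow, M.pow_e_K, M.v_pow_e, mul_one]

/-- The product `v z` inside the centralizer. -/
noncomputable def vz (z : M.K) : Subgroup.centralizer ({t} : Set G) :=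
  M.σ (.r 1) * ⟨z, M.K_le z.2⟩

theorem coe_vz (z : M.K) : (M.vz z : G) = v * (z : G) := by
  rw [vz, Subgroup.coe_mul, M.σ_one]

theorem rho_vz (z : M.K) : M.ρ (M.vz z) = .r 1 := by
  obtain ⟨hx, h1, -⟩ := M.mem_K.mp z.2
  rw [vz, map_mul, M.retract, h1, mul_one]

/-- Every element over a rotation of order four is conjugate into `v K`. -/
theorem exists_form {x : Subgroup.centralizer ({t} : Set G)} (hx : Rot (M.ρ x)) :
    ∃ (g : Subgroup.centralizer ({t} : Set G)) (z : M.K), x = g * M.vz z * g⁻¹ := by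
  obtain ⟨d, hd⟩ := d4_rot _ hx
  set x' := (M.σ d)⁻¹ * x * M.σ d with hx'
  have hρ' : M.ρ x' = .r 1 := by
    rw [hx', map_mul, map_mul, map_inv, M.retract, hd]; group
  set y := x' ^ M.e with hy
  have hρy : M.ρ y = .r 1 := by rw [hy, M.rho_pow_e, hρ']
  have hy4 : y ^ 4 = 1 := M.pow_e_four x'
  have hsq : y * y = M.σ (.r 1) * M.σ (.r 1) := by
    have h1 : M.σ (.r 1) * M.σ (.r 1) = M.σ (.r 2) := by
      rw [← map_mul]; congr 1
    rw [h1]
    refine M.eq_sigma_two (M.isConj_of_image ?_ ?_)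
    · rw [map_mul, hρy, M.retract]; decide
    · rw [← map_mul, show (DihedralGroup.r 2 * .r 2 : D4) = 1 by decide, map_one,
        show y * y * (y * y) = y ^ 4 by simp only [pow_succ, pow_zero, one_mul, mul_assoc], hy4]
  obtain ⟨h, hh⟩ := isConj_iff.mp (M.isConj_of_image (by rw [hρy, M.retract]) hsq)
  set z := h⁻¹ * (y⁻¹ * x') * h with hz
  have hρz : M.ρ z = 1 := by
    rw [hz, map_mul, map_mul, map_mul, map_inv, map_inv, hρy, hρ']; group
  have hcz : Commute (M.σ (.r 1)) z := by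
    have h1 : Commute y (y⁻¹ * x') :=
      ((Commute.refl y).inv_right).mul_right ((Commute.refl x').pow_left _)
    have h2 : Commute (h⁻¹ * y * h) (h⁻¹ * (y⁻¹ * x') * h) := by
      have := h1.map (MulAut.conj h⁻¹).toMonoidHom
      simpa using this
    rwa [show h⁻¹ * y * h = M.σ (.r 1) by rw [← hh]; group] at h2
  clear_value z
  have hzK : (z : G) ∈ M.K := by
    refine M.mem_K.mpr ⟨z.2, hρz, ?_⟩
    have := congrArg Subtype.val hcz.eq
    rw [Subgroup.coe_mul, Subgroup.coe_mul, M.σ_one] at this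
    exact this.symm
  refine ⟨M.σ d * h, ⟨z, hzK⟩, ?_⟩
  have hvz : M.vz ⟨(z : G), hzK⟩ = M.σ (.r 1) * z := rfl
  rw [hvz, hz, show M.σ (.r 1) = h⁻¹ * y * h by rw [← hh]; group, hx']
  group

/-- The elements of the centralizer of `v`. -/
theorem mem_centralizer_v (j : ℕ) (z : M.K) :
    v ^ j * (z : G) ∈ Subgroup.centralizer ({v} : Set G) :=
  mul_mem (pow_mem (Subgroup.mem_centralizer_singleton_iff.mpr rfl) _) z.2.2

theorem exists_decomp {x : G} (hx : x ∈ Subgroup.centralizer ({v} : Set G)) :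
    ∃ (j : Fin 4) (z : M.K), x = v ^ (j : ℕ) * (z : G) := by
  rw [Subgroup.mem_centralizer_singleton_iff] at hx
  have hxt : x ∈ Subgroup.centralizer ({t} : Set G) := by
    rw [Subgroup.mem_centralizer_singleton_iff, ← M.sq]
    exact ((show Commute x v from hx).pow_right 2).eq
  have hc : (⟨x, hxt⟩ : Subgroup.centralizer ({t} : Set G)) * M.σ (.r 1) =
      M.σ (.r 1) * ⟨x, hxt⟩ := Subtype.ext (by
    rw [Subgroup.coe_mul, Subgroup.coe_mul, M.σ_one]; exact hx)
  have hρ := congrArg M.ρ hc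
  rw [map_mul, map_mul, M.retract] at hρ
  obtain ⟨j, hj⟩ := d4_commute _ hρ
  have hvj : (M.σ (.r 1) ^ (j : ℕ) : Subgroup.centralizer ({t} : Set G)).1 = v ^ (j : ℕ) := by
    rw [SubgroupClass.coe_pow, M.σ_one]
  have hmem : (v ^ (j : ℕ))⁻¹ * x ∈ M.K := by
    refine M.mem_K.mpr ⟨mul_mem (inv_mem (pow_mem M.v_mem _)) hxt, ?_, ?_⟩
    · rw [show (⟨(v ^ (j : ℕ))⁻¹ * x, _⟩ : Subgroup.centralizer ({t} : Set G)) =
          (M.σ (.r 1) ^ (j : ℕ))⁻¹ * ⟨x, hxt⟩ from Subtype.ext (by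
            rw [Subgroup.coe_mul, Subgroup.coe_inv, hvj]),
        map_mul, map_inv, map_pow, M.retract, hj, inv_mul_cancel]
    · exact ((((Commute.refl v).pow_left _).inv_left).mul_left (show Commute x v from hx)).eq
  exact ⟨j, ⟨_, hmem⟩, (mul_inv_cancel_left _ _).symm⟩

theorem decomp_inj {i j : Fin 4} {z z' : M.K} (h : v ^ (i : ℕ) * (z : G) = v ^ (j : ℕ) * (z' : G)) :
    i = j ∧ z = z' := by
  obtain ⟨hz, h1, -⟩ := M.mem_K.mp z.2
  obtain ⟨hz', h1', -⟩ := M.mem_K.mp z'.2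
  have h2 : M.σ (.r 1) ^ (i : ℕ) * (⟨z, hz⟩ : Subgroup.centralizer ({t} : Set G)) =
      M.σ (.r 1) ^ (j : ℕ) * ⟨z', hz'⟩ := Subtype.ext (by
    rw [Subgroup.coe_mul, Subgroup.coe_mul, SubgroupClass.coe_pow, SubgroupClass.coe_pow, M.σ_one]
    exact h)
  have h3 := congrArg M.ρ h2
  rw [map_mul, map_mul, map_pow, map_pow, M.retract, h1, h1', mul_one, mul_one] at h3
  have hij := d4_pow_inj _ _ h3
  refine ⟨hij, Subtype.ext ?_⟩
  rw [hij] at h
  exact mul_left_cancel h

theorem card_centralizer_v :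
    Nat.card (Subgroup.centralizer ({v} : Set G)) = 4 * Nat.card M.K := by
  rw [← Nat.card_congr (Equiv.ofBijective
    (fun q : Fin 4 × M.K => (⟨_, M.mem_centralizer_v q.1 q.2⟩ :
      Subgroup.centralizer ({v} : Set G))) ⟨?_, ?_⟩), Nat.card_prod, Nat.card_fin]
  · rintro ⟨i, z⟩ ⟨j, z'⟩ h
    obtain ⟨rfl, rfl⟩ := M.decomp_inj (congrArg Subtype.val h)
    rfl
  · rintro ⟨x, hx⟩
    obtain ⟨j, z, h⟩ := M.exists_decomp hx
    exact ⟨(j, z), Subtype.ext h.symm⟩

theorem conj_K_mem {g : G} (hg : g ∈ Subgroup.centralizer ({t} : Set G))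
    (hv : g * v * g⁻¹ = v ∨ g * v * g⁻¹ = v⁻¹) (z : M.K) : g * (z : G) * g⁻¹ ∈ M.K := by
  obtain ⟨hz, h1, h2⟩ := M.mem_K.mp z.2
  refine M.mem_K.mpr ⟨mul_mem (mul_mem hg hz) (inv_mem hg), ?_, ?_⟩
  · rw [show (⟨g * (z : G) * g⁻¹, _⟩ : Subgroup.centralizer ({t} : Set G)) =
        ⟨g, hg⟩ * ⟨z, hz⟩ * ⟨g, hg⟩⁻¹ from rfl, map_mul, map_mul, h1, map_inv, mul_one,
      mul_inv_cancel]
  · have h3 : Commute (g * (z : G) * g⁻¹) (g * v * g⁻¹) := by
      have := (show Commute (z : G) v from h2).map (MulAut.conj g).toMonoidHom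
      simpa using this
    rcases hv with hv | hv <;> rw [hv] at h3
    · exact h3.eq
    · exact (Commute.inv_right_iff.mp h3).eq

/-- An element conjugating `v K` into itself centralizes `v`. -/
theorem commute_of_conj {h : G} {z z' : M.K} (heq : h * (v * (z : G)) * h⁻¹ = v * (z' : G)) :
    h * v * h⁻¹ = v := by
  have := congrArg (fun x => x ^ M.e) heq
  simpa only [conj_pow, M.mul_pow_e] using this

/-- An involution whose product with an element of `v K` is an involution commutes with `t`. -/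
theorem invol_mem {i : G} {z : M.K} (hi : orderOf i = 2) (hix : orderOf (i * (v * (z : G))) = 2) :
    i ∈ Subgroup.centralizer ({t} : Set G) := by
  have hii : i * i = 1 := by rw [← pow_two, ← hi, pow_orderOf_eq_one]
  have hinv : i⁻¹ = i := inv_eq_of_mul_eq_one_left hii
  have hxx : i * (v * (z : G)) * (i * (v * (z : G))) = 1 := by
    rw [← pow_two, ← hix, pow_orderOf_eq_one]
  have h1 : i * (v * (z : G)) * i⁻¹ = (v * (z : G))⁻¹ := by
    rw [hinv, eq_inv_iff_mul_eq_one, mul_assoc]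
    exact hxx
  have h2 := congrArg (fun x => x ^ M.e) h1
  simp only [conj_pow, inv_pow, M.mul_pow_e] at h2
  have h3 : i * v ^ 2 * i⁻¹ = (v ^ 2)⁻¹ := by rw [← conj_pow, h2, inv_pow]
  have ht : t⁻¹ = t := by
    refine inv_eq_of_mul_eq_one_left ?_
    rw [← M.sigma_two, ← Subgroup.coe_mul, ← map_mul,
      show (DihedralGroup.r 2 * .r 2 : D4) = 1 by decide, map_one, Subgroup.coe_one]
  rw [M.sq, ht, mul_inv_eq_iff_eq_mul] at h3
  rwa [Subgroup.mem_centralizer_singleton_iff]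

/-- The triples counted in two ways. -/
def Triples : Type u :=
  {q : Subgroup.centralizer ({t} : Set G) × M.K × Subgroup.centralizer ({t} : Set G) //
    orderOf q.2.2 = 2 ∧ orderOf (q.2.2 * (q.1 * M.vz q.2.1 * q.1⁻¹)) = 2}

theorem card_triples_left :
    Nat.card M.Triples = Nat.card (Subgroup.centralizer ({t} : Set G)) *
      Nat.card {q : M.K × G // orderOf q.2 = 2 ∧ orderOf (q.2 * (v * (q.1 : G))) = 2} := by
  have hC : ∀ a : Subgroup.centralizer ({t} : Set G), orderOf (a : G) = orderOf a := fun a =>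
    orderOf_injective (Subgroup.centralizer ({t} : Set G)).subtype Subtype.val_injective a
  rw [← Nat.card_prod]
  refine Nat.card_congr
    { toFun := fun q => (q.1.1, ⟨(q.1.2.1, ((q.1.1⁻¹ * q.1.2.2 * q.1.1 :
        Subgroup.centralizer ({t} : Set G)) : G)), ?_, ?_⟩)
      invFun := fun q => ⟨(q.1, q.2.1.1,
        q.1 * ⟨q.2.1.2, M.invol_mem q.2.2.1 q.2.2.2⟩ * q.1⁻¹), ?_, ?_⟩
      left_inv := ?_
      right_inv := ?_ }
  · obtain ⟨⟨g, z, i⟩, h1, -⟩ := q
    show orderOf ((g⁻¹ * i * g : Subgroup.centralizer ({t} : Set G)) : G) = 2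
    rw [hC, show g⁻¹ * i * g = g⁻¹ * i * g⁻¹⁻¹ by rw [inv_inv], orderOf_conj, h1]
  · obtain ⟨⟨g, z, i⟩, -, h2⟩ := q
    show orderOf (((g⁻¹ * i * g : Subgroup.centralizer ({t} : Set G)) : G) * (v * (z : G))) = 2
    rw [← M.coe_vz, ← Subgroup.coe_mul, hC,
      show g⁻¹ * i * g * M.vz z = g⁻¹ * (i * (g * M.vz z * g⁻¹)) * g⁻¹⁻¹ by group,
      orderOf_conj, h2]
  · obtain ⟨g, ⟨z, i⟩, h1, h2⟩ := q
    show orderOf (g * ⟨i, _⟩ * g⁻¹) = 2
    rw [orderOf_conj, ← hC]; exact h1
  · obtain ⟨g, ⟨z, i⟩, h1, h2⟩ := q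
    show orderOf (g * ⟨i, _⟩ * g⁻¹ * (g * M.vz z * g⁻¹)) = 2
    rw [show g * (⟨i, M.invol_mem h1 h2⟩ : Subgroup.centralizer ({t} : Set G)) * g⁻¹ *
        (g * M.vz z * g⁻¹) = g * (⟨i, M.invol_mem h1 h2⟩ * M.vz z) * g⁻¹ by group,
      orderOf_conj, ← hC, Subgroup.coe_mul, M.coe_vz]
    exact h2
  · rintro ⟨⟨g, z, i⟩, h⟩
    refine Subtype.ext (Prod.ext rfl (Prod.ext rfl (Subtype.ext ?_)))
    simp [mul_assoc]
  · rintro ⟨g, ⟨⟨z, i⟩, h⟩⟩
    refine Prod.ext rfl (Subtype.ext (Prod.ext rfl ?_))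
    simp [mul_assoc]

/-- The pairs of involutions over the two classes. -/
def PairSet : Set (Subgroup.centralizer ({t} : Set G) × Subgroup.centralizer ({t} : Set G)) :=
  {q | orderOf q.1 = 2 ∧ orderOf q.2 = 2 ∧ Rot (M.ρ q.1 * M.ρ q.2)}

theorem card_triples_right :
    Nat.card M.Triples = Nat.card M.PairSet * Nat.card (Subgroup.centralizer ({v} : Set G)) := by
  classical
  have hf : ∀ q : M.PairSet, ∃ (g : Subgroup.centralizer ({t} : Set G)) (z : M.K),
      q.1.1 * q.1.2 = g * M.vz z * g⁻¹ := fun q => M.exists_form (by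
        rw [map_mul]; exact q.2.2.2)
  choose g₀ z₀ hgz using hf
  have hcv : ∀ h : Subgroup.centralizer ({v} : Set G),
      (h : G) * v * (h : G)⁻¹ = v := fun h => by
    rw [mul_inv_eq_iff_eq_mul]; exact Subgroup.mem_centralizer_singleton_iff.mp h.2
  have hcv' : ∀ h : Subgroup.centralizer ({v} : Set G),
      (h : G) ∈ Subgroup.centralizer ({t} : Set G) := fun h => by
    rw [Subgroup.mem_centralizer_singleton_iff, ← M.sq]
    exact ((show Commute (h : G) v from Subgroup.mem_centralizer_singleton_iff.mp h.2).pow_right 2).eq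
  let hh : Subgroup.centralizer ({v} : Set G) → Subgroup.centralizer ({t} : Set G) :=
    fun h => ⟨h, hcv' h⟩
  let zz : M.PairSet → Subgroup.centralizer ({v} : Set G) → M.K := fun q h =>
    ⟨(h : G)⁻¹ * (z₀ q : G) * ((h : G)⁻¹)⁻¹, M.conj_K_mem (inv_mem (hcv' h))
      (Or.inl (hcv h⁻¹)) (z₀ q)⟩
  have hprod : ∀ (q : M.PairSet) h, g₀ q * hh h * M.vz (zz q h) * (g₀ q * hh h)⁻¹ =
      q.1.1 * q.1.2 := fun q h => by
    have h1 : hh h * M.vz (zz q h) * (hh h)⁻¹ = M.vz (z₀ q) := Subtype.ext (by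
      rw [Subgroup.coe_mul, Subgroup.coe_mul, Subgroup.coe_inv, M.coe_vz, M.coe_vz]
      show (h : G) * (v * ((h : G)⁻¹ * (z₀ q : G) * ((h : G)⁻¹)⁻¹)) * (h : G)⁻¹ = _
      rw [show (h : G) * (v * ((h : G)⁻¹ * (z₀ q : G) * ((h : G)⁻¹)⁻¹)) * (h : G)⁻¹ =
        (h : G) * v * (h : G)⁻¹ * (z₀ q : G) by group, hcv h])
    rw [hgz q, ← h1]
    group
  have hsq : ∀ q : M.PairSet, q.1.1 * (q.1.1 * q.1.2) = q.1.2 := fun q => by
    rw [← mul_assoc, sq_of_invol q.2.1, one_mul]
  let F : M.PairSet × Subgroup.centralizer ({v} : Set G) → M.Triples := fun q =>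
    ⟨(g₀ q.1 * hh q.2, zz q.1 q.2, q.1.1.1), q.1.2.1, by
      show orderOf (q.1.1.1 * _) = 2
      rw [hprod, hsq]; exact q.1.2.2.1⟩
  rw [← Nat.card_prod]
  refine (Nat.card_congr (Equiv.ofBijective F ⟨?_, ?_⟩)).symm
  · rintro ⟨q, h⟩ ⟨q', h'⟩ he
    have he' := congrArg Subtype.val he
    simp only [F, Prod.mk.injEq] at he'
    obtain ⟨he1, he2, he3⟩ := he'
    have hqq : q = q' := by
      refine Subtype.ext (Prod.ext he3 ?_)
      rw [← hsq q, ← hsq q', ← hprod q h, ← hprod q' h', he1, he2, he3]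
    subst hqq
    have hhh : hh h = hh h' := mul_left_cancel he1
    refine Prod.ext rfl (Subtype.ext ?_)
    exact (congrArg Subtype.val hhh :)
  · rintro ⟨⟨g, z, i⟩, hi, hix⟩
    set x := g * M.vz z * g⁻¹ with hx
    have hi2 := sq_of_invol hi
    have hρ : Rot (M.ρ i * M.ρ (i * x)) := by
      rw [← map_mul, ← mul_assoc, hi2, one_mul, hx, map_mul, map_mul, map_inv, M.rho_vz]
      exact d4_conj_rot _
    let q : M.PairSet := ⟨(i, i * x), hi, hix, hρ⟩
    have hqq : g₀ q * M.vz (z₀ q) * (g₀ q)⁻¹ = g * M.vz z * g⁻¹ := by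
      rw [← hgz q, ← hx]
      show i * (i * x) = x
      rw [← mul_assoc, hi2, one_mul]
    set k := (g₀ q)⁻¹ * g with hk
    have hkz : k * M.vz z * k⁻¹ = M.vz (z₀ q) := by
      rw [hk]
      calc (g₀ q)⁻¹ * g * M.vz z * ((g₀ q)⁻¹ * g)⁻¹
          = (g₀ q)⁻¹ * (g * M.vz z * g⁻¹) * g₀ q := by group
        _ = _ := by rw [← hqq]; group
    have hkz' := congrArg Subtype.val hkz
    rw [Subgroup.coe_mul, Subgroup.coe_mul, Subgroup.coe_inv, M.coe_vz, M.coe_vz] at hkz'
    have hkv : (k : G) ∈ Subgroup.centralizer ({v} : Set G) := by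
      rw [Subgroup.mem_centralizer_singleton_iff, ← mul_inv_eq_iff_eq_mul]
      exact M.commute_of_conj hkz'
    refine ⟨(q, ⟨k, hkv⟩), Subtype.ext (Prod.ext ?_ (Prod.ext (Subtype.ext ?_) rfl))⟩
    · show g₀ q * hh ⟨k, hkv⟩ = g
      rw [show hh ⟨k, hkv⟩ = k from Subtype.ext rfl, hk]; group
    · show (k : G)⁻¹ * (z₀ q : G) * ((k : G)⁻¹)⁻¹ = (z : G)
      have h1 := M.commute_of_conj hkz'
      have h2 : (k : G) * (z : G) * (k : G)⁻¹ = (z₀ q : G) := by
        refine mul_left_cancel (a := v) ?_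
        conv_lhs => arg 1; rw [← h1]
        rw [← hkz']; group
      rw [← h2]; group

theorem ncard_pairSet :
    Nat.card M.PairSet =
      2 * (Nat.card {i // IsConj (M.σ (.sr 0)) i} * Nat.card {i // IsConj (M.σ (.sr 3)) i}) := by
  classical
  set I0 : Set (Subgroup.centralizer ({t} : Set G)) := {i | IsConj (M.σ (.sr 0)) i} with hI0
  set I1 : Set (Subgroup.centralizer ({t} : Set G)) := {i | IsConj (M.σ (.sr 3)) i} with hI1
  have heq : M.PairSet = I0 ×ˢ I1 ∪ I1 ×ˢ I0 := by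
    ext ⟨i, i'⟩
    simp only [PairSet, hI0, hI1, Set.mem_union, Set.mem_prod, Set.mem_ofPred_eq, M.invol_A0,
      M.invol_A1]
    constructor
    · rintro ⟨hi, hi', hR⟩
      have h1 : M.ρ i * M.ρ i = 1 := by rw [← map_mul, sq_of_invol hi, map_one]
      have h2 : M.ρ i' * M.ρ i' = 1 := by rw [← map_mul, sq_of_invol hi', map_one]
      rcases (d4_prod _ _ h1 h2).mp hR with ⟨a, b⟩ | ⟨a, b⟩
      · exact Or.inl ⟨⟨hi, a⟩, hi', b⟩
      · exact Or.inr ⟨⟨hi, a⟩, hi', b⟩
    · rintro (⟨⟨hi, a⟩, hi', b⟩ | ⟨⟨hi, a⟩, hi', b⟩) <;>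
      · refine ⟨hi, hi', (d4_prod _ _ ?_ ?_).mpr ?_⟩
        · rw [← map_mul, sq_of_invol hi, map_one]
        · rw [← map_mul, sq_of_invol hi', map_one]
        · tauto
  have hdisj : Disjoint (I0 ×ˢ I1) (I1 ×ˢ I0) := by
    rw [Set.disjoint_left]
    rintro ⟨i, i'⟩ ⟨h0, -⟩ ⟨h1, -⟩
    exact d4_disjoint _ ((M.invol_A0 i).mp h0).2 ((M.invol_A1 i).mp h1).2
  rw [Nat.card_coe_set_eq, heq, Set.ncard_union_eq hdisj, Set.ncard_prod, Set.ncard_prod,
    ← Nat.card_coe_set_eq, ← Nat.card_coe_set_eq]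
  show _ = 2 * (Nat.card I0 * Nat.card I1)
  ring

theorem card_centralizer_pair (a : Subgroup.centralizer ({t} : Set G)) :
    Nat.card (Subgroup.centralizer ({a} : Set (Subgroup.centralizer ({t} : Set G)))) =
      cPair t (a : G) := by
  refine Nat.card_congr
    { toFun := fun x => ⟨(x.1 : G), ?_⟩
      invFun := fun x => ⟨⟨x, ?_⟩, ?_⟩
      left_inv := fun _ => rfl
      right_inv := fun _ => rfl }
  · rw [Subgroup.mem_centralizer_iff]
    rintro y (rfl | rfl)
    · exact (Subgroup.mem_centralizer_singleton_iff.mp x.1.2).symm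
    · exact (congrArg Subtype.val (Subgroup.mem_centralizer_singleton_iff.mp x.2)).symm
  · exact Subgroup.mem_centralizer_singleton_iff.mpr
      ((Subgroup.mem_centralizer_iff.mp x.2) t (Or.inl rfl)).symm
  · exact Subgroup.mem_centralizer_singleton_iff.mpr (Subtype.ext
      ((Subgroup.mem_centralizer_iff.mp x.2) (a : G) (Or.inr rfl)).symm)

/-- The count of pairs of involutions with product in the section of `v`. -/
theorem count_identity :
    Nat.card {q : M.K × G // orderOf q.2 = 2 ∧ orderOf (q.2 * (v * (q.1 : G))) = 2} *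
        (cPair t s * cPair t (v * s)) = 8 * Nat.card M.K * cC t := by
  have h1 : cC t * Nat.card {q : M.K × G // orderOf q.2 = 2 ∧ orderOf (q.2 * (v * (q.1 : G))) = 2} =
      Nat.card M.PairSet * (4 * Nat.card M.K) := by
    rw [← M.card_centralizer_v, ← M.card_triples_right, M.card_triples_left]
    rfl
  rw [M.ncard_pairSet] at h1
  have h0 : Nat.card {i // IsConj (M.σ (.sr 0)) i} * cPair t s = cC t := by
    have := CfsgLib.Chars.card_isConj_mul_card_centralizer (M.σ (.sr 0))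
    rw [card_centralizer_pair, M.σ_sr] at this
    exact this
  have h3 : Nat.card {i // IsConj (M.σ (.sr 3)) i} * cPair t (v * s) = cC t := by
    have := CfsgLib.Chars.card_isConj_mul_card_centralizer (M.σ (.sr 3))
    rw [card_centralizer_pair, M.sigma_three] at this
    exact this
  have hpos : 0 < cC t := Nat.card_pos
  refine Nat.eq_of_mul_eq_mul_left hpos ?_
  generalize Nat.card {q : M.K × G // orderOf q.2 = 2 ∧ orderOf (q.2 * (v * (q.1 : G))) = 2} = A
    at h1 ⊢
  generalize Nat.card {i // IsConj (M.σ (.sr 0)) i} = n0 at h0 h1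
  generalize Nat.card {i // IsConj (M.σ (.sr 3)) i} = n1 at h3 h1
  calc cC t * (A * (cPair t s * cPair t (v * s)))
      = cC t * A * (cPair t s * cPair t (v * s)) := by ring
    _ = 8 * Nat.card M.K * ((n0 * cPair t s) * (n1 * cPair t (v * s))) := by rw [h1]; ring
    _ = _ := by rw [h0, h3]; ring

end Model

end CfsgLib.DegreeThreeP.Pairs
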