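import Cfsg.Agent.Lib.DegreeThreeP.PairsGroup
import Cfsg.Agent.Lib.CharApps.Basic

/-!
# Character sums over the section of an element of order four
-/

set_option autoImplicit false
set_option linter.unusedSectionVars false
set_option linter.style.haveILetI false

namespace CfsgLib.DegreeThreeP.Pairs

open Cfsg CfsgLib.Chars
open scoped ComplexConjugate

universe u

variable {G : Type u} [Group G] [Finite G] {t v s : G}

attribute [local instance] Fintype.ofFinite

theorem classFun_conj (η : IrrCharacter G) (g x : G) :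
    (η : G → ℂ) (g * x * g⁻¹) = (η : G → ℂ) x :=
  isClassFunction_irr η x g

/-- A character summed over a subgroup, written through coset representatives. -/
theorem exists_nat_sum (η : IrrCharacter G) (H K : Subgroup G) {n : ℕ} (c : Fin n → G)
    (hmem : ∀ (j : Fin n) (z : K), c j * (z : G) ∈ H)
    (hinj : ∀ (i j : Fin n) (z z' : K), c i * (z : G) = c j * (z' : G) → i = j ∧ z = z')
    (hsurj : ∀ x ∈ H, ∃ (j : Fin n) (z : K), x = c j * (z : G)) :
    ∃ m : ℕ, ∑ j, ∑ z : K, (η : G → ℂ) (c j * (z : G)) = (n : ℂ) * Nat.card K * m := by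
  have hbij : Function.Bijective (fun q : Fin n × K => (⟨_, hmem q.1 q.2⟩ : H)) := by
    constructor
    · rintro ⟨i, z⟩ ⟨j, z'⟩ h
      obtain ⟨rfl, rfl⟩ := hinj i j z z' (congrArg Subtype.val h)
      rfl
    · rintro ⟨x, hx⟩
      obtain ⟨j, z, h⟩ := hsurj x hx
      exact ⟨(j, z), Subtype.ext h.symm⟩
  obtain ⟨m, hm⟩ := inner_char_nat (isCharacter_restrict H (isCharacter_of_irr η.2))
    (isCharacter_one (G := H))
  refine ⟨m, ?_⟩
  have hc : Nat.card H = n * Nat.card K := by
    rw [← Nat.card_congr (Equiv.ofBijective _ hbij), Nat.card_prod, Nat.card_fin]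
  have hne : (Nat.card H : ℂ) ≠ 0 := Nat.cast_ne_zero.mpr Nat.card_pos.ne'
  rw [← hm, inner_def, hc] at *
  push_cast at hne ⊢
  simp only [map_one, mul_one]
  rw [← mul_assoc, mul_inv_cancel₀ hne, one_mul, ← Fintype.sum_prod_type']
  exact Fintype.sum_bijective _ hbij _ _ fun _ => rfl

namespace Model

variable (M : Model G t v s)

/-- The sum of a function over the section `v K`. -/
noncomputable def sec (φ : G → ℂ) : ℂ := ∑ z : M.K, φ (v * (z : G))

theorem t_sq (M : Model G t v s) : t * t = 1 := by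
  rw [← M.sigma_two, ← Subgroup.coe_mul, ← map_mul,
    show (DihedralGroup.r 2 * .r 2 : D4) = 1 by decide, map_one, Subgroup.coe_one]

theorem conj_v (M : Model G t v s) : s * v * s⁻¹ = v⁻¹ := by
  have h : M.σ (.sr 0) * M.σ (.r 1) * (M.σ (.sr 0))⁻¹ = (M.σ (.r 1))⁻¹ := by
    rw [← map_inv, ← map_inv, ← map_mul, ← map_mul]
    congr 1
  simpa [M.σ_one, M.σ_sr] using congrArg Subtype.val h

theorem s_mem (M : Model G t v s) : s ∈ Subgroup.centralizer ({t} : Set G) :=
  M.σ_sr ▸ (M.σ (.sr 0)).2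

theorem v_pow_four (M : Model G t v s) : v ^ 4 = 1 := by
  have h : M.σ (.r 1) ^ 4 = 1 := by rw [← map_pow, d4_pow_four, map_one]
  simpa [M.σ_one] using congrArg Subtype.val h

theorem sum_three (η : IrrCharacter G) :
    ∑ z : M.K, (η : G → ℂ) (v ^ 3 * (z : G)) = ∑ z : M.K, (η : G → ℂ) (v * (z : G)) := by
  have hs := M.conj_v
  have hs' : s⁻¹ * v * s⁻¹⁻¹ = v⁻¹ := by
    calc s⁻¹ * v * s⁻¹⁻¹ = s⁻¹ * (v⁻¹)⁻¹ * s := by rw [inv_inv, inv_inv]
      _ = s⁻¹ * (s * v * s⁻¹)⁻¹ * s := by rw [hs]
      _ = v⁻¹ := by group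
  let e : M.K ≃ M.K :=
    { toFun := fun z => ⟨s * (z : G) * s⁻¹, M.conj_K_mem M.s_mem (Or.inr hs) z⟩
      invFun := fun z => ⟨s⁻¹ * (z : G) * s⁻¹⁻¹,
        M.conj_K_mem (inv_mem M.s_mem) (Or.inr hs') z⟩
      left_inv := fun z => Subtype.ext (show s⁻¹ * (s * (z : G) * s⁻¹) * s⁻¹⁻¹ = (z : G) by group)
      right_inv := fun z => Subtype.ext (show s * (s⁻¹ * (z : G) * s⁻¹⁻¹) * s⁻¹ = (z : G) by group) }
  refine (Fintype.sum_equiv e _ _ fun z => ?_).symm
  have h3 : v⁻¹ = v ^ 3 := inv_eq_of_mul_eq_one_right (by rw [← pow_succ', M.v_pow_four])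
  show _ = (η : G → ℂ) (v ^ 3 * (s * (z : G) * s⁻¹))
  rw [← h3, ← hs, ← classFun_conj η s]
  congr 1
  group

/-- The average of a character over the section is an integer. -/
theorem exists_int_sec (η : IrrCharacter G) :
    ∃ n : ℤ, M.sec (η : G → ℂ) = (Nat.card M.K : ℂ) * n := by
  obtain ⟨m4, h4⟩ := exists_nat_sum η (Subgroup.centralizer ({v} : Set G)) M.K
    (fun j : Fin 4 => v ^ (j : ℕ)) (fun j z => M.mem_centralizer_v j z)
    (fun i j z z' h => M.decomp_inj h) (fun x hx => M.exists_decomp hx)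
  have htK : ∀ k ∈ M.K, t * k = k * t := fun k hk =>
    (Subgroup.mem_centralizer_singleton_iff.mp (M.K_le hk)).symm
  have ht2 := M.t_sq
  have htinv : t⁻¹ = t := inv_eq_of_mul_eq_one_left ht2
  let L : Subgroup G :=
    { carrier := {x | x ∈ M.K ∨ t * x ∈ M.K}
      one_mem' := Or.inl (one_mem _)
      mul_mem' := by
        rintro a b (ha | ha) (hb | hb)
        · exact Or.inl (mul_mem ha hb)
        · right
          rw [← mul_assoc, htK a ha, mul_assoc]
          exact mul_mem ha hb
        · exact Or.inr (by rw [← mul_assoc]; exact mul_mem ha hb)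
        · left
          have hc : a * t = t * a := by
            have h := htK _ ha
            rw [← mul_assoc, ht2, one_mul] at h
            calc a * t = t * t * (a * t) := by rw [ht2, one_mul]
              _ = t * (t * a * t) := by group
              _ = t * a := by rw [← h]
          have := mul_mem ha hb
          rwa [show t * a * (t * b) = a * b by
            rw [mul_assoc, ← mul_assoc a, hc, mul_assoc t, ← mul_assoc, ht2, one_mul]] at this
      inv_mem' := by
        rintro a (ha | ha)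
        · exact Or.inl (inv_mem ha)
        · right
          have h := htK _ ha
          rw [← mul_assoc, ht2, one_mul] at h
          have hc : a * t = t * a := by
            conv_lhs => rw [h]
            rw [mul_assoc, ht2, mul_one]
          rw [show t * a⁻¹ = (a * t)⁻¹ by rw [mul_inv_rev, htinv], hc]
          exact inv_mem ha }
  obtain ⟨m2, h2⟩ := exists_nat_sum η L M.K (fun j : Fin 2 => v ^ (2 * (j : ℕ)))
    (fun j z => by
      fin_cases j
      · exact Or.inl (by simpa using z.2)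
      · exact Or.inr (by simp [M.sq, ← mul_assoc, ht2]))
    (fun i j z z' h => by
      have h' := M.decomp_inj (i := ⟨2 * (i : ℕ), by omega⟩) (j := ⟨2 * (j : ℕ), by omega⟩) h
      refine ⟨Fin.ext ?_, h'.2⟩
      have := congrArg Fin.val h'.1
      simp at this
      omega)
    (by
      rintro x (hx | hx)
      · exact ⟨0, ⟨x, hx⟩, by simp⟩
      · exact ⟨1, ⟨t * x, hx⟩, by simp [M.sq, ← mul_assoc, ht2]⟩)
  refine ⟨2 * (m4 : ℤ) - m2, ?_⟩
  simp only [Fin.sum_univ_four, Fin.sum_univ_two, Fin.val_zero, Fin.val_one, Fin.val_two,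
    mul_zero, mul_one, pow_zero, pow_one] at h4 h2
  rw [show ((3 : Fin 4) : ℕ) = 3 from rfl, M.sum_three η] at h4
  rw [sec]
  push_cast at h4 h2 ⊢
  linear_combination (h4 - h2) / 2

theorem card_conj_section (z : M.K) :
    ∑ z' : M.K, Nat.card {g : G // g * (v * (z : G)) * g⁻¹ = v * (z' : G)} =
      4 * Nat.card M.K := by
  rw [← M.card_centralizer_v, ← Nat.card_sigma]
  have hz : ∀ g : Subgroup.centralizer ({v} : Set G), (g : G) * v * (g : G)⁻¹ = v := fun g => by
    rw [mul_inv_eq_iff_eq_mul]; exact Subgroup.mem_centralizer_singleton_iff.mp g.2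
  have hmem : ∀ g : Subgroup.centralizer ({v} : Set G),
      (g : G) ∈ Subgroup.centralizer ({t} : Set G) := fun g => by
    rw [Subgroup.mem_centralizer_singleton_iff, ← M.sq]
    exact ((show Commute (g : G) v from
      Subgroup.mem_centralizer_singleton_iff.mp g.2).pow_right 2).eq
  refine Nat.card_congr (Equiv.ofBijective
    (fun q => ⟨q.2.1, Subgroup.mem_centralizer_singleton_iff.mpr
      (mul_inv_eq_iff_eq_mul.mp (M.commute_of_conj q.2.2))⟩) ⟨?_, ?_⟩)
  · rintro ⟨z', g, hg⟩ ⟨z'', g', hg'⟩ h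
    have : g = g' := congrArg Subtype.val h
    subst this
    obtain rfl : z' = z'' := Subtype.ext (mul_left_cancel (hg.symm.trans hg'))
    rfl
  · intro g
    refine ⟨⟨⟨(g : G) * (z : G) * (g : G)⁻¹, M.conj_K_mem (hmem g) (Or.inl (hz g)) z⟩, g.1, ?_⟩,
      Subtype.ext rfl⟩
    show (g : G) * (v * (z : G)) * (g : G)⁻¹ = v * ((g : G) * (z : G) * (g : G)⁻¹)
    conv_lhs => rw [show (g : G) * (v * (z : G)) * (g : G)⁻¹ =
      (g : G) * v * (g : G)⁻¹ * ((g : G) * (z : G) * (g : G)⁻¹) by group, hz g]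

variable [Fintype (IrrCharacter G)]

theorem orth (g : G) (hg : ∀ z : M.K, ¬ IsConj (v * (z : G)) g) :
    ∑ η : IrrCharacter G, (η : G → ℂ) g * conj (M.sec (η : G → ℂ)) = 0 := by
  classical
  simp only [sec, map_sum, Finset.mul_sum]
  rw [Finset.sum_comm]
  exact Finset.sum_eq_zero fun z _ => by rw [second_orthogonality, if_neg (hg z)]

theorem norm_sec :
    ∑ η : IrrCharacter G, M.sec (η : G → ℂ) * conj (M.sec (η : G → ℂ)) =
      4 * (Nat.card M.K : ℂ) ^ 2 := by
  classical
  simp only [sec, map_sum, Finset.mul_sum, Finset.sum_mul]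
  rw [Finset.sum_comm, Finset.sum_congr rfl fun z' _ => Finset.sum_comm, Finset.sum_comm]
  simp only [second_orthogonality]
  have h : ∀ z z' : M.K, (if IsConj (v * (z' : G)) (v * (z : G)) then
      (Nat.card (Subgroup.centralizer ({v * (z : G)} : Set G)) : ℂ) else 0) =
      (Nat.card {g : G // g * (v * (z : G)) * g⁻¹ = v * (z' : G)} : ℂ) := fun z z' => by
    split
    · next h => rw [card_conj_eq h.symm]
    · next h =>
      haveI : IsEmpty {g : G // g * (v * (z : G)) * g⁻¹ = v * (z' : G)} :=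
        ⟨fun g => h (isConj_iff.mpr ⟨g.1, g.2⟩).symm⟩
      simp
  simp only [h, ← Nat.cast_sum, M.card_conj_section, Finset.sum_const, Finset.card_univ,
    ← Nat.card_eq_fintype_card, nsmul_eq_mul]
  push_cast
  ring

theorem isConj_mul_swap (x i : G) : IsConj (x * i) (i * x) :=
  isConj_iff.mpr ⟨i, by group⟩

/-- The structure constant of a class of real elements. -/
theorem pair_count {a : G} (ha : a * a = 1) (x : G) [DecidablePred (IsConj a)] :
    (Nat.card (Subgroup.centralizer ({a} : Set G)) : ℂ) ^ 2 *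
        (∑ i : G, if IsConj a i ∧ IsConj a (i * x) then (1 : ℂ) else 0) =
      (Nat.card G : ℂ) *
        ∑ η : IrrCharacter G, (η : G → ℂ) a ^ 2 * (η : G → ℂ) x / (η : G → ℂ) 1 := by
  classical
  set C : ℂ := (Nat.card (Subgroup.centralizer ({a} : Set G)) : ℂ) with hC
  have hreal : ∀ η : IrrCharacter G, conj ((η : G → ℂ) a) = (η : G → ℂ) a := fun η => by
    rw [← irr_inv, inv_eq_of_mul_eq_one_left ha]
  have hind : ∀ w : G, (if IsConj a w then C else 0) =
      ∑ η : IrrCharacter G, (η : G → ℂ) w * (η : G → ℂ) a := fun w => by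
    have h := second_orthogonality w a
    simp only [hreal] at h
    rw [h]
    split
    · next hw =>
      obtain ⟨c, rfl⟩ := isConj_iff.mp hw
      rw [hC, ← card_conj_eq (b := c * a * c⁻¹) hw, ← card_conj_eq (a := c * a * c⁻¹) (IsConj.refl _)]
      norm_cast
      refine Nat.card_congr ((Equiv.mulRight c⁻¹).subtypeEquiv fun g => ?_)
      show g * a * g⁻¹ = c * a * c⁻¹ ↔ g * c⁻¹ * (c * a * c⁻¹) * (g * c⁻¹)⁻¹ = c * a * c⁻¹
      rw [show g * c⁻¹ * (c * a * c⁻¹) * (g * c⁻¹)⁻¹ = g * a * g⁻¹ by group]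
    · rfl
  have hk : (Nat.card {y : G // IsConj a y} : ℂ) * C = (Nat.card G : ℂ) := by
    rw [hC]; exact_mod_cast card_isConj_mul_card_centralizer a
  have h1 : C * ∑ i : G, (if IsConj a i ∧ IsConj a (i * x) then (1 : ℂ) else 0) =
      ∑ η : IrrCharacter G, (η : G → ℂ) a *
        ((Nat.card {y : G // IsConj a y} : ℂ) * (η : G → ℂ) a * (η : G → ℂ) x / (η : G → ℂ) 1) := by
    simp only [fun η : IrrCharacter G => (sum_translate_class η.2 x a).symm]
    rw [Finset.mul_sum]
    simp only [Finset.mul_sum]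
    rw [Finset.sum_comm]
    refine Finset.sum_congr rfl fun i _ => ?_
    by_cases hi : IsConj a i
    · simp only [hi, true_and, if_true]
      rw [show ∑ η : IrrCharacter G, (η : G → ℂ) a * (η : G → ℂ) (x * i) =
        ∑ η : IrrCharacter G, (η : G → ℂ) (x * i) * (η : G → ℂ) a from
          Finset.sum_congr rfl fun η _ => mul_comm _ _, ← hind]
      by_cases hx : IsConj a (i * x)
      · rw [if_pos hx, if_pos (hx.trans (isConj_mul_swap x i).symm), mul_one]
      · rw [if_neg hx, if_neg (fun h => hx (h.trans (isConj_mul_swap x i))), mul_zero]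
    · simp only [hi, false_and, if_false, mul_zero, Finset.sum_const_zero]
  rw [pow_two, mul_assoc, h1, Finset.mul_sum, Finset.mul_sum]
  refine Finset.sum_congr rfl fun η _ => ?_
  rw [← hk]
  ring

/-- The character formula for the pairs with product in `v K`. -/
theorem pairs_formula (hone : ∀ i : G, orderOf i = 2 ↔ IsConj t i) :
    (cC t : ℂ) ^ 2 *
        (Nat.card {q : M.K × G // orderOf q.2 = 2 ∧ orderOf (q.2 * (v * (q.1 : G))) = 2} : ℂ) =
      (Nat.card G : ℂ) *
        ∑ η : IrrCharacter G, (η : G → ℂ) t ^ 2 * M.sec (η : G → ℂ) / (η : G → ℂ) 1 := by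
  classical
  simp only [hone]
  have hA : (Nat.card {q : M.K × G // IsConj t q.2 ∧ IsConj t (q.2 * (v * (q.1 : G)))} : ℂ) =
      ∑ z : M.K, ∑ i : G, if IsConj t i ∧ IsConj t (i * (v * (z : G))) then (1 : ℂ) else 0 := by
    rw [Nat.card_eq_fintype_card, Fintype.card_subtype, Finset.natCast_card_filter,
      Fintype.sum_prod_type]
  rw [hA, Finset.mul_sum]
  simp only [cC, pair_count M.t_sq]
  rw [← Finset.mul_sum, Finset.sum_comm]
  congr 1
  refine Finset.sum_congr rfl fun η _ => ?_
  rw [sec, Finset.mul_sum, Finset.sum_div]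
  exact Finset.sum_congr (Finset.ext fun _ => by simp) fun _ _ => rfl

end Model

end CfsgLib.DegreeThreeP.Pairs
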