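import Cfsg.Agent.Lib.DegreeThreeP.Defs
import Cfsg.Agent.Lib.Perm.PermDegrees

/-!
# The eigenvalues of the rank three graph of degree `3p`
-/

set_option autoImplicit false

namespace CfsgLib.DegreeThreeP

open Module MulAction Cfsg CfsgLib.Chars CfsgLib.Perm.Isotypic
open scoped ComplexConjugate

universe u v

/-- The parameters from the eigenvalues `x`, `y` of the graph of valency `k`. -/
theorem param_arith {p k : ℕ} {x y : ℤ} (hp : 3 < p) (hprime : p.Prime) (hk : 0 < k)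
    (hk' : k + 1 < 3 * p) (hlin : (k : ℤ) + (2 * (p : ℤ) - 1) * x + p * y = 0)
    (hsq : (k : ℤ) ^ 2 + (2 * (p : ℤ) - 1) * x ^ 2 + p * y ^ 2 = 3 * p * k) :
    ∃ r : ℤ, 2 * (p : ℤ) = 6 * r ^ 2 + 3 * r + 1 ∧
      ((2 * (k : ℤ) = 6 * r ^ 2 + 5 * r + 1 ∧ 3 * (p : ℤ) - 1 - k = 6 * r ^ 2 + 2 * r ∧
          (k : ℤ) + x + y = p - 1) ∨
        ((k : ℤ) = 6 * r ^ 2 + 2 * r ∧ 2 * (3 * (p : ℤ) - 1 - k) = 6 * r ^ 2 + 5 * r + 1 ∧
          (k : ℤ) + x + y = 2 * p - 2)) := by
  have hp' : (3 : ℤ) < p := by exact_mod_cast hp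
  have hkZ : (k : ℤ) + 1 < 3 * p := by exact_mod_cast hk'
  obtain ⟨m, hm⟩ : (p : ℤ) ∣ (k : ℤ) - x := ⟨-(2 * x + y), by linear_combination hlin⟩
  have hkx : (k : ℤ) = x + p * m := by omega
  have hy : y = (2 * (p : ℤ) - 1) * m - 2 * k := by
    have : (p : ℤ) * (y - ((2 * (p : ℤ) - 1) * m - 2 * k)) = 0 := by
      linear_combination hlin + (2 * (p : ℤ) - 1) * hkx
    rcases mul_eq_zero.1 this with h | h <;> omega
  have key : 6 * x ^ 2 + 6 * m * x + m ^ 2 - 3 * x + p * m * (m - 3) = 0 := by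
    subst hy
    rw [hkx] at hsq
    have : (p : ℤ) * (6 * x ^ 2 + 6 * m * x + m ^ 2 - 3 * x + p * m * (m - 3)) = 0 := by
      linear_combination hsq
    rcases mul_eq_zero.1 this with h | h <;> omega
  have hm3 : m * (m - 3) ≤ 0 := by
    by_contra h
    push Not at h
    nlinarith [sq_nonneg (12 * x + 6 * m - 3)]
  have hm01 : m = 0 ∨ m = 1 ∨ m = 2 ∨ m = 3 := by
    rcases (show m < 0 ∨ 3 < m ∨ (0 ≤ m ∧ m ≤ 3) by omega) with h | h | h
    · exfalso; nlinarith
    · exfalso; nlinarith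
    · omega
  rcases hm01 with rfl | rfl | rfl | rfl
  · exfalso
    have : x * (2 * x - 1) = 0 := by linarith [key]
    rcases mul_eq_zero.1 this with h | h <;> omega
  · refine ⟨x, by linarith [key], Or.inl ⟨?_, ?_, ?_⟩⟩
    · linarith [key]
    · linarith [key]
    · linarith [key]
  · refine ⟨-1 - x, by linarith [key], Or.inr ⟨?_, ?_, ?_⟩⟩
    · linarith [key]
    · linarith [key]
    · linarith [key]
  · exfalso
    have : (x + 1) * (2 * x + 3) = 0 := by linarith [key]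
    rcases mul_eq_zero.1 this with h | h <;> omega

section trace

variable {G : Type u} [Group G] [Fintype G] {V : Type v} [AddCommGroup V] [Module ℂ V]
  [FiniteDimensional ℂ V]

/-- The trace of a group element on a part of multiplicity one. -/
theorem trace_comp_proj (ρ : Representation ℂ G V) (χ : IrrCharacter G)
    (h1 : classInner ρ.character χ = 1) (g : G) :
    LinearMap.trace ℂ V (ρ g ∘ₗ proj ρ χ) = (χ : G → ℂ) g := by
  classical
  obtain ⟨d, hd0, hd⟩ := CfsgLib.Chars.irr_degree_nat χ.2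
  have hfr := finrank_part ρ χ
  rw [h1, mul_one, hd, Nat.cast_inj] at hfr
  have h0 : (part ρ χ).toSubmodule ≠ ⊥ := fun h => by
    rw [h, finrank_bot] at hfr; omega
  obtain ⟨U, hU, hUi⟩ := exists_irr_le ρ (part ρ χ).apply_mem_toSubmodule h0
  have hUd : finrank ℂ U.toSubmodule = d := by
    have := congrFun (character_of_le ρ χ U hU) 1
    rw [Representation.char_one, hd] at this
    exact_mod_cast this
  have heq : U.toSubmodule = (part ρ χ).toSubmodule := Submodule.eq_of_le_of_finrank_eq hU (hUd.trans hfr.symm)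
  have hUeq : U = part ρ χ := Subrepresentation.toSubmodule_injective heq
  have hch : (part ρ χ).toRepresentation.character = χ := by
    subst hUeq
    exact character_of_le ρ χ (part ρ χ) le_rfl
  rw [← hch]
  have hmem : ∀ x, (ρ g ∘ₗ proj ρ χ) x ∈ (part ρ χ).toSubmodule := fun x =>
    (part ρ χ).apply_mem_toSubmodule g (LinearMap.mem_range_self _ x)
  rw [← LinearMap.trace_restrict_eq_of_forall_mem _ _ hmem]
  show LinearMap.trace ℂ _ _ = LinearMap.trace ℂ _ ((part ρ χ).toRepresentation g)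
  congr 1
  refine LinearMap.ext fun x => Subtype.ext ?_
  show ρ g (proj ρ χ (x : V)) = ρ g (x : V)
  rw [proj_eq_self ρ x.2]

end trace

section eigen

variable {G : Type u} [Group G] {Ω : Type v} [MulAction G Ω]

/-- The suborbit length is invariant. -/
theorem card_orbit_smul (g : G) (a d : Ω) :
    Nat.card (orbit (stabilizer G (g • a)) (g • d)) = Nat.card (orbit (stabilizer G a) d) := by
  refine (Nat.card_congr ((MulAction.toPerm g).subtypeEquiv fun z => ?_)).symm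
  simp only [MulAction.toPerm_apply]
  constructor
  · rintro ⟨⟨h, hh⟩, rfl⟩
    refine ⟨⟨g * h * g⁻¹, ?_⟩, ?_⟩
    · rw [mem_stabilizer_iff, mul_smul, inv_smul_smul, mul_smul, mem_stabilizer_iff.1 hh]
    · show (g * h * g⁻¹) • (g • d) = g • (h • d)
      rw [mul_smul, inv_smul_smul, mul_smul]
  · rintro ⟨⟨h, hh⟩, hz⟩
    refine ⟨⟨g⁻¹ * h * g, ?_⟩, ?_⟩
    · rw [mem_stabilizer_iff, mul_smul, mul_smul, mem_stabilizer_iff.1 hh, inv_smul_smul]
    · show (g⁻¹ * h * g) • d = z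
      have hz' : h • (g • d) = g • z := hz
      rw [mul_smul, mul_smul, hz', inv_smul_smul]

variable [Fintype G] [Fintype Ω] [IsPretransitive G Ω]

/-- The graph of a self-paired suborbit. -/
theorem rank_three_eigen {p : ℕ} (hp : 3 < p) (hprime : p.Prime) (hcard : Nat.card Ω = 3 * p)
    (χ ψ : IrrCharacter G) (hχ : (χ : G → ℂ) 1 = 2 * (p : ℂ) - 1) (hψ : (ψ : G → ℂ) 1 = p)
    (hπ : ∀ g : G, (Cfsg.permRep ℂ G Ω).character g = 1 + (χ : G → ℂ) g + (ψ : G → ℂ) g)
    (t : G) (ht : t * t = 1) (a₀ : Ω) (hb : t • a₀ ≠ a₀) :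
    ∃ (k l : ℕ) (x y : ℤ), 0 < k ∧ 0 < l ∧ 1 + (k + l) = 3 * p ∧
      (k : ℤ) + (2 * (p : ℤ) - 1) * x + p * y = 0 ∧
      (k : ℤ) ^ 2 + (2 * (p : ℤ) - 1) * x ^ 2 + p * y ^ 2 = 3 * p * k ∧
      (∀ u v : Ω, u ≠ v →
        ((∃ g : G, g • a₀ = u ∧ g • (t • a₀) = v) → Nat.card (orbit (stabilizer G u) v) = k) ∧
        (¬ (∃ g : G, g • a₀ = u ∧ g • (t • a₀) = v) → Nat.card (orbit (stabilizer G u) v) = l)) ∧
      ∀ s : G, (Nat.card {u : Ω // ∃ g : G, g • a₀ = u ∧ g • (t • a₀) = s • u} : ℂ) =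
        (k : ℂ) + (x : ℂ) * (χ : G → ℂ) s + (y : ℂ) * (ψ : G → ℂ) s := by
  classical
  have : Nonempty Ω := ⟨a₀⟩
  have := CfsgLib.Chars.irrFintype G
  set ρ := Cfsg.permRep ℂ G Ω with hρ
  set P := CfsgLib.Chars.principal G with hP
  set b := t • a₀ with hbdef
  have hpC : (p : ℂ) ≠ 0 := Nat.cast_ne_zero.2 (by omega)
  have hχψ : χ ≠ ψ := fun h => by
    rw [h, hψ] at hχ
    have : ((p : ℕ) : ℂ) = ((1 : ℕ) : ℂ) := by push_cast; linear_combination -hχ
    have := Nat.cast_injective this; omega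
  have hP1 : χ ≠ P := fun h => by
    rw [h, hP, CfsgLib.Chars.principal_apply] at hχ
    have : ((p : ℕ) : ℂ) = ((1 : ℕ) : ℂ) := by push_cast; linear_combination -(1 / 2 : ℂ) * hχ
    have := Nat.cast_injective this; omega
  have hP2 : ψ ≠ P := fun h => by
    rw [h, hP, CfsgLib.Chars.principal_apply] at hψ
    have : ((p : ℕ) : ℂ) = ((1 : ℕ) : ℂ) := by push_cast; exact hψ.symm
    have := Nat.cast_injective this; omega
  have hin : ∀ η : IrrCharacter G, classInner ρ.character η =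
      classInner (P : G → ℂ) η + classInner (χ : G → ℂ) η + classInner (ψ : G → ℂ) η := fun η => by
    rw [show ρ.character = (P : G → ℂ) + (χ : G → ℂ) + (ψ : G → ℂ) from funext fun g => by
      rw [hπ]; rfl, CfsgLib.Chars.inner_add_left, CfsgLib.Chars.inner_add_left]
  have hμ : ∀ η : IrrCharacter G, classInner ρ.character η =
      if η = P ∨ η = χ ∨ η = ψ then 1 else 0 := fun η => by
    rw [hin, CfsgLib.Chars.inner_irr, CfsgLib.Chars.inner_irr, CfsgLib.Chars.inner_irr]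
    by_cases h1 : η = P
    · subst h1; simp [hP1, hP2]
    by_cases h2 : η = χ
    · subst h2; simp [Ne.symm h1, Ne.symm hχψ]
    by_cases h3 : η = ψ
    · subst h3; simp [Ne.symm h1, hχψ]
    simp [h1, h2, h3, Ne.symm h1, Ne.symm h2, Ne.symm h3]
  have hmf : ∀ η : IrrCharacter G, classInner ρ.character η = 0 ∨ classInner ρ.character η = 1 := fun η => by
    rw [hμ]; split_ifs <;> simp
  have hP0 : classInner ρ.character P = 1 := by rw [hμ]; simp
  have h11 : classInner ρ.character χ = 1 := by rw [hμ]; simp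
  have h22 : classInner ρ.character ψ = 1 := by rw [hμ]; simp
  -- three suborbits
  set H := stabilizer G a₀
  let _ := Fintype.ofFinite (orbitRel.Quotient H Ω)
  have hrank : Nat.card (orbitRel.Quotient H Ω) = 3 := by
    have h := CfsgLib.Chars.inner_fixedBy_self (G := G) (X := Ω) a₀
    have hch : (fun g : G => (Nat.card (fixedBy Ω g) : ℂ)) =
        (P : G → ℂ) + (χ : G → ℂ) + (ψ : G → ℂ) := funext fun g => by
      rw [← character_perm, hπ]; rfl
    rw [hch] at h
    simp only [CfsgLib.Chars.inner_add_left, CfsgLib.Chars.inner_add_right,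
      CfsgLib.Chars.inner_irr, if_neg hP1, if_neg hP1.symm, if_neg hP2, if_neg hP2.symm,
      if_neg hχψ, if_neg hχψ.symm, if_pos, add_zero, zero_add] at h
    norm_num at h
    rw [Nat.card_eq_fintype_card]
    exact_mod_cast h.symm
  let q₀ : orbitRel.Quotient H Ω := Quotient.mk'' a₀
  let qb : orbitRel.Quotient H Ω := Quotient.mk'' b
  have hk : ∀ q : orbitRel.Quotient H Ω, ∀ d : Ω, (Quotient.mk'' d : orbitRel.Quotient H Ω) = q →
      orbit H q.out = orbit H d := fun q d hd =>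
    orbit_eq_iff.2 (orbitRel_apply.1 (Quotient.exact'
      (q.out_eq.trans hd.symm : Quotient.mk'' q.out = Quotient.mk'' d)))
  have hne₀ : ∀ d : Ω, d ≠ a₀ → (Quotient.mk'' d : orbitRel.Quotient H Ω) ≠ q₀ := fun d hd h => by
    obtain ⟨g, hg⟩ := orbitRel_apply.1 (Quotient.exact' h)
    exact hd (hg.symm.trans g.2)
  have hqb : qb ∈ Finset.univ.erase q₀ := Finset.mem_erase.2 ⟨hne₀ b hb, Finset.mem_univ _⟩
  obtain ⟨qc, hqc⟩ : ∃ qc, (Finset.univ.erase q₀).erase qb = {qc} := by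
    apply Finset.card_eq_one.1
    rw [Finset.card_erase_of_mem hqb, Finset.card_erase_of_mem (Finset.mem_univ q₀), Finset.card_univ,
      ← Nat.card_eq_fintype_card, hrank]
  set c := qc.out with hc
  set k := Nat.card (orbit H b) with hkdef
  set l := Nat.card (orbit H c) with hldef
  have hqc' : qc ≠ qb ∧ qc ≠ q₀ := by
    have h := Finset.mem_singleton_self qc
    rw [← hqc, Finset.mem_erase, Finset.mem_erase] at h
    exact ⟨h.1, h.2.1⟩
  have hsum : 1 + (k + l) = 3 * p := by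
    rw [← hcard, card_eq_sum_orbits H, ← Finset.add_sum_erase _ _ (Finset.mem_univ q₀),
      ← Finset.add_sum_erase _ _ hqb, hqc, Finset.sum_singleton, hk q₀ a₀ rfl, hk qb b rfl]
    congr 1
    rw [eq_comm, Nat.card_eq_one_iff_unique]
    refine ⟨⟨fun u v => Subtype.ext ?_⟩, ⟨⟨a₀, mem_orbit_self a₀⟩⟩⟩
    obtain ⟨⟨g, hg⟩, hu⟩ := u.2
    obtain ⟨⟨g', hg'⟩, hv⟩ := v.2
    rw [← hu, ← hv]; exact hg.trans hg'.symm
  have hkpos : 0 < k := by
    have : Nonempty (orbit H b) := ⟨⟨b, mem_orbit_self b⟩⟩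
    exact Nat.card_pos
  have hlpos : 0 < l := by
    have : Nonempty (orbit H c) := ⟨⟨c, mem_orbit_self c⟩⟩
    exact Nat.card_pos
  have hbc : b ∉ orbit H c := fun h => hqc'.1 (by
    show qc = qb
    rw [← qc.out_eq]; exact (Quotient.sound' h).symm)
  have hcases : ∀ d : Ω, d ≠ a₀ → orbit H d = orbit H b ∨ orbit H d = orbit H c := by
    intro d hd
    by_cases h : (Quotient.mk'' d : orbitRel.Quotient H Ω) = qb
    · exact Or.inl (orbit_eq_iff.2 (orbitRel_apply.1 (Quotient.exact' h)))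
    · have hmem : (Quotient.mk'' d : orbitRel.Quotient H Ω) ∈ (Finset.univ.erase q₀).erase qb :=
        Finset.mem_erase.2 ⟨h, Finset.mem_erase.2 ⟨hne₀ d hd, Finset.mem_univ _⟩⟩
      rw [hqc, Finset.mem_singleton] at hmem
      exact Or.inr (hk qc d hmem).symm
  set M := orbOp G a₀ b with hM
  have hMsymm : ∀ u v, entry M u v = entry M v u := by
    have hpair : ∀ u v : Ω, (∃ g : G, g • a₀ = u ∧ g • b = v) → ∃ g : G, g • a₀ = v ∧ g • b = u := by
      rintro u v ⟨g, rfl, rfl⟩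
      refine ⟨g * t, by rw [mul_smul], ?_⟩
      rw [hbdef, mul_smul, ← mul_smul t t, ht, one_smul]
    intro u v
    rw [hM, entry_orbOp, entry_orbOp]
    exact if_congr ⟨hpair u v, hpair v u⟩ rfl rfl
  have hMsq : ∀ u v, entry M u v * entry M u v = entry M u v := fun u v => by
    rw [hM, entry_orbOp]; split_ifs <;> simp
  have hsub : ∀ u v : Ω, u ≠ v →
      ((∃ g : G, g • a₀ = u ∧ g • b = v) → Nat.card (orbit (stabilizer G u) v) = k) ∧
      (¬ (∃ g : G, g • a₀ = u ∧ g • b = v) → Nat.card (orbit (stabilizer G u) v) = l) := by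
    intro u v huv
    refine ⟨fun h => ?_, fun h => ?_⟩
    · obtain ⟨g, rfl, rfl⟩ := h
      exact card_orbit_smul g a₀ b
    · obtain ⟨g, hg⟩ := exists_smul_eq G a₀ u
      have hne : g⁻¹ • v ≠ a₀ := fun h' => huv (by rw [← hg, ← h', smul_inv_smul])
      have e : Nat.card (orbit (stabilizer G u) v) = Nat.card (orbit H (g⁻¹ • v)) := by
        rw [← card_orbit_smul g a₀ (g⁻¹ • v), hg, smul_inv_smul]
      rw [e]
      rcases hcases _ hne with h1 | h1
      · exfalso
        obtain ⟨z, hz⟩ := orbit_eq_iff.1 h1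
        have hz' : (z : G) • b = g⁻¹ • v := hz
        refine h ⟨g * z, ?_, ?_⟩
        · rw [mul_smul, show (z : G) • a₀ = a₀ from z.2, hg]
        · rw [mul_smul, hz', smul_inv_smul]
      · rw [h1]
  set lam := (Finset.univ.filter fun z =>
    (∃ g : G, g • a₀ = a₀ ∧ g • b = z) ∧ ∃ g : G, g • a₀ = z ∧ g • b = b).card with hlam
  set mu := (Finset.univ.filter fun z =>
    (∃ g : G, g • a₀ = a₀ ∧ g • b = z) ∧ ∃ g : G, g • a₀ = z ∧ g • b = c).card with hmu
  have hMM : ∀ u v, entry (M ∘ₗ M) u v =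
      if u = v then (k : ℂ) else (lam : ℂ) * entry M u v + (mu : ℂ) * (1 - entry M u v) := by
    intro u v
    split_ifs with huv
    · subst huv
      rw [entry_comp, ← sum_entry_orbOp (G := G) a₀ b u]
      exact Finset.sum_congr rfl fun z _ => by rw [hMsymm z u, hMsq]
    · have hi := isInter_comp (isInter_orbOp (G := G) a₀ b) (isInter_orbOp (G := G) a₀ b)
      have hcount : ∀ d, entry (M ∘ₗ M) a₀ d = ((Finset.univ.filter fun z =>
          (∃ g : G, g • a₀ = a₀ ∧ g • b = z) ∧ ∃ g : G, g • a₀ = z ∧ g • b = d).card : ℂ) := fun d => by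
        rw [entry_comp, ← Finset.sum_boole]
        refine Finset.sum_congr rfl fun z _ => ?_
        rw [hM, entry_orbOp, entry_orbOp, ite_mul, one_mul, zero_mul, ← ite_and]
      obtain ⟨g, hg⟩ := exists_smul_eq G a₀ u
      have hne : g⁻¹ • v ≠ a₀ := fun h => huv (by rw [← hg, ← h, smul_inv_smul])
      have hent : ∀ S, IsInter G S → entry S u v = entry S a₀ (g⁻¹ • v) := fun S hS => by
        rw [← entry_smul hS g a₀ (g⁻¹ • v), hg, smul_inv_smul]
      rw [hent _ hi, hent M (isInter_orbOp a₀ b)]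
      rcases hcases _ hne with h | h <;> obtain ⟨z, hz⟩ := orbit_eq_iff.1 h
      · have he : ∀ S, IsInter G S → entry S a₀ (g⁻¹ • v) = entry S a₀ b := fun S hS => by
          rw [← hz, ← entry_smul hS (z : G) a₀ b, show (z : G) • a₀ = a₀ from z.2]; rfl
        rw [he _ hi, he M (isInter_orbOp a₀ b), hcount, hM, entry_orbOp,
          if_pos ⟨1, one_smul _ _, one_smul _ _⟩]
        simp [hlam]
      · have he : ∀ S, IsInter G S → entry S a₀ (g⁻¹ • v) = entry S a₀ c := fun S hS => by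
          rw [← hz, ← entry_smul hS (z : G) a₀ c, show (z : G) • a₀ = a₀ from z.2]; rfl
        rw [he _ hi, he M (isInter_orbOp a₀ b), hcount, hM, entry_orbOp, if_neg ?_]
        · simp [hmu]
        · rintro ⟨g', h1, h2⟩
          refine hbc ?_
          rw [← orbit_eq_iff, eq_comm, orbit_eq_iff]
          exact ⟨⟨g', h1⟩, h2⟩
  -- scalars
  obtain ⟨θ₁, hθ₁⟩ := scalar_on_part ρ χ (hmf χ) (isInter_orbOp (G := G) a₀ b)
  obtain ⟨θ₂, hθ₂⟩ := scalar_on_part ρ ψ (hmf ψ) (isInter_orbOp (G := G) a₀ b)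
  have hnz : ∀ η : IrrCharacter G, classInner ρ.character η = 1 → ∃ f, proj ρ η f ≠ 0 := fun η h => by
    by_contra! h0
    have htr := trace_proj ρ η
    rw [show proj ρ η = 0 from LinearMap.ext h0, map_zero, h, mul_one] at htr
    exact CfsgLib.Chars.irr_degree_ne_zero η.2 htr.symm
  have hquad : ∀ (η : IrrCharacter G) (θ : ℂ), η ≠ P → classInner ρ.character η = 1 →
      (∀ z, M (proj ρ η z) = θ • proj ρ η z) →
      θ * θ = (k : ℂ) + lam * θ + mu * (-1 - θ) ∧ IsIntegral ℤ θ := by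
    intro η θ hη h1 hθ
    obtain ⟨f, hf⟩ := hnz η h1
    refine ⟨?_, isIntegral_of_orbOp a₀ b hf (hθ f)⟩
    obtain ⟨z, hz⟩ : ∃ z, proj ρ η f z ≠ 0 := Function.ne_iff.1 hf
    set w := proj ρ η f with hw
    have e1 : (M ∘ₗ M) w z = θ * θ * w z := by
      rw [LinearMap.comp_apply, hθ, map_smul, hθ, smul_smul]; rfl
    have e2 : (M w) z = θ * w z := by rw [hθ]; rfl
    rw [apply_eq_sum] at e1 e2
    have e3 : ∑ y, w y = 0 := sum_proj_eq_zero hη f
    have e4 : ∀ y, entry (M ∘ₗ M) z y * w y = (lam : ℂ) * (entry M z y * w y) +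
        (mu : ℂ) * (w y - entry M z y * w y) +
        (if z = y then ((k : ℂ) - (mu : ℂ)) * w y else 0) := fun y => by
      rw [hMM]
      split_ifs with h
      · subst h
        rw [hM, entry_orbOp, if_neg]
        · ring
        · rintro ⟨g, h1, h2⟩
          exact hb (smul_left_cancel g (h2.trans h1.symm))
      · ring
    simp only [e4, Finset.sum_add_distrib, ← Finset.mul_sum, Finset.sum_sub_distrib, e2, e3,
      Finset.sum_ite_eq, Finset.mem_univ, if_true] at e1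
    refine mul_right_cancel₀ hz ?_
    linear_combination -e1
  obtain ⟨hq1, hi1⟩ := hquad χ θ₁ hP1 h11 hθ₁
  obtain ⟨hq2, -⟩ := hquad ψ θ₂ hP2 h22 hθ₂
  have hPM : ∀ z, M (proj ρ P z) = (k : ℂ) • proj ρ P z := fun z => funext fun y => by
    rw [apply_eq_sum, Pi.smul_apply, smul_eq_mul, hkdef, ← sum_entry_orbOp (G := G) a₀ b y, Finset.sum_mul]
    exact Finset.sum_congr rfl fun w _ => by rw [proj_principal_apply z w y]
  have hdecomp : ∀ (S : (Ω → ℂ) →ₗ[ℂ] (Ω → ℂ)) (s₀ s₁ s₂ : ℂ), (∀ z, S (proj ρ P z) = s₀ • proj ρ P z) →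
      (∀ z, S (proj ρ χ z) = s₁ • proj ρ χ z) → (∀ z, S (proj ρ ψ z) = s₂ • proj ρ ψ z) →
      ∀ g : G, LinearMap.trace ℂ (Ω → ℂ) (S ∘ₗ ρ g) =
        s₀ + s₁ * (χ : G → ℂ) g + s₂ * (ψ : G → ℂ) g := by
    intro S s₀ s₁ s₂ h0 h1 h2 g
    have e : S = s₀ • proj ρ P + s₁ • proj ρ χ + s₂ • proj ρ ψ := by
      refine LinearMap.ext fun z => ?_
      conv_lhs => rw [← sum_proj ρ z, map_sum]
      rw [← Finset.sum_subset (Finset.subset_univ ({P, χ, ψ} : Finset (IrrCharacter G))) fun η _ hη => ?_,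
        Finset.sum_insert (by
          simp only [Finset.mem_insert, Finset.mem_singleton, not_or]
          exact ⟨Ne.symm hP1, Ne.symm hP2⟩),
        Finset.sum_pair hχψ, h0, h1, h2]
      · simp [add_assoc]
      · simp only [Finset.mem_insert, Finset.mem_singleton] at hη
        have h' := proj_eq_zero (Ω := Ω) (χ := η) (by rw [hμ, if_neg hη])
        rw [h', LinearMap.zero_apply, map_zero]
    have hcm : ∀ η : IrrCharacter G, proj ρ η ∘ₗ ρ g = ρ g ∘ₗ proj ρ η := fun η =>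
      LinearMap.ext fun z => proj_comm ρ η g z
    rw [e, LinearMap.add_comp, LinearMap.add_comp, LinearMap.smul_comp, LinearMap.smul_comp,
      LinearMap.smul_comp, map_add, map_add, map_smul, map_smul, map_smul, hcm, hcm, hcm,
      trace_comp_proj ρ P hP0, trace_comp_proj ρ χ h11, trace_comp_proj ρ ψ h22,
      hP, CfsgLib.Chars.principal_apply]
    simp only [smul_eq_mul, mul_one]
  have hρ1 : ∀ S : (Ω → ℂ) →ₗ[ℂ] (Ω → ℂ), S ∘ₗ ρ 1 = S := fun S => by
    rw [map_one]; exact LinearMap.comp_id S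
  have hlin : (0 : ℂ) = k + θ₁ * (2 * (p : ℂ) - 1) + θ₂ * p := by
    have h := hdecomp M k θ₁ θ₂ hPM hθ₁ hθ₂ 1
    rw [hρ1, trace_orbOp hb, hχ, hψ] at h
    exact h
  have hcardC : (Fintype.card Ω : ℂ) = 3 * p := by
    rw [← Nat.card_eq_fintype_card, hcard]; push_cast; ring
  have hsq : (3 * p * k : ℂ) = k * k + θ₁ * θ₁ * (2 * (p : ℂ) - 1) + θ₂ * θ₂ * p := by
    have h := hdecomp (M ∘ₗ M) (k * k) (θ₁ * θ₁) (θ₂ * θ₂)
      (fun z => by rw [LinearMap.comp_apply, hPM, map_smul, hPM, smul_smul])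
      (fun z => by rw [LinearMap.comp_apply, hθ₁, map_smul, hθ₁, smul_smul])
      (fun z => by rw [LinearMap.comp_apply, hθ₂, map_smul, hθ₂, smul_smul]) 1
    rw [hρ1, trace_eq_sum_entry, hχ, hψ] at h
    simp only [hMM, if_true, Finset.sum_const, Finset.card_univ, nsmul_eq_mul, hcardC] at h
    exact h
  -- the eigenvalues are rational integers
  have hne : θ₁ ≠ θ₂ := fun h => by
    subst h
    obtain ⟨N, hN⟩ : ∃ N : ℕ, 3 * p = N + 1 := ⟨k + l, by omega⟩
    have hN' : (N : ℂ) + 1 = 3 * p := by exact_mod_cast hN.symm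
    have hN0 : (N : ℂ) ≠ 0 := Nat.cast_ne_zero.2 (by omega)
    have hdvd : N ∣ k := CfsgLib.Chars.dvd_of_isIntegral_div (by omega) (by
      rw [show (k : ℂ) / (N : ℂ) = -θ₁ by
        rw [div_eq_iff hN0]; linear_combination -hlin + θ₁ * hN']
      exact hi1.neg)
    have := Nat.le_of_dvd hkpos hdvd
    omega
  have hadd : θ₁ + θ₂ = (lam : ℂ) - mu := by
    have : (θ₁ - θ₂) * (θ₁ + θ₂ - ((lam : ℂ) - mu)) = 0 := by linear_combination hq1 - hq2
    exact sub_eq_zero.1 ((mul_eq_zero.1 this).resolve_left (sub_ne_zero.2 hne))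
  set q : ℚ := -((k : ℚ) + p * ((lam : ℚ) - mu)) / ((p : ℚ) - 1) with hqdef
  have hp1 : (p : ℂ) - 1 ≠ 0 := sub_ne_zero.2 (by norm_cast; omega)
  have hqθ : θ₁ = (q : ℂ) := by
    rw [hqdef]; push_cast
    rw [eq_div_iff hp1]
    linear_combination -hlin - (p : ℂ) * hadd
  obtain ⟨x, hx⟩ := CfsgLib.Chars.exists_int_of_isIntegral_rat q (hqθ ▸ hi1)
  have hθx : θ₁ = (x : ℂ) := by rw [hqθ, hx]; push_cast; ring
  set y : ℤ := (lam : ℤ) - mu - x with hy
  have hθy : θ₂ = (y : ℂ) := by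
    rw [hy]; push_cast; linear_combination hadd - hθx
  refine ⟨k, l, x, y, hkpos, hlpos, hsum, ?_, ?_, hsub, fun s => ?_⟩
  · have : ((0 : ℤ) : ℂ) = (((k : ℤ) + (2 * (p : ℤ) - 1) * x + p * y : ℤ) : ℂ) := by
      push_cast; rw [← hθx, ← hθy]; linear_combination hlin
    exact (Int.cast_injective this).symm
  · have : ((3 * p * k : ℤ) : ℂ) =
        (((k : ℤ) ^ 2 + (2 * (p : ℤ) - 1) * x ^ 2 + p * y ^ 2 : ℤ) : ℂ) := by
      push_cast; rw [← hθx, ← hθy]; linear_combination hsq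
    exact (Int.cast_injective this).symm
  · rw [← hθx, ← hθy, ← hdecomp M k θ₁ θ₂ hPM hθ₁ hθ₂ s, trace_eq_sum_entry, Nat.card_eq_fintype_card,
      Fintype.card_subtype, ← Finset.sum_boole]
    refine Finset.sum_congr rfl fun u _ => ?_
    have : entry (M ∘ₗ ρ s) u u = entry M u (s • u) := by
      show M (ρ s (Pi.single u 1)) u = M (Pi.single (s • u) 1) u
      have e : ρ s (Pi.single u (1 : ℂ)) = Pi.single (s • u) 1 := by
        funext z
        simp only [hρ, permRep_apply', Pi.single_apply, inv_smul_eq_iff]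
      rw [e]
    rw [this, hM, entry_orbOp]

end eigen

/-- Piece: the eigenvalues of the rank three graph. -/
theorem param : ParamStmt.{u, v} := by
  intro G _ _ Ω _ _ p h hp4
  classical
  have := Fintype.ofFinite G
  have := Fintype.ofFinite Ω
  have : IsPretransitive G Ω := h.prim.toIsPretransitive
  obtain ⟨χ, ψ, hχd, hψd, hπ, hone⟩ := h.chars
  have hprime := h.prime
  have hp := h.three_lt
  have hχ : (χ : G → ℂ) 1 = 2 * (p : ℂ) - 1 := by
    rw [CfsgLib.CharApps.deg_eq χ, hχd, Nat.cast_sub (by omega)]; push_cast; ring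
  have hψ : (ψ : G → ℂ) 1 = p := by rw [CfsgLib.CharApps.deg_eq ψ, hψd]
  have hπ' : ∀ g : G, (Cfsg.permRep ℂ G Ω).character g = 1 + (χ : G → ℂ) g + (ψ : G → ℂ) g :=
    fun g => by rw [character_perm]; exact hπ g
  have hinv : ∀ t : G, orderOf t = 2 → (χ : G → ℂ) t = 1 ∧ (ψ : G → ℂ) t = 1 ∧ fx Ω t = 3 := by
    intro t ht
    have h3 : fx Ω t = 3 := by rw [h.fix t ht, f0, if_pos hp4]
    have h1 : (χ : G → ℂ) t = 1 := hone t (by rw [ht])
    refine ⟨h1, ?_, h3⟩
    have h2 := hπ t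
    rw [h3, h1] at h2
    push_cast at h2
    linear_combination -h2
  obtain ⟨P, hPn⟩ := h.norm
  obtain ⟨t, ht⟩ : ∃ t : G, orderOf t = 2 := by
    have hd : 2 ∣ Nat.card G :=
      dvd_trans ⟨p, hPn⟩ (Subgroup.card_subgroup_dvd_card (Subgroup.normalizer ((P : Subgroup G) : Set G)))
    have : Fact (Nat.Prime 2) := ⟨Nat.prime_two⟩
    exact exists_prime_orderOf_dvd_card' 2 hd
  obtain ⟨a₀, ha₀⟩ : ∃ a : Ω, t • a ≠ a := by
    by_contra! hall
    have := h.faithful
    have : t = 1 := FaithfulSMul.eq_of_smul_eq_smul fun a : Ω => by rw [hall a, one_smul]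
    rw [this, orderOf_one] at ht
    omega
  have htt : t * t = 1 := by rw [← pow_two, ← ht]; exact pow_orderOf_eq_one t
  obtain ⟨k, l, x, y, hk, hl, hkl, hlin, hsq, hsub, htr⟩ :=
    rank_three_eigen hp hprime h.card χ ψ hχ hψ hπ' t htt a₀ ha₀
  obtain ⟨r, hr, hcase⟩ := param_arith hp hprime hk (by omega) hlin hsq
  have hlZ : (l : ℤ) = 3 * (p : ℤ) - 1 - k := by omega
  refine ⟨r, hr, fun u v huv => ?_, fun s hs => ?_⟩
  · by_cases hg : ∃ g : G, g • a₀ = u ∧ g • (t • a₀) = v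
    · rw [(hsub u v huv).1 hg]
      rcases hcase with ⟨h1, -, -⟩ | ⟨h1, -, -⟩
      · exact Or.inl h1
      · exact Or.inr h1
    · rw [(hsub u v huv).2 hg, hlZ]
      rcases hcase with ⟨-, h2, -⟩ | ⟨-, h2, -⟩
      · exact Or.inr h2
      · exact Or.inl h2
  · obtain ⟨hs1, hs2, hs3⟩ := hinv s hs
    have hcount : (Nat.card {u : Ω // ∃ g : G, g • a₀ = u ∧ g • (t • a₀) = s • u} : ℤ) =
        (k : ℤ) + x + y := by
      have h' := htr s
      rw [hs1, hs2, mul_one, mul_one] at h'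
      exact Int.cast_injective (α := ℂ) (by push_cast; exact h')
    have hmoved : ∀ u : Ω, (∃ g : G, g • a₀ = u ∧ g • (t • a₀) = s • u) → s • u ≠ u := by
      rintro u ⟨g, rfl, h2⟩ hfix
      exact ha₀ (smul_left_cancel g (h2.trans hfix))
    rcases hcase with ⟨h1, -, h3⟩ | ⟨-, h2, h3⟩
    · have hpos : 0 < Nat.card {u : Ω // ∃ g : G, g • a₀ = u ∧ g • (t • a₀) = s • u} := by omega
      obtain ⟨⟨u, hu⟩⟩ := (Nat.card_pos_iff.1 hpos).1
      refine ⟨u, hmoved u hu, ?_⟩
      rw [(hsub u (s • u) (hmoved u hu).symm).1 hu]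
      exact h1
    · obtain ⟨u, hu, hnot⟩ : ∃ u : Ω, s • u ≠ u ∧ ¬ ∃ g : G, g • a₀ = u ∧ g • (t • a₀) = s • u := by
        by_contra! hall
        have e : Nat.card {u : Ω // ∃ g : G, g • a₀ = u ∧ g • (t • a₀) = s • u} + fx Ω s = Nat.card Ω := by
          rw [fx, Nat.card_congr (Equiv.subtypeEquivRight fun u => (⟨hmoved u, hall u⟩ :
              (∃ g : G, g • a₀ = u ∧ g • (t • a₀) = s • u) ↔ s • u ≠ u)),
            Nat.add_comm, ← Nat.card_sum]
          exact Nat.card_congr (Equiv.sumCompl fun u : Ω => s • u = u)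
        rw [hs3, h.card] at e
        omega
      refine ⟨u, hu, ?_⟩
      rw [(hsub u (s • u) hu.symm).2 hnot, hlZ]
      exact h2

end CfsgLib.DegreeThreeP
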