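import Cfsg.Agent.Lib.DegreeThreeP.Defs
import Cfsg.Agent.Lib.Small.TwoPowerTwoPrimes
import Cfsg.Agent.Lib.Perm.WielandtTwoP.Small
import Cfsg.Agent.Lib.Chars.DefectZero
import Cfsg.Agent.S4441

/-!
# Simple groups of degree `3p`: the principal block and the permutation character
-/

set_option autoImplicit false
set_option linter.style.haveILetI false
set_option linter.unusedSectionVars false

namespace CfsgLib.DegreeThreeP

open MulAction Cfsg CfsgLib.Chars

universe u v

variable {G : Type u} [Group G] [Finite G]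

/-- A simple nonabelian group has no character of degree one but the principal one. -/
theorem eq_principal_of_deg_one [IsSimpleGroup G] (hna : ¬ IsMulCommutative G)
    (η : IrrCharacter G) (h1 : charDegree (η : G → ℂ) = 1) : η = principal G := by
  obtain ⟨n, ρ, -, hρ⟩ := η.2
  have hn : n = 1 := by
    have h := CharApps.deg_eq η
    rw [h1, ← hρ, Representation.char_one, Module.finrank_fin_fun] at h
    exact_mod_cast h
  subst hn
  have hscal : ∀ f : Module.End ℂ (Fin 1 → ℂ), f = (f (fun _ => 1) 0) • 1 := fun f =>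
    LinearMap.ext fun x => by
      have hx : x = x 0 • (fun _ => (1 : ℂ)) := funext fun i => by simp [Subsingleton.elim i 0]
      funext i
      rw [Subsingleton.elim i 0]
      conv_lhs => rw [hx, map_smul]
      simp [mul_comm]
  rcases (IsSimpleGroup.eq_bot_or_eq_top_of_normal ρ.ker inferInstance) with h | h
  · refine absurd ⟨⟨fun a b => (MonoidHom.ker_eq_bot_iff ρ).1 h ?_⟩⟩ hna
    rw [map_mul, map_mul, hscal (ρ a), hscal (ρ b)]
    simp [smul_smul, mul_comm]
  · refine Subtype.ext (funext fun g => ?_)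
    rw [principal_apply, ← hρ, Representation.character,
      show ρ g = 1 from MonoidHom.mem_ker.1 (h ▸ Subgroup.mem_top g), LinearMap.trace_one,
      Module.finrank_fin_fun, Nat.cast_one]

theorem deg_ne_two [IsSimpleGroup G] (hna : ¬ IsMulCommutative G) (h2 : 2 ∣ Nat.card G)
    (η : IrrCharacter G) (hη : η ≠ principal G) : charDegree (η : G → ℂ) ≠ 2 := by
  intro hd
  obtain ⟨n, ρ, -, hρ⟩ := η.2
  have hn : n = 2 := by
    have h := CharApps.deg_eq η
    rw [hd, ← hρ, Representation.char_one, Module.finrank_fin_fun] at h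
    exact_mod_cast h
  subst hn
  have hZ : Subgroup.center G = ⊥ := by
    rcases IsSimpleGroup.eq_bot_or_eq_top_of_normal (Subgroup.center G) inferInstance with h | h
    · exact h
    · exact absurd ⟨⟨fun a b => (Subgroup.mem_center_iff.1 (h ▸ Subgroup.mem_top a) b).symm⟩⟩ hna
  refine CfsgLib.WielandtTwoP.no_two_dim hZ h2 ρ ((MonoidHom.ker_eq_bot_iff ρ).1 ?_)
  rcases IsSimpleGroup.eq_bot_or_eq_top_of_normal ρ.ker inferInstance with h | h
  · exact h
  · exfalso
    have hval : ∀ g, (η : G → ℂ) g = 2 := fun g => by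
      rw [← hρ, Representation.character,
        show ρ g = 1 from MonoidHom.mem_ker.1 (h ▸ Subgroup.mem_top g), LinearMap.trace_one,
        Module.finrank_fin_fun, Nat.cast_ofNat]
    haveI := Fintype.ofFinite G
    haveI := irrFintype G
    classical
    have h3 := inner_irr η (principal G)
    rw [if_neg hη, inner_def] at h3
    simp [hval, principal_apply] at h3

theorem arith {p : ℕ} (hp : p.Prime) (h3 : 3 < p) {a M R : ℕ} {X T n : ℕ} {δ ε : ℤ}
    (hn : 2 * n + 1 = p) (hδ : δ = 1 ∨ δ = -1) (hε : ε = 1 ∨ ε = -1)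
    (hX : 2 ≤ X) (hT : 3 ≤ T) (hXm : (X : ℤ) ≡ δ [ZMOD p]) (hTm : (T : ℤ) ≡ ε * 2 [ZMOD p])
    (hrel : ε * (T : ℤ) = 1 + δ * X) (hu : (1 : ℤ) + a * δ = M * ε)
    (hdeg : 3 * p = 1 + a * X + n * M * T + p * R) :
    (δ = -1 ∧ ε = -1 ∧ X = p - 1) ∨
    (δ = -1 ∧ ε = -1 ∧ X = 2 * p - 1 ∧ a = 1 ∧ M = 0 ∧ R = 1) ∨
    (δ = -1 ∧ ε = -1 ∧ X = 3 * p - 1 ∧ a = 1 ∧ M = 0 ∧ R = 0) ∨
    (p = 5 ∧ δ = 1 ∧ ε = 1 ∧ X = 6 ∧ a = 0 ∧ M = 1 ∧ R = 0) := by
  obtain ⟨i, hi⟩ := hXm.symm.dvd
  have hp5 : 5 ≤ p := by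
    rcases Nat.lt_or_ge p 5 with h | h
    · exact absurd (show p = 4 by omega ▸ hp) (by norm_num)
    · exact h
  rcases hδ with rfl | rfl
  · -- the sign `δ = 1`
    rcases hε with rfl | rfl
    · have hM : M = a + 1 := by omega
      have hTX : T = X + 1 := by omega
      have hi0 : 1 ≤ i := by nlinarith
      have hXp : p + 1 ≤ X := by nlinarith
      subst hM hTX
      have hp6 : p ≤ 6 := by
        by_contra hc
        nlinarith [Nat.mul_le_mul (show 1 * (p + 2) ≤ (a + 1) * (X + 1) from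
          Nat.mul_le_mul (by omega) (by omega)) (show 3 ≤ n by omega)]
      have hpe : p = 5 := by
        rcases (show p = 5 ∨ p = 6 by omega) with h | h
        · exact h
        · exact absurd (h ▸ hp) (by norm_num)
      subst hpe
      have hn2 : n = 2 := by omega
      subst hn2
      have ha : a = 0 := by
        by_contra hc
        nlinarith [Nat.mul_le_mul (show 4 ≤ 2 * (a + 1) by omega) (show 7 ≤ X + 1 by omega),
          Nat.zero_le (a * X)]
      subst ha
      simp only [zero_mul, zero_add, mul_one, add_zero] at hdeg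
      have hR : R = 0 := by omega
      subst hR
      exact Or.inr (Or.inr (Or.inr ⟨rfl, rfl, rfl, by omega, rfl, by simp, rfl⟩))
    · omega
  · rcases hε with rfl | rfl
    · omega
    · have hM : M + 1 = a := by omega
      have hTX : T + 1 = X := by omega
      have hi0 : 1 ≤ i := by nlinarith
      rcases (show i = 1 ∨ i = 2 ∨ i = 3 ∨ 4 ≤ i by omega) with rfl | rfl | rfl | hi4
      · exact Or.inl ⟨rfl, rfl, by omega⟩
      · have hX' : X = 2 * p - 1 := by omega
        have ha : a = 1 := by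
          by_contra hc
          have h1 := Nat.mul_le_mul (show 2 ≤ a by omega) (le_refl X)
          have h2 := Nat.zero_le (n * M * T)
          have h3' := Nat.zero_le (p * R)
          omega
        subst ha
        have hM0 : M = 0 := by omega
        subst hM0
        have hR : R = 1 := by
          simp only [one_mul, mul_zero, zero_mul, add_zero] at hdeg
          have : p * R = p * 1 := by omega
          exact Nat.eq_of_mul_eq_mul_left hp.pos this
        exact Or.inr (Or.inl ⟨rfl, rfl, hX', rfl, rfl, hR⟩)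
      · have hX' : X = 3 * p - 1 := by omega
        have ha : a = 1 := by
          by_contra hc
          have h1 := Nat.mul_le_mul (show 2 ≤ a by omega) (le_refl X)
          have h2 := Nat.zero_le (n * M * T)
          have h3' := Nat.zero_le (p * R)
          omega
        subst ha
        have hM0 : M = 0 := by omega
        subst hM0
        have hR : R = 0 := by
          simp only [one_mul, mul_zero, zero_mul, add_zero] at hdeg
          have : p * R = 0 := by omega
          rcases mul_eq_zero.1 this with h | h <;> omega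
        exact Or.inr (Or.inr (Or.inl ⟨rfl, rfl, hX', rfl, rfl, hR⟩))
      · exfalso
        have h4 : 4 * p ≤ X + 1 := by nlinarith
        have h1 := Nat.mul_le_mul (show 1 ≤ a by omega) (le_refl X)
        have h2 := Nat.zero_le (n * M * T)
        have h3' := Nat.zero_le (p * R)
        omega

theorem shape : ShapeStmt.{u, v} := by
  intro G _ _ Ω _ _ p h
  classical
  haveI := Fact.mk h.prime
  haveI := h.simple
  haveI := h.prim
  haveI : IsPretransitive G Ω := inferInstance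
  haveI := Fintype.ofFinite Ω
  haveI := Fintype.ofFinite G
  haveI := irrFintype G
  have hp := h.prime
  have h3 := h.three_lt
  obtain ⟨M, hM⟩ := CharApps.exists_pModular p
  haveI := hM.2.1.isPrime
  obtain ⟨P, hN⟩ := h.norm
  have hP := h.sylow_card P
  have hrel2 : (Subgroup.centralizer ((P : Subgroup G) : Set G)).relIndex
      (Subgroup.normalizer ((P : Subgroup G) : Set G)) = 2 := by
    rw [h.selfCentral P, Subgroup.relIndex]
    have h1 := Subgroup.card_mul_index ((P : Subgroup G).subgroupOf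
      (Subgroup.normalizer ((P : Subgroup G) : Set G)))
    rw [Nat.card_congr (Subgroup.subgroupOfEquivOfLe Subgroup.le_normalizer).toEquiv, hP, hN,
      mul_comm 2 p] at h1
    exact Nat.eq_of_mul_eq_mul_left hp.pos h1
  have h2G : 2 ∣ Nat.card G := (dvd_mul_right 2 p).trans (hN ▸ Subgroup.card_subgroup_dvd_card _)
  have hsq : ¬ p ^ (1 + 1) ∣ Nat.card G := by
    intro hd
    have h1 : p ^ 2 ∣ Nat.card (P : Subgroup G) := by
      rw [P.card_eq_multiplicity]
      exact pow_dvd_pow p ((hp.pow_dvd_iff_le_factorization Nat.card_pos.ne').1 hd)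
    rw [hP] at h1
    have := Nat.le_of_dvd hp.pos h1
    nlinarith
  obtain ⟨X, Yset, hB, hdisj, hX, hY, εX, ε, hXp, hε, hYdeg, hYeq, hrel⟩ :=
    Agent.S4441.result p M hM (by omega) P hP 2 hrel2
  have hdone : charDegree (principal G : G → ℂ) = 1 :=
    (CharApps.deg_eq_one_iff (principal G)).mp (principal_apply _)
  have hmemB : ∀ ψ : IrrCharacter G, ¬ p ∣ charDegree (ψ : G → ℂ) → ψ ∈ X ∪ Yset := fun ψ hψ =>
    hB ▸ Small.mem_principalBlock_of_selfCentral hM P hP (h.selfCentral P) ψ hψ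
  have hεc : ε = 1 ∨ ε = -1 := hε
  have hprin : principal G ∈ X := by
    refine (hmemB (principal G) (by rw [hdone]; exact hp.not_dvd_one)).resolve_right fun hy => ?_
    have h1 := (hYdeg _ hy).symm.dvd
    rw [hdone] at h1
    have h2 := Int.le_of_dvd (a := (p : ℤ)) (b := 3) (by norm_num)
    rcases hεc with rfl | rfl <;> push_cast at h1 <;> norm_num at h1
    · have := (Int.natCast_dvd.1 h1)
      simp at this
      omega
    · have := h2 h1
      omega
  obtain ⟨ξ, hξX, hξu⟩ := (Nat.card_eq_two_iff' (⟨principal G, hprin⟩ : X)).1 hX |>.exists.elim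
    fun z hz => (show ∃ ξ ∈ X, ξ ≠ principal G from ⟨z.1, z.2, fun h => hz (Subtype.ext h)⟩)
  have hXeq : X = {principal G, ξ} := by
    refine Set.Subset.antisymm (fun z hz => ?_)
      (Set.insert_subset hprin (Set.singleton_subset_iff.2 hξX))
    by_contra hne
    simp only [Set.mem_insert_iff, Set.mem_singleton_iff, not_or] at hne
    have := ((Nat.card_eq_two_iff' (⟨principal G, hprin⟩ : X)).1 hX).unique
      (y₁ := ⟨z, hz⟩) (y₂ := ⟨ξ, hξX⟩) (fun h => hne.1 (congrArg Subtype.val h))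
      (fun h => hξu (congrArg Subtype.val h))
    exact hne.2 (congrArg Subtype.val this)
  have hεp : εX (principal G) = 1 := by
    refine (hXp _ hprin).1.resolve_right fun h2 => ?_
    have h1 := (hXp _ hprin).2.1.symm.dvd
    rw [hdone, h2] at h1
    have := Int.le_of_dvd (by norm_num) h1
    push_cast at this
    omega
  set δ : ℤ := εX ξ with hs
  have hδ : δ = 1 ∨ δ = -1 := (hXp ξ hξX).1
  set Y : Finset (IrrCharacter G) := Yset.toFinset with hYdef
  have hmemY : ∀ θ, θ ∈ Y ↔ θ ∈ Yset := fun θ => Set.mem_toFinset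
  have hξY : ξ ∉ Y := fun hy => Set.disjoint_left.1 hdisj hξX ((hmemY ξ).1 hy)
  have h1Y : principal G ∉ Y := fun hy => Set.disjoint_left.1 hdisj hprin ((hmemY _).1 hy)
  have hcY : 2 * Y.card + 1 = p := by
    obtain ⟨r, hr⟩ := hp.odd_of_ne_two (by omega)
    rw [hYdef, Set.toFinset_card, ← Nat.card_eq_fintype_card, hY]
    omega
  have hregrel : ∀ θ ∈ Y, ∀ g : G, ¬ p ∣ orderOf g →
      (ε : ℂ) * (θ : G → ℂ) g = 1 + (δ : ℂ) * (ξ : G → ℂ) g := by
    intro θ hθ g hg
    have h1 := hrel θ ((hmemY θ).1 hθ) g hg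
    rw [hXeq, finsum_mem_pair (Ne.symm hξu), hεp, principal_apply] at h1
    simpa using h1
  have hreg1 : ¬ p ∣ orderOf (1 : G) := by rw [orderOf_one]; exact hp.not_dvd_one
  have hdegrel : ∀ θ ∈ Y,
      ε * (charDegree (θ : G → ℂ) : ℤ) = 1 + δ * charDegree (ξ : G → ℂ) := by
    intro θ hθ
    have h1 := hregrel θ hθ 1 hreg1
    rw [CharApps.deg_eq, CharApps.deg_eq] at h1
    exact_mod_cast h1
  have hξval : ∀ x : G, orderOf x = p → (ξ : G → ℂ) x = (δ : ℂ) := by
    intro x hx
    obtain ⟨Q, hQ⟩ := (IsPGroup.of_card (n := 1) (show Nat.card (Subgroup.zpowers x) = p ^ 1 by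
      rw [Nat.card_zpowers, hx, pow_one])).exists_le_sylow
    obtain ⟨c, hc⟩ := MulAction.exists_smul_eq G Q P
    have hmem : c * x * c⁻¹ ∈ (P : Subgroup G) := by
      rw [← hc, Sylow.coe_subgroup_smul, ← MulAut.conj_apply]
      exact Subgroup.smul_mem_pointwise_smul _ _ _ (hQ (Subgroup.mem_zpowers x))
    have hne : c * x * c⁻¹ ≠ 1 := fun e => hp.ne_one (by
      rw [← hx, conj_eq_one_iff.1 e, orderOf_one])
    have h1 := (hXp ξ hξX).2.2 _ hmem hne 1 (one_mem _) hreg1
    rw [mul_one] at h1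
    rwa [isClassFunction_irr ξ x c] at h1
  have hother : ∀ η : IrrCharacter G, η ≠ principal G → η ≠ ξ → η ∉ Y →
      p ∣ charDegree (η : G → ℂ) := by
    intro η h1 h2 h3'
    by_contra hd
    rcases hmemB η hd with h4 | h4
    · rw [hXeq] at h4
      rcases h4 with h4 | h4
      exacts [h1 h4, h2 h4]
    · exact h3' ((hmemY η).2 h4)
  have hvanish : ∀ η : IrrCharacter G, η ≠ principal G → η ≠ ξ → η ∉ Y →
      ∀ x : G, orderOf x = p → (η : G → ℂ) x = 0 := fun η h1 h2 h3' x hx =>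
    eq_zero_of_dvd_orderOf η.2 (n := 1) hp (CharApps.deg_eq η) hsq
      (by rw [pow_one]; exact hother η h1 h2 h3') hx.symm.dvd
  -- a sum over the irreducible characters
  have hsplit : ∀ F : IrrCharacter G → ℂ, ∑ η, F η = F (principal G) + F ξ + ∑ θ ∈ Y, F θ +
      ∑ η ∈ (insert (principal G) (insert ξ Y))ᶜ, F η := by
    intro F
    rw [← Finset.sum_add_sum_compl (insert (principal G) (insert ξ Y)) F,
      Finset.sum_insert (by simp [Ne.symm hξu, h1Y]), Finset.sum_insert hξY]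
    ring
  have hcompl : ∀ η ∈ (insert (principal G) (insert ξ Y))ᶜ,
      η ≠ principal G ∧ η ≠ ξ ∧ η ∉ Y := fun η hη => by
    simpa [not_or] using hη
  obtain ⟨θ₀, hθ₀⟩ : ∃ θ, θ ∈ Y := by
    exact Finset.card_pos.1 (by omega)
  have hTeq : ∀ θ ∈ Y, charDegree (θ : G → ℂ) = charDegree (θ₀ : G → ℂ) := by
    intro θ hθ
    have h1 := hdegrel θ hθ
    have h2 := hdegrel θ₀ hθ₀
    rcases hεc with rfl | rfl <;> omega
  set T := charDegree (θ₀ : G → ℂ) with hT
  have hT0 : (T : ℂ) ≠ 0 := Nat.cast_ne_zero.2 (CharApps.deg_pos θ₀).ne'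
  have hεrel : (ε : ℂ) * T = 1 + (δ : ℂ) * charDegree (ξ : G → ℂ) := by
    exact_mod_cast hdegrel θ₀ hθ₀
  have hsum : ∀ x : G, orderOf x = p → ∑ θ ∈ Y, (θ : G → ℂ) x = -(ε : ℂ) := by
    intro x hx
    have hx1 : ¬ IsConj (1 : G) x := fun e => hp.ne_one (by
      rw [← hx, isConj_one_right.1 e, orderOf_one])
    have e1 : ∑ θ ∈ Y, (θ : G → ℂ) x * (starRingEnd ℂ) ((θ : G → ℂ) 1) =
        (∑ θ ∈ Y, (θ : G → ℂ) x) * (T : ℂ) := by
      rw [Finset.sum_mul]
      refine Finset.sum_congr rfl fun θ hθ => ?_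
      rw [CharApps.deg_eq, hTeq θ hθ, Complex.conj_natCast]
    have e2 : ∑ η ∈ (insert (principal G) (insert ξ Y))ᶜ,
        (η : G → ℂ) x * (starRingEnd ℂ) ((η : G → ℂ) 1) = 0 :=
      Finset.sum_eq_zero fun η hη => by
        obtain ⟨a, b, c⟩ := hcompl η hη
        rw [hvanish η a b c x hx, zero_mul]
    have h1 := second_orthogonality x (1 : G)
    rw [if_neg hx1, hsplit, hξval x hx, principal_apply, principal_apply, map_one, mul_one,
      e1, e2, CharApps.deg_eq ξ, Complex.conj_natCast] at h1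
    refine mul_right_cancel₀ hT0 ?_
    linear_combination h1 + hεrel
  have hD : Data G Ω p ξ Y δ ε :=
    ⟨h, hξu, hξY, h1Y, hcY, hδ, hεc, hregrel, hξval, hsum, hother, hvanish⟩
  -- the permutation character
  have hπ : IsCharacter G (fun g : G => (fx Ω g : ℂ)) := isCharacter_fixedBy
  choose c hc using fun η : IrrCharacter G => inner_irr_right_nat hπ η
  have hexp : ∀ g : G, (fx Ω g : ℂ) = ∑ η, (c η : ℂ) * (η : G → ℂ) g := by
    intro g
    have h1 := congrFun (classFun_eq_sum (isClassFunction_of_isCharacter hπ)) g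
    simp only [hc, Finset.sum_apply, Pi.smul_apply, smul_eq_mul] at h1
    exact h1
  have hc1 : c (principal G) = 1 := by
    refine Nat.cast_injective (R := ℂ) ?_
    rw [← hc]
    show classInner _ (fun _ => (1 : ℂ)) = _
    unfold fx
    rw [inner_fixedBy_one, Nat.cast_one, Nat.cast_eq_one, Nat.card_eq_one_iff_unique]
    obtain ⟨a⟩ : Nonempty Ω := Nat.card_pos_iff.1 (by rw [h.card]; omega) |>.1
    refine ⟨⟨fun x y => ?_⟩, ⟨Quotient.mk'' a⟩⟩
    obtain ⟨x, rfl⟩ := Quotient.mk''_surjective x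
    obtain ⟨y, rfl⟩ := Quotient.mk''_surjective y
    rw [Quotient.eq'', orbitRel_apply, mem_orbit_iff]
    exact exists_smul_eq G y x
  -- the exceptional characters occur equally often
  have hcY' : ∀ θ ∈ Y, c θ = c θ₀ := by
    intro θ hθ
    refine Nat.cast_injective (R := ℂ) ?_
    rw [← hc, ← hc, inner_def, inner_def]
    congr 1
    refine Finset.sum_congr rfl fun g _ => ?_
    by_cases hg : p ∣ orderOf g
    · simp [h.free g (h.order_p g hg)]
    · rw [hYeq θ ((hmemY θ).1 hθ) θ₀ ((hmemY θ₀).1 hθ₀) g hg]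
  obtain ⟨x₀, hx₀⟩ := exists_prime_orderOf_dvd_card' (G := G) p (hP ▸ Subgroup.card_subgroup_dvd_card _)
  have hu : (1 : ℤ) + c ξ * δ = c θ₀ * ε := by
    have e1 : ∑ θ ∈ Y, (c θ : ℂ) * (θ : G → ℂ) x₀ = (c θ₀ : ℂ) * -(ε : ℂ) := by
      rw [← hsum x₀ hx₀, Finset.mul_sum]
      exact Finset.sum_congr rfl fun θ hθ => by rw [hcY' θ hθ]
    have e2 : ∑ η ∈ (insert (principal G) (insert ξ Y))ᶜ, (c η : ℂ) * (η : G → ℂ) x₀ = 0 :=
      Finset.sum_eq_zero fun η hη => by
        obtain ⟨a, b, c'⟩ := hcompl η hη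
        rw [hvanish η a b c' x₀ hx₀, mul_zero]
    have h1 := hexp x₀
    rw [h.free x₀ hx₀, Nat.cast_zero, hsplit, hc1, principal_apply, hξval x₀ hx₀, e1, e2] at h1
    push_cast at h1
    have h2 : ((1 + c ξ * δ : ℤ) : ℂ) = ((c θ₀ * ε : ℤ) : ℂ) := by
      push_cast
      linear_combination -h1
    exact_mod_cast h2
  obtain ⟨R, hR⟩ : p ∣ ∑ η ∈ (insert (principal G) (insert ξ Y))ᶜ, c η * charDegree (η : G → ℂ) :=
    Finset.dvd_sum fun η hη => dvd_mul_of_dvd_right
      (hother η (hcompl η hη).1 (hcompl η hη).2.1 (hcompl η hη).2.2) _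
  have hdeg : 3 * p = 1 + c ξ * charDegree (ξ : G → ℂ) + Y.card * c θ₀ * T + p * R := by
    have e1 : ∑ θ ∈ Y, (c θ : ℂ) * (θ : G → ℂ) 1 = ((Y.card * (c θ₀ * T) : ℕ) : ℂ) := by
      rw [← smul_eq_mul, ← Finset.sum_const, Nat.cast_sum]
      exact Finset.sum_congr rfl fun θ hθ => by
        rw [hcY' θ hθ, CharApps.deg_eq, hTeq θ hθ, Nat.cast_mul]
    have e2 : ∑ η ∈ (insert (principal G) (insert ξ Y))ᶜ, (c η : ℂ) * (η : G → ℂ) 1 =
        ((p * R : ℕ) : ℂ) := by
      rw [← hR, Nat.cast_sum]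
      exact Finset.sum_congr rfl fun η _ => by rw [CharApps.deg_eq, Nat.cast_mul]
    have h1 := hexp 1
    rw [hsplit, e1, e2, fx, fixedBy_one_eq_univ, Nat.card_coe_set_eq, Set.ncard_univ, h.card, hc1,
      principal_apply, CharApps.deg_eq ξ] at h1
    refine Nat.cast_injective (R := ℂ) ?_
    rw [h1]
    push_cast
    ring
  have hX2 : 2 ≤ charDegree (ξ : G → ℂ) := by
    have h1 := CharApps.deg_pos ξ
    by_contra hc'
    exact hξu (eq_principal_of_deg_one h.nonab ξ (by omega))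
  have hT3 : 3 ≤ T := by
    have h1 := CharApps.deg_pos θ₀
    have h2 := deg_ne_two h.nonab h2G θ₀ fun e => h1Y (e ▸ hθ₀)
    by_contra hc'
    refine h1Y ?_
    rw [← eq_principal_of_deg_one h.nonab θ₀ (by omega)]
    exact hθ₀
  refine ⟨ξ, Y, δ, ε, hD, ?_⟩
  rcases arith hp h3 hcY hδ hεc hX2 hT3 (hXp ξ hξX).2.1
    (by simpa using hYdeg θ₀ ((hmemY θ₀).1 hθ₀)) (hdegrel θ₀ hθ₀) hu hdeg with
    ⟨a, b, hd⟩ | ⟨a, b, hd, ha, hM0, hR1⟩ | ⟨a, b, hd, ha, hM0, hR0⟩ | ⟨a, b, e, hd, ha, hM0, hR0⟩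
  · exact Or.inl ⟨a, b, hd⟩
  · refine Or.inr (Or.inl ⟨a, b, hd, by omega, ?_⟩)
    rw [hR1, mul_one] at hR
    obtain ⟨ψ, hψ, hψ0⟩ : ∃ ψ ∈ (insert (principal G) (insert ξ Y))ᶜ,
        c ψ * charDegree (ψ : G → ℂ) ≠ 0 := Finset.exists_ne_zero_of_sum_ne_zero (by
          rw [hR]; omega)
    obtain ⟨hψa, hψb, hψc⟩ := hcompl ψ hψ
    have hle := hR.le.trans' (Finset.single_le_sum (f := fun η => c η * charDegree (η : G → ℂ))
      (fun _ _ => Nat.zero_le _) hψ)
    obtain ⟨k, hk⟩ := hother ψ hψa hψb hψc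
    have hck : c ψ * k = 1 := by
      rcases Nat.lt_or_ge (c ψ * k) 2 with h2 | h2
      · have : c ψ * k ≠ 0 := fun h0 => hψ0 (by rw [hk, mul_left_comm, h0, mul_zero])
        omega
      · exfalso
        have h5 := Nat.mul_le_mul_left p h2
        rw [hk, mul_left_comm] at hle
        omega
    obtain ⟨hcψ, hk1⟩ := mul_eq_one.1 hck
    rw [hk1, mul_one] at hk
    refine ⟨ψ, hk, fun g => ?_⟩
    have hzero : ∀ η ∈ (insert (principal G) (insert ξ Y))ᶜ, η ≠ ψ → c η = 0 := by
      intro η hη hne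
      by_contra h0
      have h1 := Finset.add_le_sum (f := fun η => c η * charDegree (η : G → ℂ))
        (fun _ _ => Nat.zero_le _) hη hψ hne
      rw [hR] at h1
      have h4 := Nat.mul_pos (Nat.pos_of_ne_zero h0) (CharApps.deg_pos η)
      simp only [hcψ, hk, one_mul] at h1
      omega
    have e1 : ∑ θ ∈ Y, (c θ : ℂ) * (θ : G → ℂ) g = 0 :=
      Finset.sum_eq_zero fun θ hθ => by rw [hcY' θ hθ, hM0, Nat.cast_zero, zero_mul]
    have e2 : ∑ η ∈ (insert (principal G) (insert ξ Y))ᶜ, (c η : ℂ) * (η : G → ℂ) g =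
        (ψ : G → ℂ) g := by
      rw [Finset.sum_eq_single ψ
        (fun η hη hne => by rw [hzero η hη hne, Nat.cast_zero, zero_mul]) (fun h0 => absurd hψ h0),
        hcψ, Nat.cast_one, one_mul]
    rw [hexp g, hsplit, hc1, ha, e1, e2, principal_apply]
    simp
  all_goals
    have hzero : ∀ η ∈ (insert (principal G) (insert ξ Y))ᶜ, c η = 0 := by
      intro η hη
      rw [hR0, mul_zero, Finset.sum_eq_zero_iff] at hR
      exact (Nat.mul_eq_zero.1 (hR η hη)).resolve_right (CharApps.deg_pos η).ne'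
  · refine Or.inr (Or.inr (Or.inl ⟨a, b, hd, fun g => ?_⟩))
    have e1 : ∑ θ ∈ Y, (c θ : ℂ) * (θ : G → ℂ) g = 0 :=
      Finset.sum_eq_zero fun θ hθ => by rw [hcY' θ hθ, hM0, Nat.cast_zero, zero_mul]
    have e2 : ∑ η ∈ (insert (principal G) (insert ξ Y))ᶜ, (c η : ℂ) * (η : G → ℂ) g = 0 :=
      Finset.sum_eq_zero fun η hη => by rw [hzero η hη, Nat.cast_zero, zero_mul]
    rw [hexp g, hsplit, hc1, ha, e1, e2, principal_apply]
    simp
  · refine Or.inr (Or.inr (Or.inr ⟨a, b, e, hd, fun g => ?_⟩))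
    have e1 : ∑ θ ∈ Y, (c θ : ℂ) * (θ : G → ℂ) g = ∑ θ ∈ Y, (θ : G → ℂ) g :=
      Finset.sum_congr rfl fun θ hθ => by rw [hcY' θ hθ, hM0, Nat.cast_one, one_mul]
    have e2 : ∑ η ∈ (insert (principal G) (insert ξ Y))ᶜ, (c η : ℂ) * (η : G → ℂ) g = 0 :=
      Finset.sum_eq_zero fun η hη => by rw [hzero η hη, Nat.cast_zero, zero_mul]
    rw [hexp g, hsplit, hc1, ha, e1, e2, principal_apply]
    simp

end CfsgLib.DegreeThreeP
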