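import Cfsg.Agent.Lib.DegreeThreeP.Defs
import Cfsg.Agent.Lib.Perm.JordanCycle
import Cfsg.Agent.Lib.Small.Order360

/-!
# Simple groups of degree fifteen of rank three

The order formula gives `|G| = 360 o ^ 2`; for `o ≠ 1` a Sylow subgroup is a Sylow subgroup of the
symmetric group, so it contains a cycle of prime length and Jordan's theorem gives a contradiction.
-/

set_option autoImplicit false
set_option linter.style.haveILetI false
set_option linter.unusedSectionVars false

namespace CfsgLib.DegreeThreeP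

open MulAction Cfsg

universe u v

/-- A subgroup that contains a Sylow subgroup of the symmetric group contains a cycle of that
prime length. -/
theorem exists_cycle_of_pow_dvd {α : Type*} [Fintype α] [DecidableEq α]
    (H : Subgroup (Equiv.Perm α)) {q : ℕ} [hq : Fact q.Prime] (hqα : q ≤ Fintype.card α) {e : ℕ}
    (he : ¬ q ^ (e + 1) ∣ (Fintype.card α).factorial) (hH : q ^ e ∣ Nat.card H) :
    ∃ g ∈ H, g.IsCycle ∧ g.support.card = q := by
  have hcard : Nat.card (Equiv.Perm α) = (Fintype.card α).factorial := by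
    rw [Nat.card_eq_fintype_card, Fintype.card_perm]
  obtain ⟨c, hc⟩ := (Equiv.Perm.exists_with_cycleType_iff α (m := {q})).2
    ⟨by simpa using hqα, by simpa using hq.out.two_le⟩
  have hcyc : c.IsCycle := Equiv.Perm.card_cycleType_eq_one.1 (by rw [hc, Multiset.card_singleton])
  have hsupp : c.support.card = q := by
    rw [← Equiv.Perm.sum_cycleType, hc, Multiset.sum_singleton]
  obtain ⟨R⟩ : Nonempty (Sylow q H) := inferInstance
  have hv1 : (Nat.card H).factorization q ≤ (Nat.card (Equiv.Perm α)).factorization q :=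
    (Nat.factorization_le_iff_dvd Nat.card_pos.ne' Nat.card_pos.ne').2
      (Subgroup.card_subgroup_dvd_card H) q
  have hv2 : (Nat.card (Equiv.Perm α)).factorization q ≤ e := by
    by_contra h
    refine he (hcard ▸ ?_)
    exact (pow_dvd_pow q (not_le.1 h)).trans (Nat.ordProj_dvd _ _)
  have hv3 : e ≤ (Nat.card H).factorization q :=
    (hq.out.pow_dvd_iff_le_factorization Nat.card_pos.ne').1 hH
  let S : Sylow q (Equiv.Perm α) := Sylow.ofCard ((R : Subgroup H).map H.subtype) (by
    rw [Subgroup.card_map_of_injective Subtype.val_injective, R.card_eq_multiplicity]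
    congr 1
    omega)
  obtain ⟨Q, hQ⟩ := (IsPGroup.of_card (n := 1) (show Nat.card (Subgroup.zpowers c) = q ^ 1 by
    rw [Nat.card_zpowers, hcyc.orderOf, hsupp, pow_one])).exists_le_sylow
  obtain ⟨g, hg⟩ := MulAction.exists_smul_eq (Equiv.Perm α) Q S
  refine ⟨g * c * g⁻¹, ?_, hcyc.conj, by rw [Equiv.Perm.card_support_conj, hsupp]⟩
  have h1 : g * c * g⁻¹ ∈ (S : Subgroup (Equiv.Perm α)) := by
    rw [← hg, Sylow.coe_subgroup_smul]
    exact Subgroup.smul_mem_pointwise_smul c (MulAut.conj g) _ (hQ (Subgroup.mem_zpowers c))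
  obtain ⟨x, -, hx⟩ := h1
  exact hx ▸ x.2

/-- The possible parameters of the order formula in degree fifteen. -/
theorem param_check : (List.range 3767).all (fun o =>
    14189175 % (o * o) != 0 || o * o % 5 != 1 || o == 1 || o == 9 || o == 21) = true := by
  decide +kernel

theorem param_list {o : ℕ} (ho : o < 3767) (h : o ^ 2 ∣ 14189175) (h5 : o ^ 2 % 5 = 1) :
    o = 1 ∨ o = 9 ∨ o = 21 := by
  have h1 := List.all_eq_true.1 param_check o (List.mem_range.2 ho)
  rw [sq] at h h5
  simpa [Nat.mod_eq_zero_of_dvd, Nat.dvd_iff_mod_eq_zero.1 h, h5, or_assoc] using h1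

theorem three_five : ThreeFiveStmt.{u, v} := by
  classical
  intro G _ _ Ω _ _ p h hp5
  subst hp5
  haveI := h.simple
  haveI := h.faithful
  haveI := h.prim
  haveI := Fintype.ofFinite Ω
  haveI : Fact (Nat.Prime 2) := ⟨Nat.prime_two⟩
  have hΩ : Fintype.card Ω = 15 := by rw [← Nat.card_eq_fintype_card, h.card]
  obtain ⟨N, hN, hN1⟩ := h.index
  -- a central involution of a Sylow subgroup
  obtain ⟨P⟩ : Nonempty (Sylow 2 G) := inferInstance
  have hP2 : 2 ∣ Nat.card (P : Subgroup G) := by
    rw [P.card_eq_multiplicity]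
    refine dvd_pow_self 2 ?_
    have := (Nat.prime_two.dvd_iff_one_le_factorization Nat.card_pos.ne').1
      (hN ▸ ⟨5 * N, by ring⟩ : 2 ∣ Nat.card G)
    omega
  haveI : Nontrivial (P : Subgroup G) :=
    Finite.one_lt_card_iff_nontrivial.1 (Nat.le_of_dvd Nat.card_pos hP2)
  haveI := P.2.center_nontrivial
  obtain ⟨z', hz'⟩ := exists_prime_orderOf_dvd_card' (G := Subgroup.center (P : Subgroup G)) 2 (by
    rcases (IsPGroup.iff_card.1 (P.2.to_subgroup (Subgroup.center (P : Subgroup G)))) with ⟨n, hn⟩
    rw [hn]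
    exact dvd_pow_self 2 fun h0 => by
      have := Finite.one_lt_card (α := Subgroup.center (P : Subgroup G))
      rw [hn, h0, pow_zero] at this
      omega)
  set z : G := ((z' : (P : Subgroup G)) : G) with hzdef
  have hz : orderOf z = 2 := by rw [hzdef, Subgroup.orderOf_coe, Subgroup.orderOf_coe, hz']
  have hPC : (P : Subgroup G) ≤ Subgroup.centralizer ({z} : Set G) := fun y hy =>
    Subgroup.mem_centralizer_singleton_iff.2
      (congrArg Subtype.val (Subgroup.mem_center_iff.1 z'.2 ⟨y, hy⟩))
  -- the order formula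
  have hform : Nat.card G * 8 = 45 * cC z ^ 2 := h.formula z hz
  have hCG : cC z ∣ Nat.card G := Subgroup.card_subgroup_dvd_card _
  have hC0 : cC z ≠ 0 := Nat.card_pos.ne'
  have hv1 : (Nat.card G).factorization 2 ≤ (cC z).factorization 2 :=
    (Nat.prime_two.pow_dvd_iff_le_factorization hC0).1
      (P.card_eq_multiplicity ▸ Subgroup.card_dvd_of_le hPC)
  have hv2 : (cC z).factorization 2 ≤ (Nat.card G).factorization 2 :=
    (Nat.factorization_le_iff_dvd hC0 Nat.card_pos.ne').2 hCG 2
  have hv3 : (Nat.card G).factorization 2 + 3 = 2 * (cC z).factorization 2 := by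
    have h1 := congrArg (fun n : ℕ => n.factorization 2) hform
    simp only [Nat.factorization_mul Nat.card_pos.ne' (by norm_num : (8 : ℕ) ≠ 0),
      Nat.factorization_mul (by norm_num : (45 : ℕ) ≠ 0) (pow_ne_zero 2 hC0),
      Nat.factorization_pow, Finsupp.coe_add, Pi.add_apply, Finsupp.coe_smul, Pi.smul_apply,
      smul_eq_mul] at h1
    rw [show (8 : ℕ) = 2 ^ 3 by norm_num, Nat.prime_two.factorization_pow,
      Finsupp.single_eq_same, Nat.factorization_eq_zero_of_not_dvd (by norm_num : ¬ 2 ∣ 45)] at h1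
    omega
  obtain ⟨o, ho⟩ : 2 ^ 3 ∣ cC z :=
    (Nat.prime_two.pow_dvd_iff_le_factorization hC0).2 (by omega)
  have hodd : ¬ 2 ∣ o := fun h2 => by
    have := (Nat.prime_two.pow_dvd_iff_le_factorization hC0).1
      (ho ▸ (by rw [pow_succ]; exact Nat.mul_dvd_mul_left _ h2) : 2 ^ (3 + 1) ∣ cC z)
    omega
  have hG : Nat.card G = 360 * o ^ 2 := by
    rw [ho] at hform
    linarith
  have hmod : o ^ 2 % 5 = 1 := by
    have e : N = 36 * o ^ 2 := by omega
    have := hN1
    rw [e, Nat.ModEq] at this
    omega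
  -- the image in the symmetric group
  let φ := MulAction.toPermHom G Ω
  have hinj : Function.Injective φ := MulAction.toPerm_injective
  have hcardH : Nat.card φ.range = Nat.card G :=
    (Nat.card_congr (MonoidHom.ofInjective hinj).toEquiv).symm
  have hdvd : Nat.card G ∣ (15).factorial := by
    rw [← hcardH, ← hΩ, ← Fintype.card_perm, ← Nat.card_eq_fintype_card]
    exact Subgroup.card_subgroup_dvd_card _
  have hlist : o = 1 ∨ o = 9 ∨ o = 21 := by
    have h1 : o ^ 2 ∣ 14189175 * 256 := by
      refine Nat.dvd_of_mul_dvd_mul_left (k := 360) (by norm_num) ?_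
      rw [← hG]
      exact hdvd.trans (by decide +kernel)
    have h2 : o ^ 2 ∣ 14189175 :=
      (Nat.Coprime.pow 2 8 ((
        (Nat.prime_two.coprime_iff_not_dvd.2 hodd).symm))).dvd_of_dvd_mul_right h1
    refine param_list ?_ h2 hmod
    by_contra hb
    have h3 := Nat.le_of_dvd (by norm_num) h2
    have h4 : 3767 ^ 2 ≤ o ^ 2 := Nat.pow_le_pow_left (not_lt.1 hb) 2
    omega
  haveI : IsPreprimitive φ.range Ω :=
    IsPreprimitive.of_surjective (φ := φ.rangeRestrict)
      (f := (⟨id, fun _ _ => rfl⟩ : Ω →ₑ[φ.rangeRestrict] Ω)) Function.surjective_id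
  have hnot : ∀ (q e : ℕ) [Fact q.Prime], q ≤ 12 → ¬ q ^ (e + 1) ∣ (15).factorial →
      q ^ e ∣ 360 * o ^ 2 → ¬ 360 * o ^ 2 * 2 < (15).factorial := by
    intro q e _ hq he hd hlt
    obtain ⟨g, hg, hgc, hgs⟩ := exists_cycle_of_pow_dvd φ.range (q := q) (by omega)
      (hΩ.symm ▸ he) (by rw [hcardH, hG]; exact hd)
    have hA := CfsgLib.Perm.alternatingGroup_le_of_prime_cycle (G := φ.range) (by assumption)
      (by omega) hgc hgs hg
    haveI : Nontrivial Ω := Fintype.one_lt_card_iff_nontrivial.1 (by omega)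
    have h1 := Subgroup.card_le_of_le hA
    rw [nat_card_alternatingGroup, Nat.card_eq_fintype_card, hΩ, hcardH, hG] at h1
    have : 2 ∣ (15).factorial := Nat.dvd_factorial (by norm_num) (by norm_num)
    omega
  rcases hlist with rfl | rfl | rfl
  · exact Small.equiv_alternating_six (by simpa using hG)
  · haveI := Fact.mk Nat.prime_three
    exact absurd (by decide) (hnot 3 6 (by norm_num) (by decide) (by decide))
  · haveI := Fact.mk (by norm_num : Nat.Prime 7)
    exact absurd (by decide) (hnot 7 2 (by norm_num) (by decide) (by decide))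

end CfsgLib.DegreeThreeP
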