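import Cfsg.Agent.Lib.DegreeThreeP.Defs

/-!
# The doubly transitive case, `p ≡ 1` modulo four

An involution fixes three points, and the order formula shows that a Sylow `2`-subgroup has order
eight and is not abelian. Counting the elements of even order against the second moment of the
number of fixed points leaves `p = 5`, where the normalizer of a subgroup of order thirteen gives
a contradiction.
-/

set_option autoImplicit false
set_option linter.style.haveILetI false
set_option linter.unusedSectionVars false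

namespace CfsgLib.DegreeThreeP

open MulAction Cfsg CfsgLib.Chars
open scoped Pointwise

universe u v

variable {G : Type u} [Group G] [Finite G] {Ω : Type v} [MulAction G Ω] [Finite Ω] {p : ℕ}

private theorem two_pow_unique {a b x y : ℕ} (hx : Odd x) (hy : Odd y)
    (e : 2 ^ a * x = 2 ^ b * y) : a = b := by
  refine Nat.le_antisymm ?_ ?_
  · exact (Nat.pow_dvd_pow_iff_le_right (by norm_num)).1
      ((Nat.Coprime.pow_left a (Nat.coprime_two_left.2 hy)).dvd_of_dvd_mul_right ⟨x, e.symm⟩)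
  · exact (Nat.pow_dvd_pow_iff_le_right (by norm_num)).1
      ((Nat.Coprime.pow_left b (Nat.coprime_two_left.2 hx)).dvd_of_dvd_mul_right ⟨y, e⟩)

private theorem fix_three (h : Two G Ω p) (hp4 : p % 4 = 1) {s : G} (hs : orderOf s = 2) :
    (fixedBy Ω s).ncard = 3 := by
  have h1 := h.fix s hs
  rwa [fx, f0, if_pos hp4, Nat.card_coe_set_eq] at h1

/-- The order of the stabilizer of two points. -/
private theorem pair_card (h : Two G Ω p) {x y : Ω} (hxy : x ≠ y) :
    Nat.card G =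
      3 * p * ((3 * p - 1) * Nat.card (stabilizer G x ⊓ stabilizer G y : Subgroup G)) := by
  classical
  haveI := h.prim
  have h1 := (stabilizer G x).index_mul_card
  rw [index_stabilizer_of_transitive, h.card] at h1
  rw [← h1]
  congr 1
  have h2 := (stabilizer (stabilizer G x) y).index_mul_card
  have horb : orbit (stabilizer G x) y = ({x}ᶜ : Set Ω) := by
    ext z
    simp only [Set.mem_compl_iff, Set.mem_singleton_iff]
    constructor
    · rintro ⟨g, rfl⟩ e
      exact hxy.symm (smul_left_cancel (g : G) ((e : (g : G) • y = x).trans g.2.symm))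
    · intro hz
      obtain ⟨g, hg1, hg2⟩ := is_two_pretransitive_iff.1 h.two_trans hxy (Ne.symm hz)
      exact ⟨⟨g, hg1⟩, hg2⟩
  rw [index_stabilizer, horb, Set.ncard_compl, Set.ncard_singleton, h.card] at h2
  rw [← h2]
  congr 1
  exact Nat.card_congr ⟨fun z => ⟨((z : stabilizer G x) : G), ⟨z.1.2, z.2⟩⟩,
    fun z => ⟨⟨(z : G), z.2.1⟩, z.2.2⟩, fun _ => rfl, fun _ => rfl⟩

/-- Some involution of a Sylow subgroup moves a fixed point of another one. -/
private theorem exists_moves (h : Two G Ω p) (hp4 : p % 4 = 1) (P : Sylow 2 G) {t : G}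
    (ht : orderOf t = 2)
    (hD : ∀ x y : Ω, x ≠ y → 2 ∣ Nat.card (stabilizer G x ⊓ stabilizer G y : Subgroup G)) :
    ∃ r ∈ (P : Subgroup G), orderOf r = 2 ∧ ∃ b : Ω, t • b = b ∧ r • b ≠ b := by
  classical
  haveI : Fact (Nat.Prime 2) := ⟨Nat.prime_two⟩
  by_contra! hno
  have hP : ∀ s ∈ (P : Subgroup G), orderOf s = 2 → fixedBy Ω t = fixedBy Ω s := fun s hs hs2 =>
    Set.eq_of_subset_of_ncard_le (fun b hb => hno s hs hs2 b hb)
      (by rw [fix_three h hp4 hs2, fix_three h hp4 ht]) (Set.toFinite _)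
  -- commuting involutions have the same fixed points
  have hcomm : ∀ x y : G, orderOf x = 2 → orderOf y = 2 → Commute x y →
      fixedBy Ω x = fixedBy Ω y := by
    intro x y hx hy hxy
    have hzx : ∀ w : G, orderOf w = 2 → IsPGroup 2 (Subgroup.zpowers w) := fun w hw =>
      IsPGroup.of_card (n := 1) (by rw [Nat.card_zpowers, hw, pow_one])
    have hnorm : Subgroup.zpowers x ≤
        Subgroup.normalizer ((Subgroup.zpowers y : Subgroup G) : Set G) := by
      refine le_trans (Subgroup.zpowers_le.2 ?_) (Subgroup.centralizer_le_normalizer _)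
      rw [Subgroup.mem_centralizer_iff]
      rintro z ⟨n, rfl⟩
      exact ((hxy.symm).zpow_left n).eq
    obtain ⟨Q, hQ⟩ :=
      (IsPGroup.to_sup_of_normal_right' (hzx x hx) (hzx y hy) hnorm).exists_le_sylow
    obtain ⟨g, hg⟩ := MulAction.exists_smul_eq G P Q
    have key : ∀ w : G, orderOf w = 2 → w ∈ (Q : Subgroup G) →
        fixedBy Ω w = g • fixedBy Ω t := by
      intro w hw hwQ
      rw [← hg, Sylow.coe_subgroup_smul,
        Subgroup.mem_pointwise_smul_iff_inv_smul_mem] at hwQ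
      have hmem : g⁻¹ * w * g ∈ (P : Subgroup G) := by simpa using hwQ
      have hord : orderOf (g⁻¹ * w * g) = 2 := by
        rw [← hw, ← (MulAut.conj g⁻¹).orderOf_eq w]
        simp
      rw [hP _ hmem hord, smul_fixedBy]
      congr 1
      group
    rw [key x hx (hQ (Subgroup.mem_sup_left (Subgroup.mem_zpowers x))),
      key y hy (hQ (Subgroup.mem_sup_right (Subgroup.mem_zpowers y)))]
  -- an involution fixing a moved point and commuting with `t`
  obtain ⟨x, hx⟩ : ∃ x : Ω, t • x ≠ x := by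
    by_contra! hall
    have h3 := fix_three h hp4 ht
    rw [show fixedBy Ω t = Set.univ from Set.eq_univ_of_forall hall, Set.ncard_univ, h.card] at h3
    have := h.three_lt
    omega
  have htt : t * t = 1 := by rw [← sq, ← ht, pow_orderOf_eq_one]
  have hti : t⁻¹ = t := inv_eq_of_mul_eq_one_right htt
  have hty : t • t • x = x := by rw [smul_smul, htt, one_smul]
  obtain ⟨⟨q, hqx, hqy⟩, hq⟩ := exists_prime_orderOf_dvd_card'
    (G := (stabilizer G x ⊓ stabilizer G (t • x) : Subgroup G)) 2 (hD x _ (Ne.symm hx))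
  replace hq : orderOf q = 2 := (Subgroup.orderOf_coe _).trans hq
  have hqq : q * q = 1 := by rw [← sq, ← hq, pow_orderOf_eq_one]
  have hqi : q⁻¹ = q := inv_eq_of_mul_eq_one_right hqq
  obtain ⟨q', hq'⟩ : ∃ q', q' = t * q * t⁻¹ := ⟨_, rfl⟩
  have hq'x : q' • x = x := by
    rw [hq', hti, mul_smul, mul_smul, show q • t • x = t • x from hqy, hty]
  obtain ⟨ρ, hρ⟩ : ∃ ρ, ρ = q * q' := ⟨_, rfl⟩
  have hρx : ρ ∈ stabilizer G x := hρ ▸ mul_mem hqx hq'x
  have hq'q' : q' * q' = 1 := by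
    rw [hq', show t * q * t⁻¹ * (t * q * t⁻¹) = t * (q * q) * t⁻¹ by group, hqq]; group
  have hρi : ρ⁻¹ = q' * q := by
    rw [hρ, mul_inv_rev, hqi, inv_eq_of_mul_eq_one_right hq'q']
  have htρ : t * ρ * t⁻¹ = ρ⁻¹ := by
    rw [hρi, hρ, show t * (q * q') * t⁻¹ = t * q * t⁻¹ * (t * q' * t⁻¹) by group, ← hq']
    congr 1
    rw [hq', hti, show t * (t * q * t) * t = t * t * q * (t * t) by group, htt, one_mul, mul_one]
  have hqρ : q * ρ * q⁻¹ = ρ⁻¹ := by
    rw [hρi, hρ, hqi, ← mul_assoc q q q', hqq, one_mul]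
  have hpow : t * ρ ^ (orderOf ρ / 2) * t⁻¹ = (ρ ^ (orderOf ρ / 2))⁻¹ := by
    rw [← conj_pow, htρ, inv_pow]
  have hpowq : q * ρ ^ (orderOf ρ / 2) * q⁻¹ = (ρ ^ (orderOf ρ / 2))⁻¹ := by
    rw [← conj_pow, hqρ, inv_pow]
  obtain ⟨k, hk⟩ : ∃ k, k = orderOf ρ / 2 := ⟨_, rfl⟩
  rw [← hk] at hpow hpowq
  obtain ⟨z, hz, hzx, hzt⟩ : ∃ z : G, orderOf z = 2 ∧ z • x = x ∧ t * z * t⁻¹ = z := by
    rcases Nat.even_or_odd (orderOf ρ) with he | ho
    · have h2 : orderOf ρ = 2 * k := by rw [hk, Nat.two_mul_div_two_of_even he]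
      have hsq : ρ ^ k * ρ ^ k = 1 := by rw [← pow_add, ← two_mul, ← h2, pow_orderOf_eq_one]
      have hpos : 0 < k := by have := orderOf_pos ρ; omega
      refine ⟨ρ ^ k, orderOf_eq_prime (by rw [sq, hsq]) (pow_ne_one_of_lt_orderOf hpos.ne'
        (by omega)), (stabilizer G x).pow_mem hρx k, ?_⟩
      rw [hpow]
      exact inv_eq_of_mul_eq_one_right hsq
    · have h2 : orderOf ρ = 2 * k + 1 := by rw [hk, Nat.two_mul_div_two_add_one_of_odd ho]
      refine ⟨ρ ^ k * q, orderOf_eq_prime ?_ ?_, (stabilizer G x).mul_mem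
        ((stabilizer G x).pow_mem hρx k) hqx, ?_⟩
      · rw [sq, show ρ ^ k * q * (ρ ^ k * q) = ρ ^ k * (q * ρ ^ k * q⁻¹) * (q * q) by group,
          hpowq, hqq, mul_inv_cancel, one_mul]
      · intro e
        have h1 : orderOf q ∣ orderOf ρ := by
          rw [show q = (ρ ^ k)⁻¹ from eq_inv_of_mul_eq_one_right e, orderOf_inv]
          exact orderOf_pow_dvd k
        rw [hq, h2] at h1
        omega
      · rw [show t * (ρ ^ k * q) * t⁻¹ = t * ρ ^ k * t⁻¹ * (t * q * t⁻¹) by group, hpow, ← hq',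
          show q' = ρ⁻¹ * q by rw [hρi, mul_assoc, hqq, mul_one], ← mul_assoc]
        congr 1
        rw [← mul_inv_rev]
        refine inv_eq_of_mul_eq_one_right ?_
        rw [← pow_succ', ← pow_add, show k + 1 + k = orderOf ρ by omega, pow_orderOf_eq_one]
  have := hcomm t z ht hz (mul_inv_eq_iff_eq_mul.1 hzt)
  have hmem : x ∈ fixedBy Ω z := hzx
  rw [← this] at hmem
  exact hx hmem

/-- A Sylow `2`-subgroup has order eight and is not abelian. -/
private theorem sylow_eight (h : Two G Ω p) (hp4 : p % 4 = 1) :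
    ¬ 16 ∣ Nat.card G ∧ (∃ t : G, orderOf t = 2 ∧ 8 ∣ cC t) ∧
      ∃ u : G, orderOf u = 4 ∧ ¬ 8 ∣ cC u := by
  classical
  haveI := h.prim
  haveI : Fact (Nat.Prime 2) := ⟨Nat.prime_two⟩
  have hp3 := h.three_lt
  obtain ⟨P⟩ := (inferInstance : Nonempty (Sylow 2 G))
  -- a central involution
  obtain ⟨s, hs⟩ : ∃ s : G, orderOf s = 2 := by
    obtain ⟨u, hu⟩ : ∃ u : G, orderOf u = p := by
      haveI := Fact.mk h.prime
      refine exists_prime_orderOf_dvd_card' p ?_
      obtain ⟨P', hP'⟩ := h.norm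
      exact (dvd_mul_left p 2).trans (hP' ▸ Subgroup.card_subgroup_dvd_card _)
    obtain ⟨t, ht, -⟩ := h.invert u hu
    exact ⟨t, ht⟩
  haveI : Nontrivial (P : Subgroup G) := by
    rw [Subgroup.nontrivial_iff_ne_bot]
    exact P.ne_bot_of_dvd_card (hs ▸ orderOf_dvd_natCard s)
  haveI := P.2.center_nontrivial
  obtain ⟨⟨z, hz⟩, hzord⟩ := exists_prime_orderOf_dvd_card'
    (G := Subgroup.center (P : Subgroup G)) 2 (by
      obtain ⟨n, hn⟩ := IsPGroup.iff_card.1 (P.2.to_subgroup (Subgroup.center (P : Subgroup G)))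
      have h1 := Finite.one_lt_card (α := Subgroup.center (P : Subgroup G))
      rw [hn] at h1 ⊢
      exact dvd_pow_self 2 fun e => by rw [e, pow_zero] at h1; omega)
  obtain ⟨t, htdef⟩ : ∃ t, t = (z : G) := ⟨_, rfl⟩
  have ht : orderOf t = 2 := by
    rw [Subgroup.orderOf_mk, ← Subgroup.orderOf_coe] at hzord
    rw [htdef]; exact hzord
  have hPC : (P : Subgroup G) ≤ Subgroup.centralizer ({t} : Set G) := fun y hy =>
    Subgroup.mem_centralizer_singleton_iff.2
      (htdef ▸ congrArg Subtype.val ((Subgroup.mem_center_iff.1 hz) ⟨y, hy⟩))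
  -- the two-parts
  obtain ⟨k, hk⟩ := IsPGroup.iff_card.1 P.2
  obtain ⟨c0, hc0⟩ : Nat.card (P : Subgroup G) ∣ cC t := Subgroup.card_dvd_of_le hPC
  have hG := (P : Subgroup G).card_mul_index
  obtain ⟨m, hm, hmodd⟩ : ∃ m, m = (P : Subgroup G).index ∧ Odd m :=
    ⟨_, rfl, Nat.odd_iff.2 (Nat.two_dvd_ne_zero.1 P.not_dvd_index)⟩
  have hc0odd : Odd c0 := by
    refine Nat.odd_iff.2 (Nat.two_dvd_ne_zero.1 fun hd => P.not_dvd_index ?_)
    have h1 : cC t ∣ Nat.card G := Subgroup.card_subgroup_dvd_card _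
    rw [hc0, ← hG] at h1
    exact hd.trans (Nat.dvd_of_mul_dvd_mul_left Nat.card_pos h1)
  rw [hk, ← hm] at hG
  rw [hk] at hc0
  obtain ⟨j, v, hv, hjv⟩ := Nat.exists_eq_two_pow_mul_odd (n := p - 1) (by omega)
  have hj2 : 2 ≤ j := (Nat.pow_dvd_pow_iff_le_right (by norm_num : 1 < 2)).1
    ((Nat.Coprime.pow_left 2 (Nat.coprime_two_left.2 hv)).dvd_of_dvd_mul_right
      (show 2 ^ 2 ∣ 2 ^ j * v by rw [← hjv]; omega))
  obtain ⟨w, hw, hwodd⟩ : ∃ w, 3 * p - 1 = 2 * w ∧ Odd w :=
    ⟨(3 * p - 1) / 2, by omega, Nat.odd_iff.2 (by omega)⟩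
  have hk2 : k + 1 = 2 * j := by
    have hf := h.formula t ht
    rw [f0, if_pos hp4, ← hG, hc0, hw, show 3 * p - 3 = 3 * (p - 1) by omega, hjv] at hf
    have h32 : Odd (3 * p - 2) := Nat.odd_iff.2 (by omega)
    have hpodd : Odd p := Nat.odd_iff.2 (by omega)
    refine (two_pow_unique (x := 9 * m * v ^ 2) (y := p * w * (3 * p - 2) * c0 ^ 2)
      (((by decide : Odd 9).mul hmodd).mul hv.pow)
      (((hpodd.mul hwodd).mul h32).mul hc0odd.pow) ?_).symm
    refine Nat.eq_of_mul_eq_mul_left (show 0 < 2 ^ k by positivity) ?_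
    generalize 3 * p - 2 = X at hf
    calc 2 ^ k * (2 ^ (2 * j) * (9 * m * v ^ 2)) = 2 ^ k * m * (3 * (2 ^ j * v)) ^ 2 := by
          rw [pow_mul']; ring
      _ = _ := hf
      _ = _ := by rw [pow_succ]; ring
  have hpair : ∀ x y : Ω, x ≠ y →
      3 * p * w * Nat.card (stabilizer G x ⊓ stabilizer G y : Subgroup G) =
        2 ^ (2 * j - 2) * m := by
    intro x y hxy
    have h1 := pair_card h hxy
    rw [← hG, hw, show k = 2 * j - 2 + 1 by omega, pow_succ] at h1
    exact Nat.eq_of_mul_eq_mul_left (show 0 < 2 by norm_num) (by linarith)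
  have h3pw : Odd (3 * p * w) := (Odd.mul (by decide) (Nat.odd_iff.2 (by omega))).mul hwodd
  have hDdvd : ∀ x y : Ω, x ≠ y →
      2 ^ (2 * j - 2) ∣ Nat.card (stabilizer G x ⊓ stabilizer G y : Subgroup G) := fun x y hxy =>
    (Nat.Coprime.pow_left _ (Nat.coprime_two_left.2 h3pw)).dvd_of_dvd_mul_left
      ⟨m, hpair x y hxy⟩
  -- the fixed point of the Sylow subgroup
  have hF := fix_three h hp4 ht
  obtain ⟨a, ha⟩ : (fixedPoints (P : Subgroup G) Ω).Nonempty := by
    have h1 := P.2.card_modEq_card_fixedPoints (α := Ω)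
    rw [h.card, Nat.card_coe_set_eq] at h1
    refine Set.nonempty_of_ncard_ne_zero fun e => ?_
    rw [e, Nat.ModEq] at h1
    omega
  have haP : ∀ y ∈ (P : Subgroup G), y • a = a := fun y hy => ha ⟨y, hy⟩
  have haF : t • a = a := haP t (htdef ▸ z.2)
  obtain ⟨r, hrP, hr, b, hbF, hrb⟩ := exists_moves h hp4 P ht
    fun x y hxy => (dvd_pow_self 2 (by omega)).trans (hDdvd x y hxy)
  have hab : a ≠ b := fun e => hrb (e ▸ haP r hrP)
  obtain ⟨c, hc⟩ : ∃ c, c = r • b := ⟨_, rfl⟩
  have hPF : ∀ y ∈ (P : Subgroup G), ∀ x : Ω, t • x = x → t • y • x = y • x := by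
    intro y hy x hx
    rw [smul_smul, ← Subgroup.mem_centralizer_singleton_iff.1 (hPC hy), ← smul_smul, hx]
  have hcF : t • c = c := hc ▸ hPF r hrP b hbF
  have hbc : b ≠ c := hc ▸ Ne.symm hrb
  have hac : a ≠ c := by
    intro e
    rw [hc] at e
    exact hab (smul_left_cancel r ((haP r hrP).trans e))
  have hFeq : ({a, b, c} : Set Ω) = fixedBy Ω t := by
    refine Set.eq_of_subset_of_ncard_le ?_ (le_of_eq ?_) (Set.toFinite _)
    · rintro y (rfl | rfl | rfl)
      exacts [haF, hbF, hcF]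
    · rw [hF, Set.ncard_eq_three.2 ⟨a, b, c, hab, hac, hbc, rfl⟩]
  have hmem : ∀ x : Ω, t • x = x → x = a ∨ x = b ∨ x = c := fun x hx => by
    have : x ∈ fixedBy Ω t := hx
    rw [← hFeq] at this
    simpa using this
  -- the stabilizer of `b` in the Sylow subgroup
  obtain ⟨T0, hT0⟩ : ∃ T0 : Subgroup G, T0 = (P : Subgroup G) ⊓ stabilizer G b := ⟨_, rfl⟩
  have hT0c : ∀ y ∈ T0, y • c = c := by
    intro y hy
    rw [hT0] at hy
    rcases hmem _ (hPF y hy.1 c hcF) with e | e | e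
    · exact absurd (smul_left_cancel y ((haP y hy.1).trans e.symm)) hac
    · exact absurd (smul_left_cancel y ((hy.2 : y • b = b).trans e.symm)) hbc
    · exact e
  have hT0card : Nat.card T0 * 2 = 2 ^ k := by
    have horb : orbit (P : Subgroup G) b = ({b, c} : Set Ω) := by
      ext x
      constructor
      · rintro ⟨y, rfl⟩
        rcases hmem _ (hPF y y.2 b hbF) with e | e | e
        · exact absurd (smul_left_cancel (y : G) ((haP y y.2).trans e.symm)) hab
        · exact Or.inl e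
        · exact Or.inr e
      · rintro (rfl | rfl)
        · exact mem_orbit_self _
        · exact ⟨⟨r, hrP⟩, hc.symm⟩
    have h1 := (stabilizer (P : Subgroup G) b).card_mul_index
    rw [index_stabilizer, horb, Set.ncard_pair hbc, hk] at h1
    rw [← h1]
    congr 1
    subst hT0
    exact Nat.card_congr ⟨fun y => ⟨⟨(y : G), y.2.1⟩, y.2.2⟩,
      fun y => ⟨((y : (P : Subgroup G)) : G), ⟨y.1.2, y.2⟩⟩, fun _ => rfl, fun _ => rfl⟩
  have hT0P : T0 ≤ (P : Subgroup G) := hT0 ▸ inf_le_left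
  have hsemi : ∀ y ∈ T0, ∀ x : Ω, t • x ≠ x → y • x = x → y = 1 := by
    intro y hy x hx hyx
    by_contra hy1
    obtain ⟨n, hn⟩ := (IsPGroup.iff_orderOf.1 P.2) ⟨y, hT0P hy⟩
    rw [Subgroup.orderOf_mk] at hn
    have h2 : 2 ∣ orderOf y := hn ▸ dvd_pow_self 2 fun e => hy1 (orderOf_eq_one_iff.1 (by
      rw [hn, e, pow_zero]))
    have hs2 := orderOf_pow_orderOf_div (orderOf_pos y).ne' h2
    have hfx : ∀ d : Ω, y • d = d → d ∈ fixedBy Ω (y ^ (orderOf y / 2)) := fun d hd =>
      (stabilizer G d).pow_mem hd _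
    have heq : fixedBy Ω t = fixedBy Ω (y ^ (orderOf y / 2)) := by
      refine Set.eq_of_subset_of_ncard_le ?_ (by rw [hF, fix_three h hp4 hs2]) (Set.toFinite _)
      rw [← hFeq]
      rintro d (rfl | rfl | rfl)
      exacts [hfx _ (haP y (hT0P hy)), hfx _ (hT0 ▸ hy).2, hfx _ (hT0c y hy)]
    exact hx (heq ▸ hfx x hyx : x ∈ fixedBy Ω t)
  -- `j = 2`
  have hj : j = 2 := by
    let S : SubMulAction T0 Ω :=
      { carrier := (fixedBy Ω t)ᶜ
        smul_mem' := fun y x hx hyx => hx (by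
          have := hPF ((y : G)⁻¹) (inv_mem (hT0P y.2)) _ hyx
          rwa [show ((y : G)⁻¹) • (y • x) = x from inv_smul_smul (y : G) x] at this) }
    have hfree : ∀ x : S, stabilizer T0 x = ⊥ := by
      intro x
      rw [Subgroup.eq_bot_iff_forall]
      intro y hy
      exact Subtype.ext (hsemi y y.2 x x.2 (congrArg Subtype.val (hy : y • x = x)))
    have h1 := Nat.card_congr (selfEquivOrbitsQuotientProd hfree)
    rw [Nat.card_prod] at h1
    have hS : Nat.card S = 3 * (p - 1) := by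
      rw [show Nat.card S = Nat.card ((fixedBy Ω t)ᶜ : Set Ω) from rfl, Nat.card_coe_set_eq,
        Set.ncard_compl, hF, h.card]
      omega
    have hT : Nat.card T0 = 2 ^ (2 * j - 2) := by
      rw [show k = 2 * j - 2 + 1 by omega, pow_succ] at hT0card
      omega
    rw [hS, hT, hjv] at h1
    have h3 := (Nat.pow_dvd_pow_iff_le_right (by norm_num : 1 < 2)).1
      ((Nat.Coprime.pow_left (2 * j - 2) (Nat.coprime_two_left.2
        ((by decide : Odd 3).mul hv))).dvd_of_dvd_mul_left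
          (show 2 ^ (2 * j - 2) ∣ 3 * v * 2 ^ j from
            Dvd.intro_left _ (h1.symm.trans (by ring))))
    omega
  obtain rfl : k = 3 := by omega
  subst hj
  have hT04 : Nat.card T0 = 4 := by omega
  have hP8 : Nat.card (P : Subgroup G) = 8 := by rw [hk]; norm_num
  -- `r` is not central
  have hrc : ¬ ∀ y ∈ (P : Subgroup G), Commute y r := by
    intro hall
    obtain ⟨x, hxr, hxt⟩ : ∃ x : Ω, r • x = x ∧ t • x ≠ x := by
      by_contra! hsub
      have := Set.eq_of_subset_of_ncard_le (s := fixedBy Ω r) (t := fixedBy Ω t) hsub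
        (by rw [hF, fix_three h hp4 hr]) (Set.toFinite _)
      exact hrb (this ▸ hbF : b ∈ fixedBy Ω r)
    haveI : Finite (fixedBy Ω r) := Set.toFinite _ |>.to_subtype
    have hinj := Nat.card_le_card_of_injective
      (fun y : T0 => (⟨(y : G) • x, by
        show r • (y : G) • x = (y : G) • x
        rw [smul_smul, ← (hall y (hT0P y.2)).eq, ← smul_smul, hxr]⟩ : fixedBy Ω r)) (by
      intro y y' e
      have e' : (y : G) • x = (y' : G) • x := congrArg Subtype.val e
      refine Subtype.ext (inv_mul_eq_one.1 (hsemi _ (mul_mem (inv_mem y.2) y'.2) x hxt ?_))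
      rw [mul_smul, ← e', inv_smul_smul])
    rw [hT04, Nat.card_coe_set_eq, fix_three h hp4 hr] at hinj
    omega
  have hcyc : ∀ y ∈ (P : Subgroup G), orderOf y ≠ 8 := by
    intro y hy e
    have heq : Subgroup.zpowers y = (P : Subgroup G) :=
      Subgroup.eq_of_le_of_card_ge (Subgroup.zpowers_le.2 hy)
        (by rw [hP8, Nat.card_zpowers, e])
    refine hrc fun y' hy' => ?_
    rw [← heq] at hy'
    have hr' := hrP
    rw [← heq] at hr'
    obtain ⟨i, rfl⟩ := hy'
    obtain ⟨i', rfl⟩ := hr'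
    exact (Commute.refl y).zpow_zpow i i'
  have hnc : ∀ u ∈ (P : Subgroup G), orderOf u = 4 → ¬ ∀ y ∈ (P : Subgroup G), Commute y u := by
    intro u hu hu4 hall
    refine hrc ?_
    by_cases hru : r ∈ Subgroup.zpowers u
    · intro y hy
      obtain ⟨i, rfl⟩ := hru
      exact (hall y hy).zpow_right i
    obtain ⟨H, hH⟩ : ∃ H : Subgroup G,
        H = Subgroup.centralizer ({r} : Set G) ⊓ (P : Subgroup G) := ⟨_, rfl⟩
    have hle : Subgroup.zpowers u ≤ H := hH ▸ le_inf (Subgroup.zpowers_le.2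
      (Subgroup.mem_centralizer_singleton_iff.2 (hall r hrP).eq.symm)) (Subgroup.zpowers_le.2 hu)
    have hrH : r ∈ H := hH ▸ ⟨Subgroup.mem_centralizer_singleton_iff.2 rfl, hrP⟩
    have h4 : 4 < Nat.card H := by
      rw [← hu4, ← Nat.card_zpowers]
      by_contra! hle'
      exact hru (Subgroup.eq_of_le_of_card_ge hle hle' ▸ hrH)
    have hHP : H ≤ (P : Subgroup G) := hH ▸ inf_le_right
    have h8 : Nat.card H ∣ 2 ^ 3 := hk ▸ Subgroup.card_dvd_of_le hHP
    obtain ⟨i, hi, hHi⟩ := (Nat.dvd_prime_pow Nat.prime_two).1 h8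
    have hHeq : H = (P : Subgroup G) := Subgroup.eq_of_le_of_card_ge hHP (by
      rw [hk, hHi]
      rw [hHi] at h4
      interval_cases i <;> omega)
    intro y hy
    rw [← hHeq, hH] at hy
    exact Subgroup.mem_centralizer_singleton_iff.1 hy.1
  obtain ⟨u, huP, hu4⟩ : ∃ u ∈ (P : Subgroup G), orderOf u = 4 := by
    by_contra! hno
    have hsq : ∀ y ∈ (P : Subgroup G), y * y = 1 := by
      intro y hy
      have h8 : orderOf y ∣ 2 ^ 3 := by
        rw [← hk, ← Nat.card_zpowers]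
        exact Subgroup.card_dvd_of_le (Subgroup.zpowers_le.2 hy)
      obtain ⟨i, hi, he⟩ := (Nat.dvd_prime_pow Nat.prime_two).1 h8
      have h4 := hno y hy
      have h8' := hcyc y hy
      rw [← sq, ← orderOf_dvd_iff_pow_eq_one, he]
      rw [he] at h4 h8'
      rcases (by omega : i = 0 ∨ i = 1 ∨ i = 2 ∨ i = 3) with rfl | rfl | rfl | rfl
      · norm_num
      · norm_num
      · exact absurd (by norm_num) h4
      · exact absurd (by norm_num) h8'
    refine hrc fun y hy => ?_
    have e := hsq _ (mul_mem hy hrP)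
    calc y * r = (y * r)⁻¹ := (inv_eq_of_mul_eq_one_right e).symm
      _ = r⁻¹ * y⁻¹ := mul_inv_rev y r
      _ = r * y := by
        rw [inv_eq_of_mul_eq_one_right (hsq r hrP), inv_eq_of_mul_eq_one_right (hsq y hy)]
  refine ⟨fun h16 => ?_, ⟨t, ht, ⟨c0, by rw [hc0]; norm_num⟩⟩, u, hu4, fun h8 => ?_⟩
  · rw [← hG] at h16
    obtain ⟨n, hn⟩ := hmodd
    omega
  -- no element of order four is central in a Sylow subgroup
  obtain ⟨R, hR⟩ := Sylow.exists_subgroup_card_pow_prime 2
    (G := Subgroup.centralizer ({u} : Set G)) (n := 3) (by simpa [cC] using h8)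
  obtain ⟨R', hR'⟩ : ∃ R' : Subgroup G,
      R' = R.map (Subgroup.centralizer ({u} : Set G)).subtype := ⟨_, rfl⟩
  have hR'C : R' ≤ Subgroup.centralizer ({u} : Set G) := hR' ▸ Subgroup.map_subtype_le R
  have hR'8 : Nat.card R' = 2 ^ 3 := by
    rw [hR', ← hR]
    exact (Nat.card_congr (Subgroup.equivMapOfInjective _ _
      (Subgroup.subtype_injective _)).toEquiv).symm
  have hnorm : R' ≤ Subgroup.normalizer ((Subgroup.zpowers u : Subgroup G) : Set G) := by
    refine le_trans hR'C (le_trans ?_ (Subgroup.centralizer_le_normalizer _))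
    intro y hy
    rw [Subgroup.mem_centralizer_iff]
    rintro z ⟨n, rfl⟩
    exact (Commute.zpow_left (Subgroup.mem_centralizer_singleton_iff.1 hy).symm n).eq
  obtain ⟨Q, hQ⟩ := (IsPGroup.to_sup_of_normal_right' (p := 2) (IsPGroup.of_card hR'8)
    (IsPGroup.of_card (n := 2) (by rw [Nat.card_zpowers, hu4]; norm_num)) hnorm).exists_le_sylow
  have hQR : R' = (Q : Subgroup G) := Subgroup.eq_of_le_of_card_ge (le_sup_left.trans hQ) (by
    rw [hR'8, Q.card_eq_multiplicity, ← P.card_eq_multiplicity, hk])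
  obtain ⟨g, hg⟩ := MulAction.exists_smul_eq G P Q
  have hmemQ : ∀ y : G, y ∈ (Q : Subgroup G) ↔ g⁻¹ * y * g ∈ (P : Subgroup G) := fun y => by
    rw [← hg, Sylow.coe_subgroup_smul, Subgroup.mem_pointwise_smul_iff_inv_smul_mem]
    simp
  refine hnc (g⁻¹ * u * g) ((hmemQ u).1 (hQ (Subgroup.mem_sup_right (Subgroup.mem_zpowers u))))
    ?_ fun y hy => ?_
  · rw [← hu4, ← (MulAut.conj g⁻¹).orderOf_eq u]
    simp
  have h1 : g * y * g⁻¹ ∈ (Q : Subgroup G) := (hmemQ _).2 (by
    rw [show g⁻¹ * (g * y * g⁻¹) * g = y by group]; exact hy)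
  rw [← hQR] at h1
  have e : g * y * g⁻¹ * u = u * (g * y * g⁻¹) :=
    Subgroup.mem_centralizer_singleton_iff.1 (hR'C h1)
  calc y * (g⁻¹ * u * g) = g⁻¹ * (g * y * g⁻¹ * u) * g := by group
    _ = g⁻¹ * u * g * y := by rw [e]; group

/-- A quarter of the elements have even order. -/
private theorem card_even_ge {u : G} (hu : orderOf u = 4) (h8 : ¬ 8 ∣ cC u) :
    Nat.card G ≤ 4 * Nat.card {y : G // 2 ∣ orderOf y} := by
  classical
  haveI : Fact (Nat.Prime 2) := ⟨Nat.prime_two⟩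
  have huX : u ∈ Subgroup.centralizer ({u} : Set G) :=
    Subgroup.mem_centralizer_singleton_iff.2 rfl
  obtain ⟨Q, hQ⟩ : ∃ Q : Subgroup (Subgroup.centralizer ({u} : Set G)),
      Q = Subgroup.zpowers ⟨u, huX⟩ := ⟨_, rfl⟩
  have hQ4 : Nat.card Q = 2 ^ 2 := by rw [hQ, Nat.card_zpowers, Subgroup.orderOf_mk, hu]; norm_num
  have hidx : ¬ 2 ∣ Q.index := fun hd => h8 (by
    rw [cC, ← Q.card_mul_index, hQ4]
    exact mul_dvd_mul_left 4 hd)
  obtain ⟨P, hP⟩ : ∃ P : Sylow 2 (Subgroup.centralizer ({u} : Set G)),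
      (P : Subgroup (Subgroup.centralizer ({u} : Set G))) = Q :=
    ⟨(IsPGroup.of_card hQ4).toSylow hidx, rfl⟩
  have hPN : Subgroup.normalizer ((P : Subgroup (Subgroup.centralizer ({u} : Set G))) :
        Set (Subgroup.centralizer ({u} : Set G))) ≤
      Subgroup.centralizer ((P : Subgroup (Subgroup.centralizer ({u} : Set G))) :
        Set (Subgroup.centralizer ({u} : Set G))) := by
    intro x _
    rw [Subgroup.mem_centralizer_iff]
    intro y hy
    rw [SetLike.mem_coe, hP, hQ] at hy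
    obtain ⟨n, rfl⟩ := hy
    have hc : Commute (⟨u, huX⟩ : Subgroup.centralizer ({u} : Set G)) x :=
      Subtype.ext (Subgroup.mem_centralizer_singleton_iff.1 x.2).symm
    exact (hc.zpow_left n).eq
  obtain ⟨K, hK⟩ : ∃ K, K = (MonoidHom.transferSylow P hPN).ker := ⟨_, rfl⟩
  have hKQ : Nat.card K * 4 = cC u := by
    have h1 := (MonoidHom.ker_transferSylow_isComplement' P hPN).card_mul_card
    have hPc : Nat.card (P : Subgroup (Subgroup.centralizer ({u} : Set G))) = 2 ^ 2 :=
      (congrArg (fun X : Subgroup (Subgroup.centralizer ({u} : Set G)) => Nat.card X) hP).trans hQ4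
    rw [hPc, ← hK] at h1
    exact h1
  have hKodd : Nat.Coprime 4 (Nat.card K) := by
    refine Nat.Coprime.pow_left 2 (Nat.coprime_two_left.2 (Nat.odd_iff.2
      (Nat.two_dvd_ne_zero.1 ?_)))
    rw [hK]
    exact MonoidHom.not_dvd_card_ker_transferSylow P hPN
  obtain ⟨e, he1, he2⟩ := Nat.chineseRemainder hKodd 1 0
  have hpowK : ∀ k : K, (u * ((k : Subgroup.centralizer ({u} : Set G)) : G)) ^ e = u := by
    intro k
    have hc : Commute u ((k : Subgroup.centralizer ({u} : Set G)) : G) :=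
      (Subgroup.mem_centralizer_singleton_iff.1 k.1.2).symm
    have h1 : u ^ e = u := by
      conv_rhs => rw [← pow_one u]
      exact pow_eq_pow_iff_modEq.2 (by rw [hu]; exact he1)
    have h2 : ((k : Subgroup.centralizer ({u} : Set G)) : G) ^ e = 1 := by
      refine orderOf_dvd_iff_pow_eq_one.1 ?_
      rw [Subgroup.orderOf_coe, Subgroup.orderOf_coe]
      exact (orderOf_dvd_natCard k).trans (Nat.modEq_zero_iff_dvd.1 he2)
    rw [hc.mul_pow, h1, h2, mul_one]
  have hev : ∀ (g : G) (k : K),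
      2 ∣ orderOf (g * (u * ((k : Subgroup.centralizer ({u} : Set G)) : G)) * g⁻¹) := by
    intro g k
    refine dvd_trans ?_ (orderOf_pow_dvd e)
    rw [conj_pow, hpowK k, ← MulAut.conj_apply, MulEquiv.orderOf_eq, hu]
    norm_num
  let g0 : G → G := fun z => Classical.epsilon fun g => g * u * g⁻¹ = z
  have hg0 : ∀ (g : G) (k : K),
      (g0 ((g * (u * ((k : Subgroup.centralizer ({u} : Set G)) : G)) * g⁻¹) ^ e))⁻¹ * g ∈
        Subgroup.centralizer ({u} : Set G) := by
    intro g k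
    rw [conj_pow, hpowK k, Subgroup.mem_centralizer_singleton_iff]
    have hs : g0 (g * u * g⁻¹) * u * (g0 (g * u * g⁻¹))⁻¹ = g * u * g⁻¹ :=
      Classical.epsilon_spec (p := fun d => d * u * d⁻¹ = g * u * g⁻¹) ⟨g, rfl⟩
    generalize g0 (g * u * g⁻¹) = d at hs
    calc d⁻¹ * g * u = d⁻¹ * (g * u * g⁻¹) * g := by group
      _ = u * (d⁻¹ * g) := by rw [← hs]; group
  have hle := Nat.card_le_card_of_injective (α := G × K)
    (β := {y : G // 2 ∣ orderOf y} × Subgroup.centralizer ({u} : Set G))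
    (fun x => (⟨_, hev x.1 x.2⟩, ⟨_, hg0 x.1 x.2⟩)) (by
      rintro ⟨g, k⟩ ⟨g', k'⟩ heq
      rw [Prod.mk.injEq] at heq
      obtain ⟨e1, e2⟩ := heq
      have e1' := congrArg Subtype.val e1
      have e2' := congrArg Subtype.val e2
      dsimp only at e1' e2'
      rw [e1'] at e2'
      obtain rfl : g = g' := mul_left_cancel e2'
      exact Prod.ext rfl (Subtype.ext (Subtype.ext
        (mul_left_cancel (mul_left_cancel (mul_right_cancel e1'))))))
  rw [Nat.card_prod, Nat.card_prod, show Nat.card (Subgroup.centralizer ({u} : Set G)) =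
    Nat.card K * 4 from hKQ.symm] at hle
  have hpos : 0 < Nat.card K := Nat.card_pos
  exact Nat.le_of_mul_le_mul_right (by linarith) hpos

/-- The second moment of the number of fixed points. -/
private theorem count_bound (h : Two G Ω p) (hp4 : p % 4 = 1) :
    4 * Nat.card {g : G // orderOf g = p} + Nat.card {y : G // 2 ∣ orderOf y} ≤
      2 * Nat.card G := by
  classical
  haveI := Fintype.ofFinite G
  haveI := h.prim
  have hp := h.prime
  have hp3 := h.three_lt
  have hΩ : 2 ≤ Nat.card Ω := by rw [h.card]; omega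
  obtain ⟨a⟩ : Nonempty Ω := (Nat.card_pos_iff.1 (by omega)).1
  have hn : (Nat.card G : ℂ) ≠ 0 := Nat.cast_ne_zero.2 Nat.card_pos.ne'
  have h1 : ∑ g : G, (fx Ω g : ℂ) = Nat.card G := by
    have h0 := inner_fixedBy_one (G := G) (X := Ω)
    haveI : Subsingleton (orbitRel.Quotient G Ω) :=
      (pretransitive_iff_subsingleton_quotient G Ω).1 inferInstance
    haveI : Nonempty (orbitRel.Quotient G Ω) := ⟨Quotient.mk'' a⟩
    rw [Nat.card_unique, inner_def] at h0
    simp only [map_one, mul_one, Nat.cast_one] at h0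
    exact (inv_mul_eq_one₀ hn).1 h0 |>.symm
  have h2 : ∑ g : G, (fx Ω g : ℂ) * (fx Ω g : ℂ) = 2 * Nat.card G := by
    have h0 := inner_fixedBy_self (G := G) a
    rw [(card_orbits_stabilizer_eq_two_iff hΩ a).2 h.two_trans, inner_def,
      inv_mul_eq_iff_eq_mul₀ hn] at h0
    simp only [Complex.conj_natCast] at h0
    rw [mul_comm]
    exact_mod_cast h0
  have hsum : ∑ g : G, ((fx Ω g : ℤ) - 2) ^ 2 = 2 * (Nat.card G : ℤ) := by
    apply Int.cast_injective (α := ℂ)
    push_cast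
    simp only [sub_sq, Finset.sum_add_distrib, Finset.sum_sub_distrib, sq ((fx Ω _ : ℕ) : ℂ)]
    rw [← Finset.sum_mul, ← Finset.mul_sum, h1, h2, Finset.sum_const, Finset.card_univ,
      ← Nat.card_eq_fintype_card, nsmul_eq_mul]
    ring
  have hle : ∀ g : G, (if orderOf g = p then (4 : ℤ) else 0) + (if 2 ∣ orderOf g then 1 else 0) ≤
      ((fx Ω g : ℤ) - 2) ^ 2 := by
    intro g
    by_cases hgp : orderOf g = p
    · rw [if_pos hgp, if_neg (by rw [hgp]; omega), h.free g hgp]
      norm_num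
    rw [if_neg hgp, zero_add]
    split_ifs with h2g
    swap
    · positivity
    have hne : (fx Ω g : ℤ) - 2 ≠ 0 := by
      intro e
      have hg2 : (fixedBy Ω g).ncard = 2 := by
        rw [← Nat.card_coe_set_eq, ← fx]; omega
      obtain ⟨s, hs, hs2⟩ : ∃ s, s = g ^ (orderOf g / 2) ∧ orderOf s = 2 :=
        ⟨_, rfl, orderOf_pow_orderOf_div (orderOf_pos g).ne' h2g⟩
      have hsub : fixedBy Ω g ⊆ fixedBy Ω s := fun x hx =>
        hs ▸ (stabilizer G x).pow_mem hx _
      have hd : (fixedBy Ω s \ fixedBy Ω g).ncard = 1 := by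
        rw [Set.ncard_sdiff hsub, fix_three h hp4 hs2, hg2]
      obtain ⟨x, hx⟩ := Set.ncard_eq_one.1 hd
      obtain ⟨hxs, hxg⟩ : x ∈ fixedBy Ω s \ fixedBy Ω g := hx ▸ Set.mem_singleton x
      have hgx : g • x ∈ fixedBy Ω s \ fixedBy Ω g := by
        refine ⟨?_, fun hf => hxg (smul_left_cancel g hf)⟩
        show s • g • x = g • x
        rw [smul_smul, show s * g = g * s from hs ▸ (Commute.pow_self g _).eq, ← smul_smul]
        exact congrArg (g • ·) hxs
      rw [hx] at hgx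
      exact hxg hgx
    have := mul_self_pos.2 hne
    rw [sq]
    omega
  have hfin := Finset.sum_le_sum fun g (_ : g ∈ Finset.univ) => hle g
  rw [hsum, Finset.sum_add_distrib, ← Finset.sum_filter, ← Finset.sum_filter, Finset.sum_const,
    Finset.sum_const] at hfin
  simp only [nsmul_eq_mul, mul_one] at hfin
  rw [Nat.card_eq_fintype_card, Fintype.card_subtype, Nat.card_eq_fintype_card,
    Fintype.card_subtype]
  refine Int.ofNat_le.1 ?_
  push_cast
  linarith

private theorem mem_normalizer_zpowers {σ y : G} (hy : y * σ * y⁻¹ ∈ Subgroup.zpowers σ) :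
    y ∈ Subgroup.normalizer ((Subgroup.zpowers σ : Subgroup G) : Set G) := by
  have hmap : (Subgroup.zpowers σ).map (MulAut.conj y).toMonoidHom = Subgroup.zpowers σ := by
    rw [MonoidHom.map_zpowers]
    refine Subgroup.eq_of_le_of_card_ge (Subgroup.zpowers_le.2 hy) ?_
    rw [Nat.card_zpowers, Nat.card_zpowers]
    exact le_of_eq ((MulAut.conj y).orderOf_eq σ).symm
  intro z
  constructor
  · intro hz
    rw [SetLike.mem_coe, ← hmap]
    exact ⟨z, hz, rfl⟩
  · intro hz
    rw [SetLike.mem_coe, ← hmap] at hz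
    obtain ⟨z', hz', e⟩ := hz
    exact (MulAut.conj y).injective e ▸ hz'

private theorem odd_of_dvd_nineHundred : ∀ n < 973, 972 % n = 0 → n % 13 = 1 → n % 2 = 1 := by
  decide +kernel

/-- The degree fifteen does not occur. -/
private theorem not_five (h : Two G Ω p) (hp : p = 5) (a b : Ω) (hab : a ≠ b) (e : ℕ)
    (he : e = 1 ∨ e = 9)
    (hD : Nat.card (stabilizer G a ⊓ stabilizer G b : Subgroup G) = 156 * e ^ 2) : False := by
  classical
  haveI := h.prim
  haveI := h.faithful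
  haveI : Fact (Nat.Prime 13) := ⟨by norm_num⟩
  have hp4 : p % 4 = 1 := by omega
  have hΩ : Nat.card Ω = 15 := by rw [h.card, hp]
  obtain ⟨H, hH⟩ : ∃ H : Subgroup G, H = stabilizer G a ⊓ stabilizer G b := ⟨_, rfl⟩
  rw [← hH] at hD
  have hfixH : ∀ y ∈ H, y • a = a ∧ y • b = b := fun y hy => by
    rw [hH] at hy
    exact hy
  have hsyl : ∀ σ : H, orderOf σ = 13 → ∃ Q : Sylow 13 H,
      (Q : Subgroup H) = Subgroup.zpowers σ ∧ (Q : Subgroup H).index = 12 * e ^ 2 := by
    intro σ hσ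
    have hc : Nat.card (Subgroup.zpowers σ) = 13 ^ 1 := by rw [Nat.card_zpowers, hσ, pow_one]
    have hidx : (Subgroup.zpowers σ).index = 12 * e ^ 2 := by
      have h1 := (Subgroup.zpowers σ).card_mul_index
      rw [hc, hD] at h1
      omega
    exact ⟨(IsPGroup.of_card hc).toSylow (by rw [hidx]; rcases he with rfl | rfl <;> decide),
      rfl, hidx⟩
  obtain ⟨σ', hσ'⟩ := exists_prime_orderOf_dvd_card' (G := H) 13 (by rw [hD]; omega)
  obtain ⟨σ, hσeq⟩ : ∃ σ : G, σ = (σ' : G) := ⟨_, rfl⟩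
  have hσ : orderOf σ = 13 := by rw [hσeq, Subgroup.orderOf_coe, hσ']
  have hσH : σ ∈ H := hσeq ▸ σ'.2
  have hcσ : Nat.card (Subgroup.zpowers σ) = 13 := by rw [Nat.card_zpowers, hσ]
  -- the fixed points
  have hfix : fixedBy Ω σ = {a, b} := by
    have hsub : ({a, b} : Set Ω) ⊆ fixedBy Ω σ := by
      rintro y (rfl | rfl)
      exacts [(hfixH σ hσH).1, (hfixH σ hσH).2]
    refine (Set.eq_of_subset_of_ncard_le hsub ?_ (Set.toFinite _)).symm
    have hP : IsPGroup 13 (Subgroup.zpowers σ) := IsPGroup.of_card (n := 1) (by rw [hcσ, pow_one])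
    have h1 := hP.card_modEq_card_fixedPoints (α := Ω)
    have heq : fixedPoints (Subgroup.zpowers σ) Ω = fixedBy Ω σ := by
      ext x
      refine ⟨fun hx => hx ⟨σ, Subgroup.mem_zpowers σ⟩, fun hx y => ?_⟩
      obtain ⟨y, i, rfl⟩ := y
      exact (stabilizer G x).zpow_mem hx i
    rw [heq, hΩ, Nat.card_coe_set_eq, Nat.ModEq] at h1
    have h2 := Set.ncard_le_ncard hsub (Set.toFinite _)
    rw [Set.ncard_pair hab] at h2
    have h3 : (fixedBy Ω σ).ncard ≤ 15 := hΩ ▸ Set.ncard_le_card _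
    have h4 : (fixedBy Ω σ).ncard ≠ 15 := by
      intro e15
      have hu : fixedBy Ω σ = Set.univ :=
        Set.eq_of_subset_of_ncard_le (Set.subset_univ _) (by rw [Set.ncard_univ, hΩ, e15])
          (Set.toFinite _)
      have h1σ : σ = 1 := FaithfulSMul.eq_of_smul_eq_smul (α := Ω) fun x => by
        rw [one_smul]
        exact (hu ▸ Set.mem_univ x : x ∈ fixedBy Ω σ)
      rw [h1σ, orderOf_one] at hσ
      omega
    rw [Set.ncard_pair hab]
    omega
  -- the normalizer
  obtain ⟨N, hN⟩ : ∃ N : Subgroup G,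
      N = Subgroup.normalizer ((Subgroup.zpowers σ : Subgroup G) : Set G) := ⟨_, rfl⟩
  obtain ⟨Q, hQ, hQidx⟩ := hsyl σ' hσ'
  have h4NH : 4 ∣ Nat.card (H ⊓ N : Subgroup G) := by
    have hdvd : Nat.card (Sylow 13 H) ∣ 972 := by
      refine (Sylow.card_dvd_index Q).trans ?_
      rw [hQidx]
      rcases he with rfl | rfl <;> norm_num
    have hodd : Odd (Nat.card (Sylow 13 H)) := Nat.odd_iff.2 (odd_of_dvd_nineHundred _
      (Nat.lt_succ_of_le (Nat.le_of_dvd (by norm_num) hdvd))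
      (Nat.mod_eq_zero_of_dvd hdvd) (card_sylow_modEq_one 13 H))
    have h1 := Subgroup.card_mul_index (Subgroup.normalizer ((Q : Subgroup H) : Set H))
    rw [show (Subgroup.normalizer ((Q : Subgroup H) : Set H)).index = Nat.card (Sylow 13 H) from
      (Sylow.card_eq_index_normalizer Q).symm, hD] at h1
    have h4 : 4 ∣ Nat.card (Subgroup.normalizer ((Q : Subgroup H) : Set H)) :=
      (Nat.Coprime.pow_left 2 (Nat.coprime_two_left.2 hodd)).dvd_of_dvd_mul_right
        (show 2 ^ 2 ∣ _ from ⟨39 * e ^ 2, by rw [h1]; ring⟩)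
    refine h4.trans ?_
    rw [← Subgroup.card_map_of_injective (K := Subgroup.normalizer ((Q : Subgroup H) : Set H))
      H.subtype_injective]
    refine Subgroup.card_dvd_of_le (le_inf (Subgroup.map_subtype_le _) ?_)
    refine (Subgroup.le_normalizer_map H.subtype).trans (le_of_eq ?_)
    rw [hN, hQ, MonoidHom.map_zpowers, hσeq]
    rfl
  have hperm : ∀ y ∈ N, ∀ x : Ω, σ • x = x → σ • y • x = y • x := by
    intro y hy x hx
    have h1 : y⁻¹ * σ * y ∈ Subgroup.zpowers σ := by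
      have := (inv_mem (hN ▸ hy) :
        y⁻¹ ∈ Subgroup.normalizer ((Subgroup.zpowers σ : Subgroup G) : Set G))
      have h2 := (this σ).1 (Subgroup.mem_zpowers σ)
      rwa [SetLike.mem_coe, inv_inv] at h2
    obtain ⟨i, hi⟩ := h1
    rw [smul_smul, show σ * y = y * σ ^ i by
      rw [show σ ^ i = y⁻¹ * σ * y from hi]; group, mul_smul]
    exact congrArg (y • ·) ((stabilizer G x).zpow_mem hx i)
  obtain ⟨y, hyN, hya⟩ : ∃ y ∈ N, y • a = b := by
    obtain ⟨g, hga, hgb⟩ := is_two_pretransitive_iff.1 h.two_trans hab hab.symm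
    have hmem : g * σ * g⁻¹ ∈ H := by
      rw [hH]
      refine ⟨?_, ?_⟩
      · show (g * σ * g⁻¹) • a = a
        rw [mul_smul, mul_smul, show g⁻¹ • a = b by rw [inv_smul_eq_iff, hgb],
          (hfixH σ hσH).2, hgb]
      · show (g * σ * g⁻¹) • b = b
        rw [mul_smul, mul_smul, show g⁻¹ • b = a by rw [inv_smul_eq_iff, hga],
          (hfixH σ hσH).1, hga]
    obtain ⟨Q2, hQ2, -⟩ := hsyl ⟨g * σ * g⁻¹, hmem⟩ (by
      rw [Subgroup.orderOf_mk, ← MulAut.conj_apply, MulEquiv.orderOf_eq, hσ])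
    obtain ⟨d, hd⟩ := MulAction.exists_smul_eq H Q2 Q
    have h1 : d * ⟨g * σ * g⁻¹, hmem⟩ * d⁻¹ ∈ (Q : Subgroup H) := by
      rw [← hd, Sylow.coe_subgroup_smul, Subgroup.mem_pointwise_smul_iff_inv_smul_mem]
      simp [hQ2, mul_assoc]
    rw [hQ] at h1
    refine ⟨(d : G) * g, hN ▸ mem_normalizer_zpowers ?_, by
      rw [mul_smul, hga, (hfixH d d.2).2]⟩
    obtain ⟨i, hi⟩ := h1
    refine ⟨i, ?_⟩
    have hi' := congrArg Subtype.val hi
    simp only [Subgroup.coe_zpow, Subgroup.coe_mul, Subgroup.coe_inv] at hi'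
    show σ ^ i = _
    rw [hσeq] at *
    rw [hi']
    group
  have h8 : 8 ∣ Nat.card N := by
    have horb : orbit N a = ({a, b} : Set Ω) := by
      ext x
      constructor
      · rintro ⟨w, rfl⟩
        have : (w : G) • a ∈ fixedBy Ω σ := hperm w w.2 a (hfixH σ hσH).1
        rwa [hfix] at this
      · rintro (rfl | rfl)
        · exact mem_orbit_self _
        · exact ⟨⟨y, hyN⟩, hya⟩
    have h1 := (stabilizer N a).card_mul_index
    rw [index_stabilizer, horb, Set.ncard_pair hab] at h1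
    have h2 : Nat.card (H ⊓ N : Subgroup G) = Nat.card (stabilizer N a) := by
      refine Nat.card_congr ⟨fun w => ⟨⟨(w : G), w.2.2⟩, (hfixH w w.2.1).1⟩,
        fun w => ⟨((w : N) : G), ?_, w.1.2⟩, fun _ => rfl, fun _ => rfl⟩
      have hwa : ((w : N) : G) • a = a := w.2
      have : ((w : N) : G) • b ∈ fixedBy Ω σ := hperm _ w.1.2 b (hfixH σ hσH).2
      rw [hfix] at this
      rcases this with hb | hb
      · exact absurd (smul_left_cancel _ (hwa.trans hb.symm)) hab
      · exact hH ▸ ⟨hwa, hb⟩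
    rw [← h1, ← h2]
    exact Nat.mul_dvd_mul_right h4NH 2
  -- an involution centralizing `σ`
  obtain ⟨x, hx2, hxσ⟩ : ∃ x : G, orderOf x = 2 ∧ σ * x = x * σ := by
    subst hN
    obtain ⟨f, hf⟩ : ∃ f, f = (Subgroup.zpowers σ).normalizerMonoidHom := ⟨_, rfl⟩
    have hr : Nat.card f.range ∣ 12 := by
      refine (Subgroup.card_subgroup_dvd_card _).trans ?_
      rw [IsCyclic.card_mulAut, hcσ, Nat.totient_prime (by norm_num)]
    have hk := f.ker.card_mul_index
    rw [Subgroup.index_ker] at hk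
    have h2 : 2 ∣ Nat.card f.ker := by
      rw [← hk] at h8
      rcases Nat.even_or_odd (Nat.card f.ker) with he' | ho
      · exact he'.two_dvd
      · exfalso
        have := (Nat.Coprime.pow_left 3 (Nat.coprime_two_left.2 ho)).dvd_of_dvd_mul_left
          (show 2 ^ 3 ∣ _ from h8)
        have := this.trans hr
        omega
    haveI : Fact (Nat.Prime 2) := ⟨Nat.prime_two⟩
    obtain ⟨⟨⟨x, hxN⟩, hxker⟩, hx2⟩ := exists_prime_orderOf_dvd_card' 2 h2
    rw [hf, Subgroup.normalizerMonoidHom_ker, Subgroup.mem_subgroupOf] at hxker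
    refine ⟨x, ?_, Subgroup.mem_centralizer_iff.1 hxker σ (Subgroup.mem_zpowers σ)⟩
    rwa [Subgroup.orderOf_mk, Subgroup.orderOf_mk] at hx2
  have hF := fix_three h hp4 hx2
  have hsub : fixedBy Ω x ⊆ fixedBy Ω σ := by
    intro w hw
    have horb : orbit (Subgroup.zpowers σ) w ⊆ fixedBy Ω x := by
      rintro _ ⟨⟨_, i, rfl⟩, rfl⟩
      show x • σ ^ i • w = σ ^ i • w
      rw [smul_smul, ← (Commute.zpow_left hxσ i).eq, ← smul_smul]
      exact congrArg (σ ^ i • ·) hw
    have hle := Set.ncard_le_ncard horb (Set.toFinite _)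
    have hdvd := (stabilizer (Subgroup.zpowers σ) w).index_dvd_card
    rw [index_stabilizer, hcσ, Nat.dvd_prime (by norm_num)] at hdvd
    rcases hdvd with h1 | h1
    · obtain ⟨z, hz⟩ := Set.ncard_eq_one.1 h1
      have e1 : σ • w ∈ orbit (Subgroup.zpowers σ) w :=
        ⟨⟨σ, Subgroup.mem_zpowers σ⟩, rfl⟩
      have e2 : w ∈ orbit (Subgroup.zpowers σ) w := mem_orbit_self w
      rw [hz, Set.mem_singleton_iff] at e1 e2
      exact e1.trans e2.symm
    · omega
  have := Set.ncard_le_ncard hsub (Set.toFinite _)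
  rw [hF, hfix, Set.ncard_pair hab] at this
  omega

private theorem e_values : ∀ e < 395, 155925 % (e ^ 2) = 0 → e ^ 2 % 5 = 1 → e = 1 ∨ e = 9 := by
  decide +kernel

private theorem mod_five_of_eq (x y : ℕ) (h : 32760 * x = 2 * 5 * y) (hy : y % 5 = 1 % 5) :
    x % 5 = 1 := by
  obtain rfl : y = 3276 * x := by linarith
  rw [Nat.mul_mod] at hy
  norm_num at hy
  exact hy

/-- Doubly transitive with `p ≡ 1` modulo four does not occur. -/
theorem two_one : TwoOneStmt.{u, v} := by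
  intro G _ _ Ω _ _ p h hp4
  classical
  haveI := h.faithful
  obtain ⟨h16, ⟨t, ht, h8⟩, u, hu, hu8⟩ := sylow_eight h hp4
  have hev := card_even_ge hu hu8
  have hcnt := count_bound h hp4
  have hNp := h.count_p
  have hG : 0 < Nat.card G := Nat.card_pos
  have hp3 := h.three_lt
  have hp5 : p = 5 := by
    have h1 : 16 * Nat.card {g : G // orderOf g = p} ≤ 7 * Nat.card G := by omega
    have h2 := Nat.mul_le_mul_left p h1
    have h3 : 8 * (p - 1) ≤ 7 * p := Nat.le_of_mul_le_mul_right (c := Nat.card G) (by linarith) hG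
    have := h.prime
    rcases (by omega : p = 5 ∨ p ≤ 4 ∨ 9 ≤ p ∨ p = 6 ∨ p = 7 ∨ p = 8) with e | e | e | e | e | e <;>
      omega
  subst hp5
  obtain ⟨a, b, hab⟩ : ∃ a b : Ω, a ≠ b := by
    haveI : Nontrivial Ω := Finite.one_lt_card_iff_nontrivial.1 (by rw [h.card]; norm_num)
    exact exists_pair_ne Ω
  have hpair := pair_card h hab
  obtain ⟨D, hD⟩ : ∃ D, D = Nat.card (stabilizer G a ⊓ stabilizer G b : Subgroup G) := ⟨_, rfl⟩
  rw [← hD] at hpair
  norm_num at hpair
  obtain ⟨c, hc⟩ := h8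
  have hf := h.formula t ht
  rw [hpair, hc, f0, if_pos (by norm_num)] at hf
  norm_num at hf
  have hfD : 27 * D = 52 * c ^ 2 := by nlinarith [hf]
  obtain ⟨e, rfl⟩ : 9 ∣ c := by
    have h27 : 27 ∣ c ^ 2 :=
      (show Nat.Coprime 27 52 by norm_num).dvd_of_dvd_mul_left ⟨D, hfD.symm⟩
    obtain ⟨c', rfl⟩ : 3 ∣ c :=
      Nat.prime_three.dvd_of_dvd_pow ((show 3 ∣ 27 by norm_num).trans h27)
    have : 3 ∣ c' ^ 2 := by
      rw [mul_pow, show (27 : ℕ) = 3 ^ 2 * 3 by norm_num] at h27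
      exact Nat.dvd_of_mul_dvd_mul_left (by norm_num) h27
    exact mul_dvd_mul_left 3 (Nat.prime_three.dvd_of_dvd_pow this)
  have hDe : D = 156 * e ^ 2 := by rw [mul_pow] at hfD; omega
  have hGe : Nat.card G = 32760 * e ^ 2 := by rw [hpair, hDe]; ring
  obtain ⟨N, hN1, hN2⟩ := h.index
  have hmod : e ^ 2 % 5 = 1 := by
    exact mod_five_of_eq _ N (hGe.symm.trans hN1) hN2
  have hodd : Odd e := by
    refine Nat.odd_iff.2 (Nat.two_dvd_ne_zero.1 fun ⟨i, hi⟩ => h16 ?_)
    rw [hGe, hi]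
    exact ⟨8190 * i ^ 2, by ring⟩
  have hdvd : e ^ 2 ∣ 155925 := by
    have h1 : Nat.card G ∣ Nat.factorial (3 * 5) := by
      rw [← h.card, ← Nat.card_perm]
      exact Subgroup.card_dvd_of_injective (MulAction.toPermHom G Ω) MulAction.toPerm_injective
    rw [hGe, show Nat.factorial (3 * 5) = 32760 * (256 * 155925) by decide +kernel] at h1
    have h2 := Nat.dvd_of_mul_dvd_mul_left (by norm_num) h1
    exact (Nat.Coprime.pow_right 8 (Nat.coprime_two_right.2 hodd.pow) :
      Nat.Coprime (e ^ 2) (2 ^ 8)).dvd_of_dvd_mul_left h2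
  have hlt : e < 395 := by
    have := Nat.le_of_dvd (by norm_num) hdvd
    nlinarith
  exact not_five h rfl a b hab e (e_values e hlt (Nat.mod_eq_zero_of_dvd hdvd) hmod)
    (hD.symm.trans hDe)

end CfsgLib.DegreeThreeP
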