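import Cfsg.Agent.Lib.DegreeThreeP.Defs
import Cfsg.Agent.Lib.Base.FrobeniusSolutions

/-!
# Simple groups of degree `3p`: the doubly transitive case, `p ≡ 3 [4]`, the counting

The Cauchy–Schwarz inequality for the indicator function of the elements whose order is twice an
odd number and the function `f (f - 2)`, both projected on the complement of the functions `1`,
`f - 1` and `Θ`, bounds the number of elements of odd order in the centralizer of an involution.
-/

set_option autoImplicit false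
set_option linter.style.haveILetI false
set_option linter.unusedSectionVars false

namespace CfsgLib.DegreeThreeP

open MulAction Cfsg

universe u v

namespace TwoThreeCountAux

variable {G : Type u} [Group G] [Finite G] {Ω : Type v} [MulAction G Ω] [Finite Ω] {p : ℕ}

/-- The orbit counting formula on injective tuples. -/
theorem sum_descFactorial [Fintype G] (m : ℕ) :
    ∑ g : G, (fx Ω g).descFactorial m =
      Nat.card (orbitRel.Quotient G (Fin m ↪ Ω)) * Nat.card G := by
  classical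
  letI := Fintype.ofFinite Ω
  letI : Fintype (orbitRel.Quotient G (Fin m ↪ Ω)) := Fintype.ofFinite _
  rw [Nat.card_eq_fintype_card (α := orbitRel.Quotient G (Fin m ↪ Ω)),
    Nat.card_eq_fintype_card (α := G)]
  refine Eq.trans ?_ (sum_card_fixedBy_eq_card_orbits_mul_card_group G (Fin m ↪ Ω))
  refine Finset.sum_congr rfl fun g _ => ?_
  have e : (fixedBy (Fin m ↪ Ω) g) ≃ (Fin m ↪ (fixedBy Ω g)) :=
    { toFun := fun x => ⟨fun i => ⟨x.1 i, by
          have h := DFunLike.congr_fun x.2 i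
          simpa [Function.Embedding.smul_apply] using h⟩,
        fun i j h => x.1.injective (congrArg Subtype.val h)⟩
      invFun := fun y => ⟨y.trans (Function.Embedding.subtype _), by
          refine Function.Embedding.ext fun i => ?_
          show g • (y i : Ω) = (y i : Ω)
          exact (y i).2⟩
      left_inv := fun x => by ext i; rfl
      right_inv := fun y => by ext i; rfl }
  rw [Fintype.card_congr e, Fintype.card_embedding_eq, Fintype.card_fin, fx,
    Nat.card_eq_fintype_card]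

theorem orbits_eq_one {m : ℕ} [IsPretransitive G (Fin m ↪ Ω)] (x : Fin m ↪ Ω) :
    Nat.card (orbitRel.Quotient G (Fin m ↪ Ω)) = 1 := by
  rw [Nat.card_eq_one_iff_unique]
  refine ⟨⟨fun a b => ?_⟩, ⟨Quotient.mk'' x⟩⟩
  obtain ⟨a, rfl⟩ := Quotient.mk''_surjective a
  obtain ⟨b, rfl⟩ := Quotient.mk''_surjective b
  rw [Quotient.eq'', orbitRel_apply, mem_orbit_iff]
  exact exists_smul_eq G b a

/-- A power of an element of even order is an involution. -/
theorem exists_invol {g : G} (h : Even (orderOf g)) :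
    ∃ n : ℕ, orderOf (g ^ n) = 2 := by
  obtain ⟨n, hn⟩ := even_iff_two_dvd.1 h
  have hpos := orderOf_pos g
  have hn0 : n ≠ 0 := by rintro rfl; omega
  refine ⟨n, ?_⟩
  rw [orderOf_pow' g hn0, Nat.gcd_eq_right (hn ▸ dvd_mul_left n 2), hn,
    Nat.mul_div_left 2 (Nat.pos_of_ne_zero hn0)]

/-- An element commuting with an involution fixing a single point fixes that point. -/
theorem smul_eq_of_commute {t g : G} {a : Ω} (hfix : fixedBy Ω t = {a}) (h : Commute t g) :
    g • a = a := by
  have ha : t • a = a := (hfix.symm ▸ Set.mem_singleton a : a ∈ fixedBy Ω t)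
  have : g • a ∈ fixedBy Ω t := by
    show t • g • a = g • a
    rw [← mul_smul, h.eq, mul_smul, ha]
  rw [hfix] at this
  exact this

variable (Ω) in
/-- Every involution fixes exactly one point. -/
def OneFix (G : Type u) [Group G] [MulAction G Ω] : Prop :=
  ∀ t : G, orderOf t = 2 → ∃ a, fixedBy Ω t = {a}

theorem oneFix (h2 : Inv G Ω p) (hp4 : p % 4 = 3) : OneFix Ω G := fun t ht => by
  have h := h2.fix t ht
  rw [f0, if_neg (by omega), fx, Nat.card_coe_set_eq, Set.ncard_eq_one] at h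
  exact h

theorem fx_even (h1 : OneFix Ω G) {g : G} (hg : Even (orderOf g)) : fx Ω g = 1 := by
  obtain ⟨n, hn⟩ := exists_invol hg
  obtain ⟨a, ha⟩ := h1 _ hn
  have hga : g • a = a := smul_eq_of_commute ha (Commute.pow_self g n)
  rw [fx, Nat.card_coe_set_eq, Set.ncard_eq_one]
  refine ⟨a, Set.eq_singleton_iff_unique_mem.2 ⟨hga, fun x hx => ?_⟩⟩
  have : x ∈ fixedBy Ω (g ^ n) := fixedBy_subset_fixedBy_zpow Ω g n (by exact hx) |> fun h => by
    simpa using h
  rw [ha] at this
  exact this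

/-- An element fixing two points has odd order. -/
theorem odd_of_fix (h1 : OneFix Ω G) {g : G} {x y : Ω} (hxy : x ≠ y) (hx : g • x = x)
    (hy : g • y = y) : Odd (orderOf g) := by
  by_contra hodd
  have h := fx_even h1 (Nat.not_odd_iff_even.1 hodd)
  rw [fx, Nat.card_coe_set_eq, Set.ncard_eq_one] at h
  obtain ⟨a, ha⟩ := h
  have hxa : x ∈ fixedBy Ω g := hx
  have hya : y ∈ fixedBy Ω g := hy
  rw [ha] at hxa hya
  exact hxy (hxa.trans hya.symm)

/-- The centralizer of an involution is transitive on the moved points. -/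
theorem trans_moved (h1 : OneFix Ω G) (hT : IsMultiplyPretransitive G Ω 2) {t : G}
    (ht : orderOf t = 2) {x y : Ω} (hx : t • x ≠ x) (hy : t • y ≠ y) :
    ∃ g ∈ Subgroup.centralizer ({t} : Set G), g • x = y := by
  have tt : t * t = 1 := by rw [← sq, ← ht, pow_orderOf_eq_one]
  have ti : t⁻¹ = t := inv_eq_of_mul_eq_one_right tt
  obtain ⟨g, hg1, hg2⟩ := is_two_pretransitive_iff.1 hT (Ne.symm hx) (Ne.symm hy)
  set t' : G := g * t * g⁻¹ with ht'
  have t't' : t' * t' = 1 := by
    rw [ht', show g * t * g⁻¹ * (g * t * g⁻¹) = g * (t * t) * g⁻¹ by group, tt, mul_one,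
      mul_inv_cancel]
  have h'y : t' • y = t • y := by
    rw [ht', mul_smul, mul_smul, ← hg1, inv_smul_smul, hg2, hg1]
  have h't : t' • t • y = y := by
    rw [← h'y, ← mul_smul, t't', one_smul]
  set z : G := t * t' with hz
  have hzy : z • y = y := by
    rw [hz, mul_smul, h'y, ← mul_smul, tt, one_smul]
  have hzty : z • t • y = t • y := by rw [hz, mul_smul, h't]
  obtain ⟨j, hj⟩ := odd_of_fix h1 (Ne.symm hy) hzy hzty
  have hinv : t' * z * t' = z⁻¹ := by
    rw [hz, mul_inv_rev, ti, inv_eq_of_mul_eq_one_right t't', mul_assoc t' (t * t') t',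
      mul_assoc t t' t', t't', mul_one]
  have t'i : t'⁻¹ = t' := inv_eq_of_mul_eq_one_right t't'
  set h : G := z ^ (j + 1) with hh
  have hconj : t' * h * t' = h⁻¹ := by
    calc t' * h * t' = (t' * z * t'⁻¹) ^ (j + 1) := by rw [hh, conj_pow, t'i]
      _ = h⁻¹ := by rw [t'i, hinv, inv_pow, hh]
  have hk : h * t' * h⁻¹ = t := by
    rw [← hconj]
    calc h * t' * (t' * h * t') = h * (t' * t') * h * t' := by group
      _ = z ^ (2 * j + 1) * z * t' := by
        rw [t't', mul_one, hh, ← pow_add, ← pow_succ]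
        congr 2
        ring
      _ = t := by
        rw [← hj, pow_orderOf_eq_one, one_mul, hz, mul_assoc, t't', mul_one]
  refine ⟨h * g, ?_, ?_⟩
  · rw [Subgroup.mem_centralizer_singleton_iff]
    refine mul_inv_eq_iff_eq_mul.1 ?_
    calc h * g * t * (h * g)⁻¹ = h * t' * h⁻¹ := by rw [ht']; group
      _ = t := hk
  · rw [mul_smul, hg1, hh]
    exact smul_pow_eq_self hzy _
where
  smul_pow_eq_self {z : G} {y : Ω} (h : z • y = y) (n : ℕ) : z ^ n • y = y := by
    induction n with
    | zero => rw [pow_zero, one_smul]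
    | succ n ih => rw [pow_succ, mul_smul, h, ih]

/-- The elements of odd order in a centralizer, counted for a conjugate. -/
theorem oddCount_conj (g t : G) : oddCount (g * t * g⁻¹) = oddCount t := by
  refine (Nat.card_congr ((MulAut.conj g).toEquiv.subtypeEquiv fun z => ?_)).symm
  show Commute t z ∧ Odd (orderOf z) ↔ _ ∧ _
  simp only [MulEquiv.toEquiv_eq_coe, EquivLike.coe_coe]
  rw [show MulAut.conj g z = g * z * g⁻¹ from rfl]
  refine and_congr ⟨fun h => h.map (MulAut.conj g).toMonoidHom, fun h => ?_⟩ ?_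
  · have := h.map (MulAut.conj g⁻¹).toMonoidHom
    simpa [MulAut.conj_apply, mul_assoc] using this
  · rw [show orderOf (g * z * g⁻¹) = orderOf z from
      orderOf_injective (MulAut.conj g).toMonoidHom (MulEquiv.injective _) z]

/-- The elements whose order is twice an odd number. -/
theorem card_two_odd (hconj : ∀ s t : G, orderOf s = 2 → orderOf t = 2 → IsConj s t) {t : G}
    (ht : orderOf t = 2) :
    Nat.card {g : G // orderOf g % 4 = 2} * cC t = Nat.card G * oddCount t := by
  classical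
  haveI := Fintype.ofFinite G
  have e : {g : G // orderOf g % 4 = 2} ≃
      Σ s : {s : G // orderOf s = 2}, {z : G // Commute (s : G) z ∧ Odd (orderOf z)} :=
    { toFun := fun g => ⟨⟨g.1 ^ (orderOf g.1 / 2), by
          have h := g.2
          rw [orderOf_pow' _ (by omega), Nat.gcd_eq_right ⟨2, by omega⟩]
          exact Nat.div_eq_of_eq_mul_left (by omega) (by omega)⟩,
        ⟨g.1 ^ (orderOf g.1 / 2 + 1), Commute.pow_pow_self _ _ _, by
          have h := g.2
          refine Odd.of_dvd_nat (n := orderOf g.1 / 2) (Nat.odd_iff.2 (by omega))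
            (orderOf_dvd_of_pow_eq_one ?_)
          rw [← pow_mul, ← orderOf_dvd_iff_pow_eq_one]
          obtain ⟨k, hk⟩ : ∃ k, orderOf g.1 / 2 + 1 = 2 * k :=
            ⟨(orderOf g.1 / 2 + 1) / 2, by omega⟩
          refine ⟨k, ?_⟩
          rw [hk, show orderOf g.1 = 2 * (orderOf g.1 / 2) by omega]
          rw [Nat.mul_div_cancel_left _ (by norm_num : 0 < 2)]
          ring⟩⟩
      invFun := fun x => ⟨x.1.1 * x.2.1, by
          have h := x.2.2.1.orderOf_mul_eq_mul_orderOf_of_coprime (by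
            rw [x.1.2]; exact Nat.coprime_two_left.2 x.2.2.2)
          obtain ⟨k, hk⟩ := x.2.2.2
          rw [h, x.1.2, hk]
          omega⟩
      left_inv := fun g => by
        refine Subtype.ext ?_
        show g.1 ^ (orderOf g.1 / 2) * g.1 ^ (orderOf g.1 / 2 + 1) = g.1
        have h := g.2
        rw [← pow_add, show orderOf g.1 / 2 + (orderOf g.1 / 2 + 1) = orderOf g.1 + 1 by omega,
          pow_succ, pow_orderOf_eq_one, one_mul]
      right_inv := fun ⟨⟨s, hs⟩, ⟨z, hz, hzo⟩⟩ => by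
        have ho : orderOf (s * z) / 2 = orderOf z := by
          rw [hz.orderOf_mul_eq_mul_orderOf_of_coprime (by
            rw [hs]; exact Nat.coprime_two_left.2 hzo), hs]
          omega
        have hss : s ^ 2 = 1 := hs ▸ pow_orderOf_eq_one s
        obtain ⟨k, hk⟩ := hzo
        refine Sigma.subtype_ext (Subtype.ext ?_) ?_
        · show (s * z) ^ (orderOf (s * z) / 2) = s
          rw [ho, hz.mul_pow, pow_orderOf_eq_one, mul_one, hk, pow_succ, pow_mul, hss, one_pow,
            one_mul]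
        · show (s * z) ^ (orderOf (s * z) / 2 + 1) = z
          rw [ho, hz.mul_pow, pow_succ z, pow_orderOf_eq_one, one_mul, hk,
            show 2 * k + 1 + 1 = 2 * (k + 1) by ring, pow_mul, hss, one_pow, one_mul] }
  have hfib : ∀ s : {s : G // orderOf s = 2},
      Nat.card {z : G // Commute (s : G) z ∧ Odd (orderOf z)} = oddCount t := fun s => by
    obtain ⟨g, hg⟩ := isConj_iff.1 (hconj t s ht s.2)
    rw [← oddCount_conj g t, hg]
    rfl
  have hinv : Nat.card {s : G // orderOf s = 2} = (Subgroup.centralizer ({t} : Set G)).index := by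
    rw [← CfsgLib.Base.Solutions.card_conjClass]
    refine Nat.card_congr (Equiv.subtypeEquivRight fun s => ?_)
    rw [ConjClasses.mem_carrier_iff_mk_eq, ConjClasses.mk_eq_mk_iff_isConj]
    refine ⟨fun h => hconj s t h ht, fun h => ?_⟩
    obtain ⟨g, hg⟩ := isConj_iff.1 h.symm
    rw [← hg]
    exact (orderOf_injective (MulAut.conj g).toMonoidHom (MulEquiv.injective _) t).trans ht
  rw [Nat.card_congr e, Nat.card_sigma, Finset.sum_congr rfl (fun s _ => hfib s),
    Finset.sum_const, smul_eq_mul, Finset.card_univ, ← Nat.card_eq_fintype_card, hinv, cC,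
    ← (Subgroup.centralizer ({t} : Set G)).index_mul_card]
  ring

/-- The number of elements of odd order in a centralizer is odd. -/
theorem oddCount_odd (t : G) : Odd (oddCount t) := by
  classical
  haveI := Fintype.ofFinite G
  rw [oddCount, Nat.card_eq_fintype_card, Fintype.card_subtype]
  set s := Finset.univ.filter fun z : G => Commute t z ∧ Odd (orderOf z) with hs
  have h1 : (1 : G) ∈ s := Finset.mem_filter.2 ⟨Finset.mem_univ _, Commute.one_right t, by simp⟩
  have h0 : ∑ z ∈ s.erase 1, (1 : ZMod 2) = 0 := by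
    refine Finset.sum_involution (fun z _ => z⁻¹) (fun z _ => by decide) (fun z hz _ e => ?_)
      (fun z hz => ?_) (fun z _ => inv_inv z)
    · obtain ⟨hne, hz⟩ := Finset.mem_erase.1 hz
      have hz2 : orderOf z ∣ 2 := orderOf_dvd_of_pow_eq_one (by
        rw [sq]; nth_rewrite 1 [← e]; rw [inv_mul_cancel])
      rcases (Nat.dvd_prime Nat.prime_two).1 hz2 with h | h
      · exact hne (orderOf_eq_one_iff.1 h)
      · have := (Finset.mem_filter.1 hz).2.2
        rw [h] at this
        exact absurd this (by decide)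
    · obtain ⟨hne, hz⟩ := Finset.mem_erase.1 hz
      obtain ⟨-, hc, ho⟩ := Finset.mem_filter.1 hz
      exact Finset.mem_erase.2 ⟨inv_ne_one.2 hne,
        Finset.mem_filter.2 ⟨Finset.mem_univ _, hc.inv_right, by rwa [orderOf_inv]⟩⟩
  rw [Finset.sum_const, nsmul_one, ZMod.natCast_eq_zero_iff_even, Finset.card_erase_of_mem h1]
    at h0
  have := Finset.card_pos.2 ⟨1, h1⟩
  obtain ⟨k, hk⟩ := h0
  exact ⟨k, by omega⟩

/-- The last step of the inequality. -/
theorem final_ineq {p k σ B : ℝ} (hp : 5 ≤ p) (hk : 1 ≤ k) (hσ : 0 < σ)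
    (h5 : 5 ≤ σ * (3 * p - 1))
    (hA : 0 ≤ σ - σ ^ 2 * (p + 1) / 2) (hB0 : 0 ≤ B)
    (hB : B ≤ (3 * p - 1) * k - k ^ 2 * (p + 1) / 2)
    (hcs : (σ * ((p - 1) * k / 2 - 1)) ^ 2 ≤ (σ - σ ^ 2 * (p + 1) / 2) * B) : False := by
  set X : ℝ := (p - 1) * k / 2 - 1 with hX
  set B' : ℝ := (3 * p - 1) * k - k ^ 2 * (p + 1) / 2 with hB'
  have h1 : σ * (σ * X ^ 2) ≤ σ * ((1 - σ * (p + 1) / 2) * B') := by
    have := hcs.trans (mul_le_mul_of_nonneg_left hB hA)
    linarith [this, show (σ * X) ^ 2 = σ * (σ * X ^ 2) by ring,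
      show (σ - σ ^ 2 * (p + 1) / 2) * B' = σ * ((1 - σ * (p + 1) / 2) * B') by ring]
  have h2 := le_of_mul_le_mul_left h1 hσ
  have hBk : 0 ≤ X ^ 2 + (p + 1) / 2 * B' := by
    have : 0 ≤ B' := hB0.trans hB
    positivity
  have h3 : 5 * (X ^ 2 + (p + 1) / 2 * B') ≤ (3 * p - 1) * B' := by
    have h4 : σ * (X ^ 2 + (p + 1) / 2 * B') ≤ B' := by linarith
    calc 5 * (X ^ 2 + (p + 1) / 2 * B') ≤ σ * (3 * p - 1) * (X ^ 2 + (p + 1) / 2 * B') :=
          mul_le_mul_of_nonneg_right h5 hBk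
      _ = (3 * p - 1) * (σ * (X ^ 2 + (p + 1) / 2 * B')) := by ring
      _ ≤ _ := mul_le_mul_of_nonneg_left h4 (by linarith)
  have hc : 0 ≤ 6 * p ^ 2 - 16 * p - 2 := by nlinarith
  have h5' : k * (6 * p ^ 2 - 16 * p - 2) ≤ k ^ 2 * (6 * p ^ 2 - 16 * p - 2) := by
    refine mul_le_mul_of_nonneg_right ?_ hc
    nlinarith
  have h6 : 0 < k ^ 2 * (6 * p ^ 2 - 16 * p - 2) + k * (-6 * p ^ 2 + 24 * p + 6) + 20 := by
    have : 0 ≤ k * (8 * p + 4) := by positivity
    linarith
  rw [hX, hB'] at h3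
  linarith [h3, h6, show 4 * (5 * (((p - 1) * k / 2 - 1) ^ 2 + (p + 1) / 2 *
      ((3 * p - 1) * k - k ^ 2 * (p + 1) / 2)) - (3 * p - 1) *
      ((3 * p - 1) * k - k ^ 2 * (p + 1) / 2)) =
    k ^ 2 * (6 * p ^ 2 - 16 * p - 2) + k * (-6 * p ^ 2 + 24 * p + 6) + 20 by ring]

/-- The Cauchy–Schwarz bound on the elements of odd order. -/
theorem oddCount_lt (h2 : Two G Ω p) (hp4 : p % 4 = 3) {t : G} (ht : orderOf t = 2) {c : ℕ}
    (hC : cC t = (3 * p - 1) * c) : oddCount t < 5 * c := by
  classical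
  by_contra hlt
  push Not at hlt
  haveI := Fintype.ofFinite G
  have hp := h2.prime
  have hp5 : 5 ≤ p := by have := h2.three_lt; omega
  have h1 := oneFix h2.toInv hp4
  haveI := h2.two_trans
  haveI : Fintype Ω := Fintype.ofFinite Ω
  have hn : Fintype.card Ω = 3 * p := by rw [← Nat.card_eq_fintype_card, h2.card]
  have emb : ∀ m, m ≤ 3 → Nonempty (Fin m ↪ Ω) := fun m hm => by
    rw [Function.Embedding.nonempty_iff_card_le, Fintype.card_fin, hn]; omega
  obtain ⟨e2⟩ := emb 2 (by norm_num)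
  obtain ⟨e1⟩ := emb 1 (by norm_num)
  obtain ⟨e3⟩ := emb 3 le_rfl
  haveI : IsPretransitive G Ω := isPretransitive_of_is_two_pretransitive
  haveI : IsMultiplyPretransitive G Ω 1 := is_one_pretransitive_iff.2 inferInstance
  set k : ℕ := Nat.card (orbitRel.Quotient G (Fin 3 ↪ Ω)) with hk
  have hk1 : 1 ≤ k := by
    haveI : Nonempty (orbitRel.Quotient G (Fin 3 ↪ Ω)) := ⟨Quotient.mk'' e3⟩
    exact Nat.card_pos
  set F : G → ℝ := fun g => (fx Ω g : ℝ) with hF
  set P : G → ℝ := fun g => if orderOf g = p then 1 else 0 with hP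
  set S : G → ℝ := fun g => if orderOf g % 4 = 2 then 1 else 0 with hS
  set M : G → ℝ := fun g => ((fx Ω g).descFactorial 3 : ℝ) with hM
  set N : ℝ := (Nat.card G : ℝ) with hN
  have hNpos : 0 < N := by rw [hN]; exact_mod_cast Nat.card_pos
  have hd2 : ∀ n : ℕ, ((n.descFactorial 2 : ℕ) : ℝ) = (n : ℝ) ^ 2 - n := fun n => by
    rcases n with _ | n
    · simp
    · simp [Nat.descFactorial_succ]; ring
  have hd3 : ∀ n : ℕ, ((n.descFactorial 3 : ℕ) : ℝ) = (n : ℝ) ^ 3 - 3 * (n : ℝ) ^ 2 + 2 * n :=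
    fun n => by
      rcases n with _ | _ | n
      · simp
      · simp; norm_num
      · simp [Nat.descFactorial_succ]; ring
  -- the moments
  have sF : ∑ g, F g = N := by
    have h := sum_descFactorial (G := G) (Ω := Ω) 1
    rw [orbits_eq_one e1, one_mul] at h
    simp only [Nat.descFactorial_one] at h
    rw [hF, hN, ← h, Nat.cast_sum]
  have sF2 : ∑ g, F g ^ 2 = 2 * N := by
    have h := congrArg (Nat.cast : ℕ → ℝ) (sum_descFactorial (G := G) (Ω := Ω) 2)
    rw [orbits_eq_one e2, one_mul, Nat.cast_sum, Finset.sum_congr rfl (fun g _ => hd2 _),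
      Finset.sum_sub_distrib] at h
    rw [hF] at sF ⊢
    linarith
  have sM : ∑ g, M g = k * N := by
    have h := congrArg (Nat.cast : ℕ → ℝ) (sum_descFactorial (G := G) (Ω := Ω) 3)
    rw [Nat.cast_sum, ← hk, Nat.cast_mul] at h
    exact h
  have sF3 : ∑ g, F g ^ 3 = k * N + 4 * N := by
    have h : ∑ g, F g ^ 3 = ∑ g, M g + 3 * ∑ g, F g ^ 2 - 2 * ∑ g, F g := by
      rw [Finset.mul_sum, Finset.mul_sum, ← Finset.sum_add_distrib, ← Finset.sum_sub_distrib]
      refine Finset.sum_congr rfl fun g _ => ?_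
      simp only [hM, hF, hd3]
      ring
    rw [h, sM, sF2, sF]; ring
  have hle : ∀ g, F g ^ 4 - 5 * F g ^ 3 + 8 * F g ^ 2 - 4 * F g ≤ (3 * p - 2) * M g := fun g => by
    have hb : (F g : ℝ) ≤ 3 * p := by
      simp only [hF]
      have : fx Ω g ≤ 3 * p := by
        rw [fx, ← h2.card]; exact Finite.card_subtype_le _
      exact_mod_cast this
    have h0 : 0 ≤ M g := Nat.cast_nonneg _
    have e : F g ^ 4 - 5 * F g ^ 3 + 8 * F g ^ 2 - 4 * F g = (F g - 2) * M g := by
      simp only [hM, hF, hd3]; ring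
    rw [e]
    exact mul_le_mul_of_nonneg_right (by linarith) h0
  have sF4 : ∑ g, F g ^ 4 ≤ (3 * p - 2) * (k * N) + 5 * (k * N + 4 * N) - 8 * (2 * N) + 4 * N := by
    have h := Finset.sum_le_sum (fun g (_ : g ∈ Finset.univ) => hle g)
    simp only [Finset.sum_sub_distrib, Finset.sum_add_distrib, ← Finset.mul_sum] at h
    rw [sM, sF3, sF2, sF] at h
    linarith
  set σ : ℝ := (oddCount t : ℝ) / (cC t : ℝ) with hσ
  have hCpos : (0 : ℝ) < cC t := by exact_mod_cast Nat.card_pos
  have sS : ∑ g, S g = σ * N := by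
    have h : ∑ g, S g = (Nat.card {g : G // orderOf g % 4 = 2} : ℝ) := by
      rw [hS, Finset.sum_boole, Nat.card_eq_fintype_card, Fintype.card_subtype]
    have h' : (Nat.card {g : G // orderOf g % 4 = 2} : ℝ) * cC t = N * oddCount t := by
      rw [hN]; exact_mod_cast card_two_odd h2.conj ht
    rw [h, hσ, div_mul_eq_mul_div, eq_div_iff hCpos.ne', h']
    ring
  have sP : ∑ g, P g = N * (p - 1) / (2 * p) := by
    have h : ∑ g, P g = (Nat.card {g : G // orderOf g = p} : ℝ) := by
      rw [hP, Finset.sum_boole, Nat.card_eq_fintype_card, Fintype.card_subtype]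
    have h' := congrArg (Nat.cast : ℕ → ℝ) h2.count_p
    push_cast [Nat.cast_sub hp.one_le] at h'
    have : (0 : ℝ) < p := by exact_mod_cast hp.pos
    rw [h, eq_div_iff (by positivity), hN]
    linarith
  -- the cases
  have hcases : ∀ g, (P g = 1 ∧ S g = 0 ∧ F g = 0) ∨ (P g = 0 ∧ S g = 1 ∧ F g = 1) ∨
      (P g = 0 ∧ S g = 0) := fun g => by
    simp only [hP, hS, hF]
    by_cases h : orderOf g = p
    · refine Or.inl ⟨if_pos h, if_neg ?_, ?_⟩
      · rw [h]; omega
      · rw [h2.free g h, Nat.cast_zero]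
    · refine Or.inr ?_
      by_cases h4 : orderOf g % 4 = 2
      · refine Or.inl ⟨if_neg h, if_pos h4, ?_⟩
        rw [fx_even h1 (Nat.even_iff.2 (by omega)), Nat.cast_one]
      · exact Or.inr ⟨if_neg h, if_neg h4⟩
  set q : ℝ := ((p : ℝ) - 1) / 2 with hq
  set b : ℝ := 2 + k + k * q with hb
  set d : ℝ := k * p with hd
  set Z : G → ℝ := fun g => S g + σ * (q * F g + p * P g - p) with hZ
  set L : G → ℝ := fun g => F g ^ 2 - b * F g + d - d * P g with hL
  have eZZ : ∀ g, Z g ^ 2 = (1 + 2 * σ * (q - p)) * S g + σ ^ 2 * q ^ 2 * F g ^ 2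
      - σ ^ 2 * p ^ 2 * P g - 2 * σ ^ 2 * p * q * F g + σ ^ 2 * p ^ 2 := fun g => by
    simp only [hZ]
    rcases hcases g with ⟨h, h', h''⟩ | ⟨h, h', h''⟩ | ⟨h, h'⟩
    · rw [h, h', h'']; ring
    · rw [h, h', h'']; ring
    · rw [h, h']; ring
  have eZL : ∀ g, Z g * L g = (1 - b + d) * S g + σ * q * F g ^ 3 - σ * (q * b + p) * F g ^ 2
      + σ * (q * d + p * b) * F g + σ * p * d * P g - σ * p * d := fun g => by
    simp only [hZ, hL]
    rcases hcases g with ⟨h, h', h''⟩ | ⟨h, h', h''⟩ | ⟨h, h'⟩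
    · rw [h, h', h'']; ring
    · rw [h, h', h'']; ring
    · rw [h, h']; ring
  have eLL : ∀ g, L g ^ 2 = F g ^ 4 - 2 * b * F g ^ 3 + (b ^ 2 + 2 * d) * F g ^ 2
      - 2 * b * d * F g - d ^ 2 * P g + d ^ 2 := fun g => by
    simp only [hL]
    rcases hcases g with ⟨h, h', h''⟩ | ⟨h, h', h''⟩ | ⟨h, h'⟩
    · rw [h, h'']; ring
    · rw [h, h'']; ring
    · rw [h]; ring
  have hpR : (5 : ℝ) ≤ p := by exact_mod_cast hp5
  have hcard : (Fintype.card G : ℝ) = N := by rw [hN, Nat.card_eq_fintype_card]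
  have vZZ : ∑ g, Z g ^ 2 = N * (σ - σ ^ 2 * (p + 1) / 2) := by
    rw [Finset.sum_congr rfl (fun g _ => eZZ g)]
    simp only [Finset.sum_sub_distrib, Finset.sum_add_distrib, ← Finset.mul_sum, Finset.sum_const,
      Finset.card_univ, nsmul_eq_mul, hcard, sS, sF2, sF, sP]
    rw [hq]
    field_simp
    ring
  have vZL : ∑ g, Z g * L g = N * (σ * ((p - 1) * k / 2 - 1)) := by
    rw [Finset.sum_congr rfl (fun g _ => eZL g)]
    simp only [Finset.sum_sub_distrib, Finset.sum_add_distrib, ← Finset.mul_sum, Finset.sum_const,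
      Finset.card_univ, nsmul_eq_mul, hcard, sS, sF3, sF2, sF, sP]
    rw [hd, hb, hq]
    field_simp
    ring
  have vLL : ∑ g, L g ^ 2 ≤ N * ((3 * p - 1) * k - k ^ 2 * (p + 1) / 2) := by
    rw [Finset.sum_congr rfl (fun g _ => eLL g)]
    simp only [Finset.sum_sub_distrib, Finset.sum_add_distrib, ← Finset.mul_sum, Finset.sum_const,
      Finset.card_univ, nsmul_eq_mul, hcard, sF3, sF2, sF, sP]
    refine le_trans (le_of_eq ?_) (le_trans (add_le_add_right sF4
      (-(2 * b * (k * N + 4 * N)) + (b ^ 2 + 2 * d) * (2 * N) - 2 * b * d * N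
        - d ^ 2 * (N * (p - 1) / (2 * p)) + N * d ^ 2)) (le_of_eq ?_))
    · ring
    · rw [hd, hb, hq]
      field_simp
      ring
  have hcs := Finset.sum_mul_sq_le_sq_mul_sq Finset.univ Z L
  have hBnn : 0 ≤ ∑ g, L g ^ 2 := Finset.sum_nonneg fun g _ => sq_nonneg _
  have hAnn : 0 ≤ ∑ g, Z g ^ 2 := Finset.sum_nonneg fun g _ => sq_nonneg _
  rw [vZZ] at hcs hAnn
  rw [vZL] at hcs
  have hkR : (1 : ℝ) ≤ k := by exact_mod_cast hk1
  have h5 : 5 ≤ σ * (3 * p - 1) := by
    have hc : (cC t : ℝ) = (3 * p - 1) * c := by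
      rw [hC]; push_cast [Nat.cast_sub (show 1 ≤ 3 * p by omega)]; ring
    have hl : (5 * c : ℝ) ≤ oddCount t := by exact_mod_cast hlt
    have hcpos : (0 : ℝ) < c := by
      have : c ≠ 0 := by
        rintro rfl
        rw [mul_zero] at hC
        exact (Nat.card_pos (α := Subgroup.centralizer ({t} : Set G))).ne' hC
      exact_mod_cast Nat.pos_of_ne_zero this
    rw [hσ, div_mul_eq_mul_div, le_div_iff₀ hCpos, hc]
    nlinarith
  have hσpos : 0 < σ := by
    rcases lt_or_ge 0 σ with h | h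
    · exact h
    · nlinarith
  refine final_ineq (B := (∑ g, L g ^ 2) / N) hpR hkR hσpos h5 ?_ (div_nonneg hBnn hNpos.le)
    (by rw [div_le_iff₀ hNpos]; linarith) ?_
  · exact nonneg_of_mul_nonneg_right hAnn hNpos
  · refine le_of_mul_le_mul_left ?_ (pow_pos hNpos 2)
    calc N ^ 2 * (σ * (((p : ℝ) - 1) * k / 2 - 1)) ^ 2
        = (N * (σ * ((p - 1) * k / 2 - 1))) ^ 2 := by ring
      _ ≤ _ := hcs
      _ = N ^ 2 * ((σ - σ ^ 2 * (p + 1) / 2) * ((∑ g, L g ^ 2) / N)) := by
        field_simp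

end TwoThreeCountAux

open TwoThreeCountAux in
theorem two_three_count : TwoThreeCountStmt.{u, v} := by
  intro G _ _ Ω _ _ p h2 hp4
  classical
  have hp := h2.prime
  have hp3 := h2.three_lt
  have h1 := oneFix h2.toInv hp4
  obtain ⟨t, ht⟩ : ∃ t : G, orderOf t = 2 := by
    haveI := Fact.mk hp
    haveI : Fact (Nat.Prime 2) := ⟨Nat.prime_two⟩
    obtain ⟨N, hN, -⟩ := h2.index
    exact exists_prime_orderOf_dvd_card' 2 (hN ▸ (dvd_mul_right 2 p).mul_right N)
  obtain ⟨a, ha⟩ := h1 t ht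
  have hmoved : ∀ x : Ω, x ≠ a → t • x ≠ x := fun x hx e => hx (by
    have : x ∈ fixedBy Ω t := e
    rw [ha] at this
    exact this)
  haveI : Nontrivial Ω := Finite.one_lt_card_iff_nontrivial.1 (by rw [h2.card]; omega)
  obtain ⟨b, hb⟩ := exists_ne a
  set Z := Subgroup.centralizer ({t} : Set G) with hZ
  have hle : Z ≤ stabilizer G a := fun g hg =>
    smul_eq_of_commute ha (Subgroup.mem_centralizer_singleton_iff.1 hg).symm
  have htrans : ∀ x : Ω, x ≠ a → ∃ g ∈ Z, g • b = x := fun x hx =>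
    trans_moved h1 h2.two_trans ht (hmoved b hb) (hmoved x hx)
  have horb : orbit Z b = {a}ᶜ := by
    ext x
    simp only [Set.mem_compl_iff, Set.mem_singleton_iff]
    refine ⟨?_, fun hx => ?_⟩
    · rintro ⟨g, rfl⟩ e
      refine hb (smul_left_cancel (g : G) ?_)
      exact (show (g : G) • b = a from e).trans (hle g.2).symm
    · obtain ⟨g, hg, e⟩ := htrans x hx
      exact ⟨⟨g, hg⟩, e⟩
  set c := Nat.card (Z ⊓ stabilizer G b : Subgroup G) with hc
  have hC : cC t = (3 * p - 1) * c := by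
    have h := Subgroup.index_mul_card (stabilizer Z b)
    rw [index_stabilizer, horb, Set.ncard_compl, Set.ncard_singleton, h2.card] at h
    rw [cC, ← hZ, ← h]
    congr 1
    rw [hc]
    exact Nat.card_congr
      { toFun := fun g => ⟨g.1.1, g.1.2, g.2⟩
        invFun := fun g => ⟨⟨g.1, g.2.1⟩, g.2.2⟩
        left_inv := fun g => rfl
        right_inv := fun g => rfl }
  have hcodd : Odd c := by
    by_contra he
    haveI : Fact (Nat.Prime 2) := ⟨Nat.prime_two⟩
    obtain ⟨g, hg⟩ := exists_prime_orderOf_dvd_card' (G := (Z ⊓ stabilizer G b : Subgroup G)) 2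
      (even_iff_two_dvd.1 (Nat.not_odd_iff_even.1 he))
    have := odd_of_fix h1 hb g.2.2 (hle g.2.1)
    rw [Subgroup.orderOf_coe, hg] at this
    exact absurd this (by decide)
  have hcpos : 0 < c := Nat.card_pos
  have h3 : 3 ∣ c := by
    haveI := h2.two_trans
    haveI : IsPretransitive G Ω := isPretransitive_of_is_two_pretransitive
    have hdvd : 3 * p ∣ Nat.card G := by
      have := index_stabilizer_of_transitive G a
      rw [h2.card] at this
      exact this ▸ Subgroup.index_dvd_card _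
    have hf := h2.formula t ht
    rw [hC, f0, if_neg (by omega)] at hf
    have e : Nat.card G = p * (3 * p - 1) * (3 * p - 2) * c ^ 2 := by
      refine Nat.eq_of_mul_eq_mul_right (pow_pos (show 0 < 3 * p - 1 by omega) 2) ?_
      rw [hf]; ring
    have hd : 3 ∣ p * (3 * p - 1) * (3 * p - 2) * c ^ 2 :=
      e ▸ (dvd_mul_right 3 p).trans hdvd
    have h3' := Nat.prime_three
    rcases h3'.dvd_mul.1 hd with hd | hd
    · rcases h3'.dvd_mul.1 hd with hd | hd
      · rcases h3'.dvd_mul.1 hd with hd | hd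
        · have := (Nat.prime_dvd_prime_iff_eq h3' hp).1 hd
          omega
        · omega
      · omega
    · exact h3'.dvd_of_dvd_pow hd
  have hlt := oddCount_lt h2 hp4 ht hC
  obtain ⟨j, w, hw2, hjw⟩ :=
    Nat.exists_eq_pow_mul_and_not_dvd (show 3 * p - 1 ≠ 0 by omega) 2 (by norm_num)
  have hwodd : Odd w := Nat.not_even_iff_odd.1 fun h => hw2 (even_iff_two_dvd.1 h)
  have hfrob : w * c ∣ oddCount t := by
    have hcardZ : Nat.card Z = 2 ^ j * (w * c) := by
      rw [← mul_assoc, ← hjw, ← hC]; rfl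
    have hd := CfsgLib.Base.Solutions.dvd_card_pow_eq_one (G := Z) (m := w * c)
      (hcardZ ▸ dvd_mul_left _ _)
    refine hd.trans (dvd_of_eq (Nat.card_congr ?_))
    exact
      { toFun := fun g => ⟨g.1.1, (Subgroup.mem_centralizer_singleton_iff.1 g.1.2).symm, by
          rw [Subgroup.orderOf_coe]
          exact Odd.of_dvd_nat (hwodd.mul hcodd) (orderOf_dvd_of_pow_eq_one g.2)⟩
        invFun := fun g => ⟨⟨g.1, Subgroup.mem_centralizer_singleton_iff.2 g.2.1.eq.symm⟩, by
          rw [← orderOf_dvd_iff_pow_eq_one, ← Subgroup.orderOf_coe]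
          have h := Subgroup.orderOf_dvd_natCard Z
            (Subgroup.mem_centralizer_singleton_iff.2 g.2.1.eq.symm : g.1 ∈ Z)
          rw [hcardZ] at h
          exact (Nat.Coprime.pow_right j (Nat.coprime_two_right.2 g.2.2)).dvd_of_dvd_mul_left h⟩
        left_inv := fun g => rfl
        right_inv := fun g => rfl }
  obtain ⟨i, hi⟩ := hfrob
  have hodd := oddCount_odd t
  have hi0 : i ≠ 0 := by rintro rfl; rw [hi] at hodd; simp at hodd
  have hwi : w * i < 5 := by
    refine Nat.lt_of_mul_lt_mul_left (a := c) ?_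
    calc c * (w * i) = oddCount t := by rw [hi]; ring
      _ < c * 5 := by linarith
  have hw5 : w < 5 := lt_of_le_of_lt (Nat.le_mul_of_pos_right w (Nat.pos_of_ne_zero hi0)) hwi
  have hw1 : w = 1 := by
    obtain ⟨m, hm⟩ := hwodd
    have hne : w ≠ 3 := by
      rintro rfl
      have : 3 ∣ 3 * p - 1 := hjw ▸ dvd_mul_left 3 _
      omega
    omega
  have hodd' : Odd i := by
    rw [hi] at hodd
    exact (Nat.odd_mul.1 hodd).2
  refine ⟨t, a, b, ht, ha, hb, hle, htrans, hC, hcodd, h3, ⟨j, by rw [hjw, hw1, mul_one]⟩, ?_⟩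
  rw [hi, hw1, one_mul, mul_comm]
  obtain ⟨m, hm⟩ := hodd'
  rw [hw1, one_mul] at hwi
  exact Nat.mul_le_mul_right c (show i ≤ 3 by omega)

end CfsgLib.DegreeThreeP
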