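import Cfsg.Agent.Lib.DegreeThreeP.Defs
import Cfsg.Agent.Lib.Base.MinimalNormal
import Cfsg.Agent.S0563

/-!
# Simple groups of degree `3p`: the doubly transitive case, `p ≡ 3 [4]`, the structure of the
centralizer

An abstract group `C` with a core-free odd subgroup `E` of index a power of two which has at most
`3|E|` elements of odd order has `|E| ≤ 3`.
-/

set_option autoImplicit false
set_option linter.style.haveILetI false
set_option linter.unusedSectionVars false

namespace CfsgLib.DegreeThreeP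

open MulAction Cfsg
open scoped commutatorElement

universe u v

namespace TwoThreeEndAux

open Subgroup Finset

variable {C : Type*} [Group C] [Finite C] {E : Subgroup C}

theorem ord_conj (x g : C) : orderOf (x * g * x⁻¹) = orderOf g :=
  orderOf_injective (MulAut.conj x).toMonoidHom (MulEquiv.injective _) g

theorem mem_of_odd {N : Subgroup C} (hEN : E ≤ N) (hn : N ≤ normalizer (E : Set C))
    (hk : ∃ k : ℕ, E.index = 2 ^ k) {g : C} (hgN : g ∈ N) (hg : Odd (orderOf g)) : g ∈ E := by
  obtain ⟨k, hk⟩ := hk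
  haveI : (E.subgroupOf N).Normal := (normal_subgroupOf_iff_le_normalizer hEN).2 hn
  have h1 := Subgroup.pow_index_mem (E.subgroupOf N) ⟨g, hgN⟩
  have hd : (E.subgroupOf N).index ∣ 2 ^ k := hk ▸ ⟨N.index, (relIndex_mul_index hEN).symm⟩
  obtain ⟨d, hd⟩ := hd
  have h2 : (g ^ (E.subgroupOf N).index) ∈ E := mem_subgroupOf.1 h1
  have h3 : g ^ 2 ^ k ∈ E := by rw [hd, pow_mul]; exact pow_mem h2 d
  obtain ⟨m, hm⟩ := hg
  have hco : Nat.Coprime (2 ^ k) (orderOf g) :=
    (Nat.Coprime.pow_left k (Nat.coprime_two_left.2 ⟨m, hm⟩))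
  obtain ⟨a, ha⟩ := exists_pow_eq_self_of_coprime hco
  exact ha ▸ pow_mem h3 a

theorem fixed_iff {H : Subgroup C} {g x : C} :
    g • (x : C ⧸ H) = (x : C ⧸ H) ↔ x⁻¹ * g * x ∈ H := by
  rw [MulAction.Quotient.smul_mk, QuotientGroup.eq, smul_eq_mul, mul_inv_rev]
  constructor <;> intro h <;> simpa [mul_assoc] using H.inv_mem h

theorem odd_of_fixed (hodd : Odd (Nat.card E)) {g : C} {q : C ⧸ E} (h : g • q = q) :
    Odd (orderOf g) := by
  obtain ⟨x, rfl⟩ := QuotientGroup.mk_surjective q
  have h1 := fixed_iff.1 h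
  have h2 : orderOf (x⁻¹ * g * x) ∣ Nat.card E := by
    have h3 := _root_.orderOf_dvd_natCard (⟨_, h1⟩ : E)
    rwa [Subgroup.orderOf_mk] at h3
  have e : orderOf (x⁻¹ * g * x) = orderOf g := by simpa using ord_conj x⁻¹ g
  exact Odd.of_dvd_nat hodd (e ▸ h2)

/-- The Cauchy–Schwarz inequality for the fixed point function on the cosets of `E`. -/
theorem cauchy (hodd : Odd (Nat.card E)) :
    Nat.card C ^ 2 ≤ Nat.card {g : C // Odd (orderOf g)} * (E.index *
      ∑ᶠ e : E, Nat.card (fixedBy (C ⧸ E) (e : C))) := by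
  classical
  letI := Fintype.ofFinite C
  letI : Fintype (C ⧸ E) := Fintype.ofFinite _
  set f : C → ℕ := fun g => (Finset.univ.filter fun q : C ⧸ E => g • q = q).card with hf
  have hfix : ∀ g : C, Nat.card (fixedBy (C ⧸ E) g) = f g := fun g => by
    show _ = (Finset.univ.filter fun q : C ⧸ E => g • q = q).card
    rw [← Nat.card_eq_finsetCard]
    exact Nat.card_congr (Equiv.subtypeEquivRight fun q => by simp [mem_fixedBy])
  have h1 : ∑ g : C, f g = Nat.card C := by
    have h := sum_card_fixedBy_eq_card_orbits_mul_card_group C (C ⧸ E)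
    have hu : Fintype.card (Quotient (orbitRel C (C ⧸ E))) = 1 := by
      refine Fintype.card_eq_one_iff.2 ⟨Quotient.mk'' (QuotientGroup.mk 1), fun y => ?_⟩
      induction y using Quotient.inductionOn' with
      | h a =>
        obtain ⟨x, rfl⟩ := QuotientGroup.mk_surjective a
        exact Quotient.sound' (show _ ∈ orbit C _ from ⟨x, by simp [MulAction.Quotient.smul_mk]⟩)
    rw [hu, one_mul, ← Nat.card_eq_fintype_card] at h
    rw [← h]
    exact Finset.sum_congr rfl fun g _ => by
      rw [← hfix g, Nat.card_eq_fintype_card]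
  have hconj : ∀ (x g : C), f (x⁻¹ * g * x) = f g := fun x g => by
    rw [hf]
    refine Finset.card_equiv (MulAction.toPerm x) fun q => ?_
    simp only [Finset.mem_filter, Finset.mem_univ, true_and, MulAction.toPerm_apply]
    rw [mul_smul, mul_smul, inv_smul_eq_iff]
  have h2 : ∑ g : C, f g ^ 2 = Fintype.card (C ⧸ E) * ∑ e : E, f e := by
    have step : ∀ g : C, f g ^ 2 = ∑ q : C ⧸ E, if g • q = q then f g else 0 := fun g => by
      rw [← Finset.sum_filter, Finset.sum_const, smul_eq_mul, sq]
    rw [Finset.sum_congr rfl fun g _ => step g, Finset.sum_comm,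
      Finset.sum_congr rfl (g := fun _ => ∑ e : E, f e), Finset.sum_const, smul_eq_mul,
      Finset.card_univ]
    intro q _
    obtain ⟨x, rfl⟩ := QuotientGroup.mk_surjective q
    rw [← Finset.sum_filter]
    refine Finset.sum_bij' (fun g hg => (⟨x⁻¹ * g * x, fixed_iff.1 (Finset.mem_filter.1 hg).2⟩ : E))
      (fun e _ => x * e * x⁻¹) (fun g _ => Finset.mem_univ _) (fun e _ => ?_) ?_ ?_ ?_
    · refine Finset.mem_filter.2 ⟨Finset.mem_univ _, fixed_iff.2 ?_⟩
      rw [show x⁻¹ * (x * (e : C) * x⁻¹) * x = e by group]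
      exact e.2
    · intro g _; show x * (x⁻¹ * g * x) * x⁻¹ = g; group
    · intro e _; exact Subtype.ext (by show x⁻¹ * (x * (e : C) * x⁻¹) * x = e; group)
    · intro g _; exact (hconj x g).symm
  set s : Finset C := Finset.univ.filter fun g : C => Odd (orderOf g) with hs
  have hz : ∀ g ∈ (Finset.univ : Finset C), g ∉ s → f g = 0 := fun g _ hg => by
    rw [hf, Finset.card_eq_zero, Finset.filter_eq_empty_iff]
    exact fun q _ hq => hg (Finset.mem_filter.2 ⟨Finset.mem_univ _, odd_of_fixed hodd hq⟩)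
  have hsum : ∑ g ∈ s, f g = Nat.card C := by rw [← h1]; exact Finset.sum_subset (by simp) hz
  have h3 : (∑ g ∈ s, f g) ^ 2 ≤ s.card * ∑ g ∈ s, f g ^ 2 := sq_sum_le_card_mul_sum_sq
  rw [hsum, Finset.sum_subset (Finset.subset_univ s) (fun g hg hg' => by rw [hz g hg hg']; rfl),
    h2] at h3
  rw [index_eq_card, Nat.card_eq_fintype_card (α := C ⧸ E), finsum_eq_sum_of_fintype,
    Nat.card_eq_fintype_card (α := {g : C // Odd (orderOf g)}), Fintype.card_subtype]
  simpa only [hfix] using h3

variable (hodd : Odd (Nat.card E)) (hk : ∃ k : ℕ, E.index = 2 ^ k) (hcore : E.normalCore = ⊥)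
  (hL : Nat.card {g : C // Odd (orderOf g)} ≤ 3 * Nat.card E)

include hodd hk hL in
/-- The orbits of `E` on the conjugates of `E` have at most three elements. -/
theorem orbit_le : ∀ y : C ⧸ normalizer (E : Set C),
    (Nat.card (orbit E y) = 1 ∨ Nat.card (orbit E y) = 3) := by
  classical
  set N := normalizer (E : Set C) with hN
  have hEN : E ≤ N := le_normalizer
  letI := Fintype.ofFinite C
  letI : Fintype (C ⧸ E) := Fintype.ofFinite _
  letI : Fintype (C ⧸ N) := Fintype.ofFinite _
  -- fixed points upstairs and downstairs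
  have hfib : ∀ e : E, Nat.card (fixedBy (C ⧸ E) (e : C)) =
      E.relIndex N * Nat.card (fixedBy (C ⧸ N) e) := by
    intro e
    set π := Subgroup.quotientEquivProdOfLE hEN with hπ
    have hfst : ∀ x : C, (π (x : C ⧸ E)).1 = (x : C ⧸ N) := fun x => rfl
    have key : ∀ q : C ⧸ E, (e : C) • q = q ↔ (e : C) • (π q).1 = (π q).1 := by
      intro q
      obtain ⟨x, rfl⟩ := QuotientGroup.mk_surjective q
      rw [hfst, fixed_iff, fixed_iff]
      refine ⟨fun h => hEN h, fun h => mem_of_odd hEN le_rfl hk h ?_⟩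
      have he : Odd (orderOf (e : C)) := by
        rw [Subgroup.orderOf_coe]; exact Odd.of_dvd_nat hodd (_root_.orderOf_dvd_natCard e)
      have e' : orderOf (x⁻¹ * (e : C) * x) = orderOf (e : C) := by
        simpa using ord_conj x⁻¹ (e : C)
      exact e' ▸ he
    rw [mul_comm, relIndex, index_eq_card, ← Nat.card_prod]
    refine Nat.card_congr ?_
    refine ((π.subtypeEquiv (q := fun w => (e : C) • w.1 = w.1) key).trans
      (Equiv.prodSubtypeFstEquivSubtypeProd (p := fun y : C ⧸ N => (e : C) • y = y)))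
  have hidx : E.relIndex N * N.index = E.index := relIndex_mul_index hEN
  set R := Nat.card (Quotient (orbitRel E (C ⧸ N))) with hR
  have hburn : ∑ᶠ e : E, Nat.card (fixedBy (C ⧸ N) e) = R * Nat.card E := by
    letI := Fintype.ofFinite E
    letI : Fintype (Quotient (orbitRel E (C ⧸ N))) := Fintype.ofFinite _
    have h := sum_card_fixedBy_eq_card_orbits_mul_card_group E (C ⧸ N)
    rw [finsum_eq_sum_of_fintype, hR, Nat.card_eq_fintype_card (α := E),
      Nat.card_eq_fintype_card (α := Quotient (orbitRel E (C ⧸ N))), ← h]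
    exact Finset.sum_congr rfl fun e _ => Nat.card_eq_fintype_card
  have hmR : N.index ≤ 3 * R := by
    have h := cauchy hodd
    letI := Fintype.ofFinite E
    rw [finsum_eq_sum_of_fintype, Finset.sum_congr rfl (fun e _ => hfib e), ← Finset.mul_sum,
      ← finsum_eq_sum_of_fintype, hburn] at h
    have h' : (N.index * E.relIndex N * Nat.card E) ^ 2 ≤
        3 * Nat.card E * (E.index * (E.relIndex N * (R * Nat.card E))) := by
      refine le_trans (le_of_eq ?_) (h.trans (Nat.mul_le_mul_right _ hL))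
      rw [← card_mul_index E, ← hidx]
      ring
    rw [← hidx] at h'
    have hpos : 0 < E.relIndex N * E.relIndex N * (N.index * (Nat.card E * Nat.card E)) := by
      have : E.index ≠ 0 := index_ne_zero_of_finite
      rw [← hidx] at this
      have hc : 0 < Nat.card E := Nat.card_pos
      have h1 : 0 < E.relIndex N := Nat.pos_of_ne_zero (left_ne_zero_of_mul this)
      have h2 : 0 < N.index := Nat.pos_of_ne_zero (right_ne_zero_of_mul this)
      positivity
    refine Nat.le_of_mul_le_mul_right ?_ hpos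
    calc N.index * (E.relIndex N * E.relIndex N * (N.index * (Nat.card E * Nat.card E)))
        = (N.index * E.relIndex N * Nat.card E) ^ 2 := by ring
      _ ≤ _ := h'
      _ = _ := by ring
  have hpow : ¬ 3 ∣ N.index := by
    intro h
    obtain ⟨k, hk⟩ := hk
    have h3 : 3 ∣ 2 ^ k := hk ▸ h.trans ⟨E.relIndex N, by rw [mul_comm]; exact hidx.symm⟩
    exact absurd (Nat.prime_three.dvd_of_dvd_pow h3) (by norm_num)
  -- the orbit sizes
  letI : Fintype (Quotient (orbitRel E (C ⧸ N))) := Fintype.ofFinite _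
  set sz : Quotient (orbitRel E (C ⧸ N)) → ℕ := fun w => Nat.card (orbit E w.out) with hsz
  have hsum : ∑ w, sz w = N.index := by
    rw [index_eq_card, Nat.card_congr (selfEquivSigmaOrbits E (C ⧸ N)), Nat.card_sigma]
  have hszodd : ∀ w, Odd (sz w) := fun w => by
    refine Odd.of_dvd_nat hodd ⟨Nat.card (stabilizer E w.out), ?_⟩
    letI := Fintype.ofFinite E
    show Nat.card E = Nat.card (orbit E w.out) * _
    rw [Nat.card_eq_fintype_card, Nat.card_eq_fintype_card, Nat.card_eq_fintype_card]
    exact (card_orbit_mul_card_stabilizer_eq_card_group E w.out).symm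
  have hone : ∀ y : C ⧸ N, Nat.card (orbit E y) = 1 → y = QuotientGroup.mk 1 := by
    intro y hy
    obtain ⟨x, rfl⟩ := QuotientGroup.mk_surjective y
    have hfixall : ∀ e : E, (e : C) • (x : C ⧸ N) = (x : C ⧸ N) := fun e =>
      congrArg Subtype.val (@Subsingleton.elim _ (Nat.card_eq_one_iff_unique.1 hy).1
        (⟨_, mem_orbit _ e⟩ : orbit E (x : C ⧸ N)) ⟨_, mem_orbit_self _⟩)
    have hxE : E.map (MulAut.conj x⁻¹).toMonoidHom = E := by
      refine eq_of_le_of_card_ge ?_ (by rw [card_map_of_injective (MulEquiv.injective _)])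
      rintro _ ⟨e, he, rfl⟩
      show x⁻¹ * e * x⁻¹⁻¹ ∈ E
      rw [inv_inv]
      refine mem_of_odd hEN le_rfl hk (fixed_iff.1 (hfixall ⟨e, he⟩)) ?_
      have e' : orderOf (x⁻¹ * e * x) = orderOf e := by simpa using ord_conj x⁻¹ e
      rw [e', ← Subgroup.orderOf_mk (H := E) e he]
      exact Odd.of_dvd_nat hodd (_root_.orderOf_dvd_natCard _)
    have hxN : x⁻¹ ∈ N := by
      refine mem_normalizer_fintype fun e he => ?_
      have h : (MulAut.conj x⁻¹).toMonoidHom e ∈ E.map (MulAut.conj x⁻¹).toMonoidHom := ⟨e, he, rfl⟩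
      rwa [hxE] at h
    rw [QuotientGroup.eq, mul_one]
    exact hxN
  have hbase : ∀ e : E, (e : C) • (QuotientGroup.mk 1 : C ⧸ N) = QuotientGroup.mk 1 := fun e =>
    fixed_iff.2 (by simpa using hEN e.2)
  set w0 : Quotient (orbitRel E (C ⧸ N)) := Quotient.mk'' (QuotientGroup.mk 1) with hw0
  have hw0eq : ∀ y : C ⧸ N, y ∈ orbit E (QuotientGroup.mk 1 : C ⧸ N) → y = QuotientGroup.mk 1 := by
    rintro _ ⟨e, rfl⟩
    exact hbase e
  have hsz0 : sz w0 = 1 := by
    have ho : w0.out = QuotientGroup.mk 1 := hw0eq _ (Quotient.exact' (Quotient.out_eq' w0))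
    rw [hsz]
    show Nat.card (orbit E w0.out) = 1
    rw [ho, Nat.card_eq_one_iff_unique]
    exact ⟨⟨fun a b => Subtype.ext ((hw0eq _ a.2).trans (hw0eq _ b.2).symm)⟩,
      ⟨⟨_, mem_orbit_self _⟩⟩⟩
  have hge : ∀ w, w ≠ w0 → 3 ≤ sz w := fun w hw => by
    obtain ⟨m, hm⟩ := hszodd w
    rcases Nat.eq_zero_or_pos m with rfl | hm0
    · refine absurd ?_ hw
      have := hone _ (by simpa [hsz] using hm)
      rw [hw0, ← this, Quotient.out_eq']
    · omega
  have hRcard : R = Fintype.card (Quotient (orbitRel E (C ⧸ N))) := Nat.card_eq_fintype_card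
  have hbig : ∀ w, w ≠ w0 → sz w = 3 := by
    intro w hw
    obtain ⟨m, hm⟩ := hszodd w
    have hex := hge w hw
    by_contra hne
    have hlow : sz w0 + sz w + 3 * (R - 2) ≤ N.index := by
      rw [← hsum, ← Finset.add_sum_erase _ _ (Finset.mem_univ w0),
        ← Finset.add_sum_erase _ _ (Finset.mem_erase.2 ⟨hw, Finset.mem_univ w⟩), add_assoc]
      refine Nat.add_le_add_left (Nat.add_le_add_left ?_ _) _
      refine le_trans (le_of_eq ?_) (Finset.card_nsmul_le_sum _ _ 3 fun v hv => hge v ?_)
      · rw [Finset.card_erase_of_mem (Finset.mem_erase.2 ⟨hw, Finset.mem_univ w⟩),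
          Finset.card_erase_of_mem (Finset.mem_univ w0), Finset.card_univ, ← hRcard, smul_eq_mul]
        omega
      · simp only [Finset.mem_erase] at hv
        exact hv.2.1
    have h2 : 2 ≤ R := by
      rw [hRcard]
      exact Fintype.one_lt_card_iff.2 ⟨w, w0, hw⟩
    refine hpow ⟨R, ?_⟩
    omega
  intro y
  have hy : orbit E y = orbit E (Quotient.mk'' y : Quotient (orbitRel E (C ⧸ N))).out :=
    (orbit_eq_iff.2 (Quotient.exact' (Quotient.out_eq'
      (Quotient.mk'' y : Quotient (orbitRel E (C ⧸ N)))))).symm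
  rw [hy]
  by_cases hw : (Quotient.mk'' y : Quotient (orbitRel E (C ⧸ N))) = w0
  · rw [hw]; exact Or.inl hsz0
  · exact Or.inr (hbig _ hw)

include hodd hk hcore hL in
theorem isMulCommutative_E : IsMulCommutative E := by
  classical
  set N := normalizer (E : Set C) with hN
  have key : ∀ (y : C ⧸ N) (g : E), g ∈ commutator E → g • y = y := by
    intro y g hg
    have hs : commutator E ≤ stabilizer E y := by
      have hi : (stabilizer E y).index = Nat.card (orbit E y) := by
        rw [index_stabilizer, Nat.card_coe_set_eq]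
      rcases orbit_le hodd hk hL y with h | h <;> rw [h] at hi
      · rw [index_eq_one.1 hi]; exact le_top
      · have hd : 3 ∣ Nat.card E := hi ▸ index_dvd_card _
        have hmin : (Nat.card E).minFac = 3 := by
          have hne : Nat.card E ≠ 1 := fun e => by rw [e] at hd; norm_num at hd
          have h3 := Nat.minFac_le_of_dvd (by norm_num : 2 ≤ 3) hd
          have hp := Nat.minFac_prime hne
          have h2 : (Nat.card E).minFac ≠ 2 := fun e =>
            Nat.not_even_iff_odd.2 hodd (even_iff_two_dvd.2 (e ▸ Nat.minFac_dvd _))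
          have := hp.two_le
          omega
        haveI : (stabilizer E y).Normal := normal_of_index_eq_minFac_card (hi.trans hmin.symm)
        haveI : Fact (Nat.Prime 3) := ⟨Nat.prime_three⟩
        haveI : IsCyclic (E ⧸ stabilizer E y) := isCyclic_of_prime_card (p := 3) (by
          rw [← index_eq_card, hi])
        letI : CommGroup (E ⧸ stabilizer E y) := IsCyclic.commGroup
        rw [commutator_def, commutator_le]
        intro a _ b _
        rw [← QuotientGroup.eq_one_iff]
        show QuotientGroup.mk' _ ⁅a, b⁆ = 1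
        rw [map_commutatorElement, commutatorElement_eq_one_iff_mul_comm, mul_comm]
    exact mem_stabilizer_iff.1 (hs hg)
  have hbot : (commutator E).map E.subtype ≤ E.normalCore := by
    rintro _ ⟨g, hg, rfl⟩
    intro b
    refine mem_of_odd (le_normalizer) le_rfl hk ?_ ?_
    · have h := fixed_iff.1 (key (QuotientGroup.mk b⁻¹) g hg)
      rw [inv_inv] at h
      exact h
    · rw [ord_conj, Subgroup.subtype_apply, Subgroup.orderOf_coe]
      exact Odd.of_dvd_nat hodd (_root_.orderOf_dvd_natCard g)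
  rw [hcore, le_bot_iff, map_eq_bot_iff_of_injective _ E.subtype_injective] at hbot
  exact ⟨⟨fun a b => by
    have h : ⁅a, b⁆ ∈ commutator E :=
      commutator_mem_commutator (Subgroup.mem_top a) (Subgroup.mem_top b)
    rw [hbot, Subgroup.mem_bot, commutatorElement_eq_one_iff_mul_comm] at h
    exact h⟩⟩

include hodd hk hcore hL in
/-- The bound. -/
theorem card_le_three : Nat.card E ≤ 3 := by
  classical
  haveI := isMulCommutative_E hodd hk hcore hL
  obtain ⟨k, hk'⟩ := hk
  haveI : Fact (Nat.Prime 2) := ⟨Nat.prime_two⟩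
  obtain ⟨T⟩ := (inferInstance : Nonempty (Sylow 2 C))
  have hcard : Nat.card E * 2 ^ k = Nat.card C := hk' ▸ card_mul_index E
  have hcop : (Nat.card E).Coprime (2 ^ k) :=
    Nat.Coprime.pow_right k (Nat.coprime_two_right.2 hodd)
  have hT : Nat.card (T : Subgroup C) = 2 ^ k := by
    rw [T.card_eq_multiplicity, ← hcard, Nat.factorization_mul_apply_of_coprime hcop,
      Nat.factorization_eq_zero_of_not_dvd (fun h =>
        Nat.not_even_iff_odd.2 hodd (even_iff_two_dvd.2 h)), zero_add,
      Nat.Prime.factorization_pow Nat.prime_two, Finsupp.single_eq_same]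
  have hprod : ∀ g : C, ∃ a ∈ E, ∃ b ∈ (T : Subgroup C), g = a * b := by
    intro g
    have hc := isComplement'_of_coprime (H := E) (K := (T : Subgroup C)) (by rw [hT, hcard])
      (by rw [hT]; exact hcop)
    obtain ⟨⟨a, b⟩, h⟩ := hc.2 g
    exact ⟨a, a.2, b, b.2, h.symm⟩
  letI : CommGroup E :=
    { (inferInstance : Group E) with mul_comm := fun a b => mul_comm' a b }
  haveI : Group.IsSolvable C :=
    (Cfsg.Agent.S0563.result E (T : Subgroup C)
      (CommGroup.isNilpotent (G := E)) T.isPGroup'.isNilpotent (hT ▸ hcop) hprod).1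
  have hO : pPrimeCore 2 C = ⊥ := by
    refine CfsgLib.Base.pPrimeCore_eq_bot_iff.2 fun W hW hc => ?_
    rw [← le_bot_iff, ← hcore]
    haveI := hW
    rw [normal_le_normalCore]
    have hdiv : Nat.card (W ⊔ E : Subgroup C) ∣ Nat.card E := by
      have hd1 : Nat.card (W ⊔ E : Subgroup C) ∣ Nat.card E * 2 ^ k :=
        hcard.symm ▸ card_subgroup_dvd_card _
      refine Nat.Coprime.dvd_of_dvd_mul_right ?_ hd1
      refine Nat.Coprime.pow_right k (Nat.coprime_two_right.2 ?_)
      refine Odd.of_dvd_nat ((Nat.coprime_two_right.1 hc).mul hodd) ?_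
      rw [sup_comm, mul_comm]
      exact CfsgLib.Base.card_sup_dvd E W
    have := eq_of_le_of_card_ge (le_sup_right : E ≤ W ⊔ E)
      (Nat.le_of_dvd Nat.card_pos hdiv)
    exact this ▸ le_sup_left
  set P := pCore 2 C with hP
  have hPp : IsPGroup 2 P := CfsgLib.Base.isPGroup_pCore 2 C
  have hPn : P.Normal := Cfsg.pCore_normal 2 C
  have hdisj : ∀ g ∈ E, g ∈ P → g = 1 := fun g hg hg' => by
    obtain ⟨m, hm⟩ := hPp ⟨g, hg'⟩
    have h1 : orderOf g ∣ 2 ^ m := orderOf_dvd_of_pow_eq_one (congrArg Subtype.val hm)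
    have h2 : orderOf g ∣ Nat.card E := by
      rw [← Subgroup.orderOf_mk (H := E) g hg]; exact _root_.orderOf_dvd_natCard _
    exact orderOf_eq_one_iff.1 (Nat.eq_one_of_dvd_coprimes
      (Nat.Coprime.pow_left m (Nat.coprime_two_left.2 hodd)) h1 h2)
  have hoddE : ∀ e : E, Odd (orderOf (e : C)) := fun e => by
    rw [Subgroup.orderOf_coe]
    exact Odd.of_dvd_nat hodd (_root_.orderOf_dvd_natCard e)
  -- the conjugates under `P`
  let Orb : E → Set C := fun e => Set.range fun x : P => (x : C) * (e : C) * (x : C)⁻¹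
  have horb : ∀ e : E, e ≠ 1 → 4 ≤ Nat.card (Orb e) := by
    intro e he
    set D := (centralizer ({(e : C)} : Set C)).subgroupOf P with hD
    have hDmem : ∀ x : P, x ∈ D ↔ (x : C) * (e : C) = (e : C) * (x : C) := fun x => by
      rw [hD, mem_subgroupOf, mem_centralizer_singleton_iff]
    have hcardO : Nat.card (Orb e) = D.index := by
      let F : P ⧸ D → Orb e := fun q => Quotient.liftOn' q
        (fun x => (⟨(x : C) * e * (x : C)⁻¹, x, rfl⟩ : Orb e)) (fun a b h => Subtype.ext (by
          rw [QuotientGroup.leftRel_apply, hDmem, Subgroup.coe_mul, Subgroup.coe_inv] at h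
          show (a : C) * e * (a : C)⁻¹ = b * e * (b : C)⁻¹
          calc (a : C) * e * (a : C)⁻¹ = a * (e * ((a : C)⁻¹ * b)) * (b : C)⁻¹ := by group
            _ = a * ((a : C)⁻¹ * b * e) * (b : C)⁻¹ := by rw [h]
            _ = b * e * (b : C)⁻¹ := by group))
      have hF : Function.Bijective F := by
        refine ⟨fun q q' hq => ?_, fun ⟨_, x, rfl⟩ => ⟨QuotientGroup.mk x, rfl⟩⟩
        obtain ⟨a, rfl⟩ := QuotientGroup.mk_surjective q
        obtain ⟨b, rfl⟩ := QuotientGroup.mk_surjective q'
        have h : (a : C) * e * (a : C)⁻¹ = b * e * (b : C)⁻¹ := congrArg Subtype.val hq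
        rw [QuotientGroup.eq, hDmem, Subgroup.coe_mul, Subgroup.coe_inv]
        calc (a : C)⁻¹ * b * e = (a : C)⁻¹ * (b * e * (b : C)⁻¹) * b := by group
          _ = (e : C) * ((a : C)⁻¹ * b) := by rw [← h]; group
      rw [index_eq_card]
      exact (Nat.card_congr (Equiv.ofBijective F hF)).symm
    obtain ⟨i, hi⟩ := hPp.index D
    rw [hcardO, hi]
    have hne : i ≠ 0 := by
      intro hi0
      rw [hi0, pow_zero, index_eq_one] at hi
      refine he (Subtype.ext (hdisj _ e.2 ?_))
      refine CfsgLib.Base.centralizer_pCore_le_of_isSolvable hO ?_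
      exact mem_centralizer_iff.2 fun x hx => (hDmem ⟨x, hx⟩).1 (hi ▸ Subgroup.mem_top _)
    have hne1 : i ≠ 1 := by
      intro hi1
      rw [hi1, pow_one] at hi
      obtain ⟨x, hx⟩ : ∃ x : P, x ∉ D := by
        by_contra hno
        push Not at hno
        rw [index_eq_one.2 (eq_top_iff.2 fun x _ => hno x)] at hi
        omega
      set y : P := ⟨(e : C) * x * (e : C)⁻¹, hPn.conj_mem x x.2 e⟩ with hy
      have hyD : y ∉ D := fun h => hx ((hDmem x).2 (by
        have h' := (hDmem y).1 h
        have h'' : (e : C) * x * (e : C)⁻¹ * e = (e : C) * ((e : C) * x * (e : C)⁻¹) := h'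
        rw [inv_mul_cancel_right, mul_assoc, ← mul_assoc (e : C) (x : C)] at h''
        calc (x : C) * e = (e : C) * x * (e : C)⁻¹ * e := by
              rw [inv_mul_cancel_right]
              have h3 := mul_left_cancel h''
              nth_rewrite 1 [h3]
              group
          _ = (e : C) * x := inv_mul_cancel_right _ _))
      have hd : x⁻¹ * y ∈ D := by
        rw [mul_mem_iff_of_index_two hi, inv_mem_iff]
        exact iff_of_false hx hyD
      set d : C := (x : C)⁻¹ * ((e : C) * x * (e : C)⁻¹) with hdd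
      have hde : d * e = e * d := (hDmem _).1 hd
      have key : ∀ n : ℕ, (e : C) ^ n * x * ((e : C) ^ n)⁻¹ = x * d ^ n := by
        intro n
        induction n with
        | zero => simp
        | succ n ih =>
          have hc : (e : C) * d ^ n = d ^ n * e := ((show Commute d (e : C) from hde).pow_left n).eq.symm
          calc (e : C) ^ (n + 1) * x * ((e : C) ^ (n + 1))⁻¹
              = (e : C) * ((e : C) ^ n * x * ((e : C) ^ n)⁻¹) * (e : C)⁻¹ := by
                rw [pow_succ']; group
            _ = (e : C) * x * (e : C)⁻¹ * ((e : C) * d ^ n * (e : C)⁻¹) := by rw [ih]; group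
            _ = x * d * d ^ n := by rw [hc, mul_inv_cancel_right, hdd]; group
            _ = x * d ^ (n + 1) := by rw [pow_succ', mul_assoc]
      have h1 := key (orderOf (e : C))
      rw [pow_orderOf_eq_one, one_mul, inv_one, mul_one] at h1
      have hdn : d ^ orderOf (e : C) = 1 := left_eq_mul.1 h1
      obtain ⟨m, hm⟩ := hPp (x⁻¹ * y)
      have hm' : d ^ 2 ^ m = 1 := congrArg Subtype.val hm
      have hd1 : d = 1 := orderOf_eq_one_iff.1 (Nat.eq_one_of_dvd_coprimes
        (Nat.Coprime.pow_left m (Nat.coprime_two_left.2 (hoddE e)))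
        (orderOf_dvd_of_pow_eq_one hm') (orderOf_dvd_of_pow_eq_one hdn))
      refine hx ((hDmem x).2 ?_)
      have : (x : C) = (e : C) * x * (e : C)⁻¹ := by
        rw [hdd, inv_mul_eq_one] at hd1
        exact hd1
      conv_lhs => rw [this, inv_mul_cancel_right]
    exact le_trans (by norm_num) (Nat.pow_le_pow_right (by norm_num) (show 2 ≤ i by omega))
  have hinj : Function.Injective fun w : Σ e : E, Orb e =>
      (⟨w.2.1, by
        obtain ⟨x, hx⟩ := w.2.2
        rw [← hx, ord_conj]
        exact hoddE w.1⟩ : {g : C // Odd (orderOf g)}) := by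
    rintro ⟨e, ⟨a, x, hx⟩⟩ ⟨e', ⟨a', x', hx'⟩⟩ h
    have haa : a = a' := congrArg Subtype.val h
    have hee : e = e' := by
      refine Subtype.ext ?_
      have hx2 : (x : C) * e * (x : C)⁻¹ = (x' : C) * e' * (x' : C)⁻¹ := hx.trans (haa.trans hx'.symm)
      have hm : (e' : C) * (e : C)⁻¹ ∈ P := by
        set u : C := (x' : C)⁻¹ * x with hu
        have huP : u ∈ P := mul_mem (inv_mem x'.2) x.2
        have he' : (e' : C) = u * e * u⁻¹ := by
          calc (e' : C) = (x' : C)⁻¹ * ((x' : C) * e' * (x' : C)⁻¹) * x' := by group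
            _ = u * e * u⁻¹ := by rw [← hx2, hu]; group
        rw [he', show u * e * u⁻¹ * (e : C)⁻¹ = u * ((e : C) * u⁻¹ * (e : C)⁻¹) by group]
        exact mul_mem huP (hPn.conj_mem _ (inv_mem huP) e)
      exact (mul_inv_eq_one.1 (hdisj _ (mul_mem e'.2 (inv_mem e.2)) hm)).symm
    subst hee
    subst haa
    rfl
  have hcount := Nat.card_le_card_of_injective _ hinj
  letI := Fintype.ofFinite E
  rw [Nat.card_sigma, ← Finset.add_sum_erase _ _ (Finset.mem_univ (1 : E))] at hcount
  have h4 : (Fintype.card E - 1) * 4 ≤ ∑ e ∈ Finset.univ.erase (1 : E), Nat.card (Orb e) := by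
    have := Finset.card_nsmul_le_sum (Finset.univ.erase (1 : E)) (fun e => Nat.card (Orb e)) 4
      fun e he => horb e (Finset.ne_of_mem_erase he)
    rwa [Finset.card_erase_of_mem (Finset.mem_univ _), Finset.card_univ, smul_eq_mul] at this
  haveI : Nonempty (Orb 1) := ⟨⟨_, (1 : P), rfl⟩⟩
  have h1 : 1 ≤ Nat.card (Orb 1) := Nat.card_pos
  rw [← Nat.card_eq_fintype_card] at h4
  omega

end TwoThreeEndAux

open TwoThreeEndAux in
theorem two_three_end : TwoThreeEndStmt.{u, v} := by
  intro G _ _ Ω _ _ p h2 hp4 t a b h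
  classical
  haveI := h2.faithful
  set C := Subgroup.centralizer ({t} : Set G) with hC
  set E : Subgroup C := (stabilizer G b).subgroupOf C with hE
  have hcE : Nat.card E = Nat.card (C ⊓ stabilizer G b : Subgroup G) := by
    rw [hE, ← Subgroup.inf_subgroupOf_right, inf_comm]
    exact Nat.card_congr (Subgroup.subgroupOfEquivOfLe inf_le_left).toEquiv
  obtain ⟨k, hk⟩ := h.two_pow
  have hidx : E.index = 2 ^ k := by
    refine mul_left_cancel₀ (Nat.card_pos (α := E)).ne' ?_
    rw [Subgroup.card_mul_index, hcE, ← hk]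
    exact h.card_cent.trans (mul_comm _ _)
  have hcore : E.normalCore = ⊥ := by
    rw [Subgroup.eq_bot_iff_forall]
    intro g hg
    refine Subtype.ext ?_
    refine eq_of_smul_eq_smul (α := Ω) fun x => ?_
    rw [OneMemClass.coe_one, one_smul]
    by_cases hx : x = a
    · subst hx; exact h.cent_le g.2
    · obtain ⟨s, hs, rfl⟩ := h.trans x hx
      have := hg ⟨s, hs⟩⁻¹
      have h' : (s⁻¹ * (g : G) * s⁻¹⁻¹) • b = b := this
      rw [inv_inv, mul_smul, mul_smul, inv_smul_eq_iff] at h'
      exact h'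
  have hL : Nat.card {g : C // Odd (orderOf g)} ≤ 3 * Nat.card E := by
    rw [hcE]
    refine le_trans (le_of_eq ?_) h.odd_count
    refine Nat.card_congr
      { toFun := fun g => ⟨g.1.1, (Subgroup.mem_centralizer_singleton_iff.1 g.1.2).symm,
          by rw [Subgroup.orderOf_coe]; exact g.2⟩
        invFun := fun g => ⟨⟨g.1, Subgroup.mem_centralizer_singleton_iff.2 g.2.1.eq.symm⟩,
          by rw [← Subgroup.orderOf_coe]; exact g.2.2⟩
        left_inv := fun g => rfl
        right_inv := fun g => rfl }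
  have h3 : Nat.card E = 3 := by
    have hle := card_le_three (hcE ▸ h.odd) ⟨k, hidx⟩ hcore hL
    have hd := hcE ▸ h.three_dvd
    have hpos := Nat.card_pos (α := E)
    obtain ⟨i, hi⟩ := hd
    omega
  -- the order of the group
  have hcC : cC t = (3 * p - 1) * 3 := by rw [h.card_cent, ← hcE, h3]
  have hf := h2.formula t h.invol
  rw [hcC, f0, if_neg (by omega)] at hf
  obtain ⟨N, hN, hN1⟩ := h2.index
  rw [hN] at hf
  have hp := h2.prime
  have h3p := h2.three_lt
  have hpos : 0 < p * (3 * p - 1) ^ 2 := Nat.mul_pos hp.pos (pow_pos (by omega) 2)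
  have e : 2 * N = 9 * (3 * p - 1) * (3 * p - 2) := by
    refine Nat.eq_of_mul_eq_mul_right hpos ?_
    calc 2 * N * (p * (3 * p - 1) ^ 2) = 2 * p * N * (3 * p - 1) ^ 2 := by ring
      _ = p * (3 * p - 1) * (3 * p - 2) * ((3 * p - 1) * 3) ^ 2 := hf
      _ = _ := by ring
  have e' : ((2 * N : ℕ) : ZMod p) = ((9 * (3 * p - 1) * (3 * p - 2) : ℕ) : ZMod p) := by rw [e]
  rw [Nat.cast_mul, (ZMod.natCast_eq_natCast_iff N 1 p).2 hN1] at e'
  push_cast [Nat.cast_sub (show 1 ≤ 3 * p by omega), Nat.cast_sub (show 2 ≤ 3 * p by omega),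
    ZMod.natCast_self] at e'
  ring_nf at e'
  have h16 : ((16 : ℕ) : ZMod p) = 0 := by
    push_cast
    linear_combination (-1 : ZMod p) * e'
  rw [CharP.cast_eq_zero_iff (ZMod p) p] at h16
  have := Nat.le_of_dvd (by norm_num) ((Nat.prime_dvd_prime_iff_eq hp Nat.prime_two).1
    (hp.dvd_of_dvd_pow (show p ∣ 2 ^ 4 by simpa using h16)) ▸ dvd_rfl : p ∣ 2)
  omega

end CfsgLib.DegreeThreeP
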